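import Groth.Prelude.Def_CotT2

/-!
Basic facts on the cotangent complex of a presentation.
-/

set_option linter.style.haveILetI false
set_option linter.style.longLine false
set_option linter.unusedSectionVars false

noncomputable section

universe u v w t m m'

open TensorProduct

namespace Groth.ArtfunDeform

open CotT

variable {A : Type u} {B : Type v} {ι : Type w} {σ : Type t}
variable [CommRing A] [CommRing B] [Algebra A B]
variable (P : Algebra.Presentation A B ι σ)

lemma ring_surjective : Function.Surjective (algebraMap P.toExtension.Ring B) :=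
  P.toExtension.algebraMap_surjective

lemma exists_one_tmul {N : Type*} [AddCommMonoid N] [Module P.toExtension.Ring N]
    (z : B ⊗[P.toExtension.Ring] N) : ∃ x : N, (1 : B) ⊗ₜ x = z :=
  TensorProduct.mk_surjective P.toExtension.Ring N B (ring_surjective P) z

lemma exists_l2_mk (z : L2 P) : ∃ q : relKer P, Submodule.Quotient.mk ((1 : B) ⊗ₜ q) = z := by
  obtain ⟨y, rfl⟩ := Submodule.Quotient.mk_surjective _ z
  obtain ⟨q, rfl⟩ := exists_one_tmul P y
  exact ⟨q, rfl⟩

/-- The class of a relation in `L₂`. -/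
def l2mk : relKer P →ₗ[P.toExtension.Ring] L2 P :=
  ((Submodule.mkQ (LinearMap.range ((trivRelKer P).subtype.baseChange B))).restrictScalars P.toExtension.Ring).comp
    (TensorProduct.mk P.toExtension.Ring B (relKer P) 1)

lemma l2mk_surjective : Function.Surjective (l2mk P) := exists_l2_mk P

lemma l2mk_eq_zero {q : relKer P} (h : (q : relMod P) ∈ trivRel P) : l2mk P q = 0 :=
  (Submodule.Quotient.mk_eq_zero _).2 ⟨(1 : B) ⊗ₜ ⟨q, h⟩, rfl⟩

lemma d2_l2mk (q : relKer P) : d2 P (l2mk P q) = (1 : B) ⊗ₜ (q : relMod P) := d2_mk_tmul P 1 q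

lemma jker_surjective : Function.Surjective (jker P) := fun x => by
  have hx : (x : P.toExtension.Ring) ∈ LinearMap.range (jmap P) := by
    rw [range_jmap]
    exact x.2
  obtain ⟨f, hf⟩ := hx
  exact ⟨f, Subtype.ext hf⟩

lemma toCot_one_tmul (f : relMod P) :
    toCot P ((1 : B) ⊗ₜ f) = Algebra.Extension.Cotangent.mk (jker P f) := by
  rw [toCot_tmul, one_smul]

lemma toCot_surjective : Function.Surjective (toCot P) := fun x => by
  obtain ⟨y, rfl⟩ := Algebra.Extension.Cotangent.mk_surjective x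
  obtain ⟨f, rfl⟩ := jker_surjective P y
  exact ⟨(1 : B) ⊗ₜ f, toCot_one_tmul P f⟩

lemma mem_range_d2 {z : L1 P} (hz : toCot P z = 0) : z ∈ LinearMap.range (d2 P) := by
  obtain ⟨f, rfl⟩ := exists_one_tmul P z
  rw [toCot_one_tmul, Algebra.Extension.Cotangent.mk_eq_zero_iff, pow_two] at hz
  have key : ∀ x : P.toExtension.Ring, x ∈ P.toExtension.ker * P.toExtension.ker →
      ∃ g : relMod P, jmap P g = x ∧ (1 : B) ⊗ₜ g = (0 : L1 P) := by
    intro x hx
    induction hx using Submodule.mul_induction_on' with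
    | mem_mul_mem a ha b hb =>
      obtain ⟨g, hg⟩ := jker_surjective P ⟨b, hb⟩
      refine ⟨a • g, ?_, ?_⟩
      · rw [map_smul, smul_eq_mul, show jmap P g = b from congrArg Subtype.val hg]
      · rw [TensorProduct.tmul_smul, TensorProduct.smul_tmul', Algebra.smul_def,
          show algebraMap P.toExtension.Ring B a = 0 from ha, zero_mul, TensorProduct.zero_tmul]
    | add a _ b _ hx hy =>
      obtain ⟨g, hg, hg'⟩ := hx
      obtain ⟨g', hg1, hg1'⟩ := hy
      exact ⟨g + g', by rw [map_add, hg, hg1], by rw [TensorProduct.tmul_add, hg', hg1', add_zero]⟩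
  obtain ⟨g, hg, hg'⟩ := key _ hz
  have hq : f - g ∈ relKer P := by
    change jmap P (f - g) = 0
    rw [map_sub, hg]
    exact sub_self _
  refine ⟨l2mk P ⟨f - g, hq⟩, ?_⟩
  rw [d2_l2mk]
  change (1 : B) ⊗ₜ (f - g) = _
  rw [TensorProduct.tmul_sub, hg', sub_zero]

lemma exact_d2_toCot : Function.Exact (d2 P) (toCot P) := fun z =>
  ⟨mem_range_d2 P, fun ⟨y, hy⟩ => hy ▸ LinearMap.congr_fun (toCot_comp_d2 P) y⟩

variable (M : Type m) [AddCommGroup M] [Module B M]

/-- Cocycles factor through the conormal module. -/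
lemma exists_factor_cotangent (φ : cocycles1 P M) :
    ∃ ψ : P.toExtension.Cotangent →ₗ[B] M, ψ ∘ₗ toCot P = (φ : L1 P →ₗ[B] M) := by
  have hφ : LinearMap.ker (toCot P) ≤ LinearMap.ker (φ : L1 P →ₗ[B] M) := fun z hz => by
    obtain ⟨y, rfl⟩ := mem_range_d2 P hz
    exact LinearMap.congr_fun (show (φ : L1 P →ₗ[B] M) ∘ₗ d2 P = 0 from φ.2) y
  refine ⟨(Submodule.liftQ _ (φ : L1 P →ₗ[B] M) hφ).comp
    ((toCot P).quotKerEquivOfSurjective (toCot_surjective P)).symm.toLinearMap, LinearMap.ext fun z => ?_⟩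
  have : ((toCot P).quotKerEquivOfSurjective (toCot_surjective P)).symm (toCot P z) = Submodule.Quotient.mk z :=
    (LinearEquiv.symm_apply_eq _).2 rfl
  rw [LinearMap.comp_apply, LinearMap.comp_apply, LinearEquiv.coe_coe, this]
  rfl

lemma homToT1_eq (ψ : P.toExtension.Cotangent →ₗ[B] M) (φ : cocycles1 P M)
    (h : ψ ∘ₗ toCot P = (φ : L1 P →ₗ[B] M)) : homToT1 P M ψ = Submodule.Quotient.mk φ :=
  congrArg Submodule.Quotient.mk (Subtype.ext h)

lemma homToT1_surjective : Function.Surjective (homToT1 P M) := fun z => by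
  obtain ⟨φ, rfl⟩ := Submodule.Quotient.mk_surjective _ z
  obtain ⟨ψ, hψ⟩ := exists_factor_cotangent P M φ
  exact ⟨ψ, homToT1_eq P M ψ φ hψ⟩

lemma comp_toCot_injective {ψ ψ' : P.toExtension.Cotangent →ₗ[B] M} (h : ψ ∘ₗ toCot P = ψ' ∘ₗ toCot P) :
    ψ = ψ' := LinearMap.ext fun x => by
  obtain ⟨z, rfl⟩ := toCot_surjective P x
  exact LinearMap.congr_fun h z

lemma homToT1_eq_zero_iff (ψ : P.toExtension.Cotangent →ₗ[B] M) :
    homToT1 P M ψ = 0 ↔ ∃ χ : L0 P →ₗ[B] M, χ ∘ₗ P.toExtension.cotangentComplex = ψ := by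
  refine (Submodule.Quotient.mk_eq_zero _).trans ⟨fun ⟨χ, hχ⟩ => ⟨χ, comp_toCot_injective P M ?_⟩,
    fun ⟨χ, hχ⟩ => ⟨χ, ?_⟩⟩
  · rw [LinearMap.comp_assoc]
    exact hχ
  · change χ ∘ₗ d1 P = ψ ∘ₗ toCot P
    rw [← hχ, LinearMap.comp_assoc]
    rfl

lemma mem_ker_d1Star_iff (χ : L0 P →ₗ[B] M) :
    χ ∈ LinearMap.ker (d1Star P M) ↔ χ ∘ₗ P.toExtension.cotangentComplex = 0 :=
  ⟨fun h => comp_toCot_injective P M (by rw [LinearMap.zero_comp, LinearMap.comp_assoc]; exact h),
    fun h => by
      rw [LinearMap.mem_ker, d1Star_apply, d1, ← LinearMap.comp_assoc, h, LinearMap.zero_comp]⟩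

section Der

variable [Module A M] [IsScalarTower A B M]

theorem derToT0_bijective : Function.Bijective (derToT0 P M) := by
  refine ⟨fun D D' h => Derivation.ext fun b => ?_, fun χ => ?_⟩
  · obtain ⟨r, rfl⟩ := ring_surjective P b
    have h1 := LinearMap.congr_fun (congrArg Subtype.val h) ((1 : B) ⊗ₜ KaehlerDifferential.D A P.toExtension.Ring r)
    simpa using h1
  · have hχ := (mem_ker_d1Star_iff P M χ.1).1 χ.2
    have hker : LinearMap.ker P.toExtension.toKaehler ≤ LinearMap.ker χ.1 := fun z hz => by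
      obtain ⟨y, rfl⟩ := (P.toExtension.exact_cotangentComplex_toKaehler z).1 hz
      exact LinearMap.congr_fun hχ y
    let e := P.toExtension.toKaehler.quotKerEquivOfSurjective P.toExtension.toKaehler_surjective
    let g : Ω[B⁄A] →ₗ[B] M := (Submodule.liftQ _ χ.1 hker).comp e.symm.toLinearMap
    have hg : ∀ z, g (P.toExtension.toKaehler z) = χ.1 z := fun z => by
      have he : e.symm (P.toExtension.toKaehler z) = Submodule.Quotient.mk z := (LinearEquiv.symm_apply_eq _).2 rfl
      rw [LinearMap.comp_apply, LinearEquiv.coe_coe, he]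
      rfl
    refine ⟨g.compDer (KaehlerDifferential.D A B), Subtype.ext ((P.cotangentSpaceBasis).ext fun i => ?_)⟩
    rw [derToT0_apply, derLift_basis, ← hg, Algebra.Generators.cotangentSpaceBasis_apply]
    change g (KaehlerDifferential.D A B (P.val i)) = g (P.toExtension.toKaehler _)
    refine congrArg g ?_
    erw [KaehlerDifferential.mapBaseChange_tmul]
    rw [one_smul]
    erw [KaehlerDifferential.map_D]
    refine congrArg _ ?_
    exact ((algebraMap_toExtension P (MvPolynomial.X i)).trans (MvPolynomial.aeval_X _ _)).symm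

end Der

end Groth.ArtfunDeform
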