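import Groth.Prelude.Def_Exal
import Groth.Agent.ArtfunDeform.CotT.Basic

/-!
Extension classes and `T¹`.
-/

set_option linter.style.haveILetI false
set_option linter.style.longLine false
set_option linter.unusedSectionVars false

noncomputable section

universe u

open TensorProduct

namespace Groth.ArtfunDeform

open CotT Exal TrivSqZeroExt

variable {A B : Type u} [CommRing A] [CommRing B] [Algebra A B] {ι σ : Type u}
variable (P : Algebra.Presentation A B ι σ)
variable {M : Type u} [AddCommGroup M] [Module B M]

/-- `ψ` represents the extension `X`. -/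
def RepBy (X : Ext A B M) (ψ : P.toExtension.Cotangent →ₗ[B] M) : Prop :=
  ∃ f : P.toExtension.Ring →ₐ[A] X.E, (∀ r, X.proj (f r) = algebraMap P.toExtension.Ring B r) ∧
    ∀ x : P.toExtension.ker, f x = X.incl (ψ (Algebra.Extension.Cotangent.mk x))

variable {P}

lemma RepBy.of_equiv {X Y : Ext A B M} (e : Ext.Equiv X Y) {ψ} (h : RepBy P X ψ) : RepBy P Y ψ := by
  obtain ⟨f, hf, hψ⟩ := h
  exact ⟨e.toAlgEquiv.toAlgHom.comp f, fun r => (e.proj_apply _).trans (hf r),
    fun x => (congrArg e.toAlgEquiv (hψ x)).trans (e.apply_incl _)⟩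

lemma incl_mul_incl (X : Ext A B M) (a b : M) : X.incl a * X.incl b = 0 := by
  rw [X.isExtension.mul_incl, (X.isExtension.exact _).2 ⟨a, rfl⟩, zero_smul, map_zero]

lemma proj_incl (X : Ext A B M) (a : M) : X.proj (X.incl a) = 0 := (X.isExtension.exact _).2 ⟨a, rfl⟩

variable (P) in
/-- `r ↦ χ (1 ⊗ dr)`. -/
def diffPart (χ : L0 P →ₗ[B] M) (r : P.toExtension.Ring) : M :=
  χ ((1 : B) ⊗ₜ KaehlerDifferential.D A P.toExtension.Ring r)

lemma diffPart_mul (χ : L0 P →ₗ[B] M) (r s : P.toExtension.Ring) :
    diffPart P χ (r * s) = algebraMap P.toExtension.Ring B r • diffPart P χ s +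
      algebraMap P.toExtension.Ring B s • diffPart P χ r := by
  simp only [diffPart, Derivation.leibniz, TensorProduct.tmul_add, map_add, TensorProduct.tmul_smul,
    ← algebraMap_smul B r ((1 : B) ⊗ₜ[P.toExtension.Ring] KaehlerDifferential.D A P.toExtension.Ring s),
    ← algebraMap_smul B s ((1 : B) ⊗ₜ[P.toExtension.Ring] KaehlerDifferential.D A P.toExtension.Ring r),
    map_smul]

lemma diffPart_algebraMap (χ : L0 P →ₗ[B] M) (a : A) :
    diffPart P χ (algebraMap A P.toExtension.Ring a) = 0 := by
  rw [diffPart, Derivation.map_algebraMap, TensorProduct.tmul_zero, map_zero]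

/-- Twist of a lift by a map `L₀ → M`. -/
def twist (X : Ext A B M) (f : P.toExtension.Ring →ₐ[A] X.E)
    (hf : ∀ r, X.proj (f r) = algebraMap P.toExtension.Ring B r) (χ : L0 P →ₗ[B] M) :
    P.toExtension.Ring →ₐ[A] X.E where
  toFun r := f r + X.incl (diffPart P χ r)
  map_one' := by
    rw [map_one, ← map_one (algebraMap A P.toExtension.Ring), diffPart_algebraMap, map_zero, add_zero]
  map_mul' r s := by
    rw [map_mul, diffPart_mul, map_add, ← hf, ← hf, ← X.isExtension.mul_incl, ← X.isExtension.mul_incl,
      add_mul, mul_add, mul_add, incl_mul_incl, add_zero, mul_comm (X.incl _) (f s)]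
    abel
  map_zero' := by
    rw [map_zero, ← map_zero (algebraMap A P.toExtension.Ring), diffPart_algebraMap, map_zero, add_zero]
  map_add' r s := by
    simp only [diffPart, map_add, TensorProduct.tmul_add]
    abel
  commutes' a := by rw [AlgHom.commutes, diffPart_algebraMap, map_zero, add_zero]

lemma diffPart_ker (χ : L0 P →ₗ[B] M) (x : P.toExtension.ker) :
    diffPart P χ x = χ (P.toExtension.cotangentComplex (Algebra.Extension.Cotangent.mk x)) :=
  congrArg χ (Algebra.Extension.cotangentComplex_mk (P := P.toExtension) x).symm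

lemma RepBy.homToT1_eq {X : Ext A B M} {ψ ψ'} (h : RepBy P X ψ) (h' : RepBy P X ψ') :
    homToT1 P M ψ = homToT1 P M ψ' := by
  obtain ⟨f, hf, hψ⟩ := h
  obtain ⟨g, hg, hψ'⟩ := h'
  have hz : ∀ i : ι, X.proj (g (MvPolynomial.X i : P.Ring) - f (MvPolynomial.X i : P.Ring)) = 0 := fun i => by
    rw [map_sub, hf, hg, sub_self]
  let χ : L0 P →ₗ[B] M := P.cotangentSpaceBasis.constr B fun i => X.kerLift _ (hz i)
  have hgf : g = twist X f hf χ := MvPolynomial.algHom_ext fun i => by
    change g _ = f _ + X.incl (χ _)
    have hb : χ ((1 : B) ⊗ₜ KaehlerDifferential.D A P.toExtension.Ring (MvPolynomial.X i : P.Ring)) =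
        X.kerLift _ (hz i) := by
      refine (congrArg χ (Algebra.Generators.cotangentSpaceBasis_apply (P := P.toGenerators) i).symm).trans ?_
      exact P.cotangentSpaceBasis.constr_basis B _ i
    exact (eq_add_of_sub_eq' (Ext.incl_kerLift X _ (hz i)).symm).trans (by rw [hb])
  rw [eq_comm, ← sub_eq_zero, ← map_sub, homToT1_eq_zero_iff]
  refine ⟨χ, LinearMap.ext fun c => ?_⟩
  obtain ⟨x, rfl⟩ := Algebra.Extension.Cotangent.mk_surjective c
  refine X.isExtension.incl_injective ?_
  rw [LinearMap.comp_apply, LinearMap.sub_apply, map_sub, ← hψ, ← hψ', hgf, ← diffPart_ker]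
  exact (add_sub_cancel_left _ _).symm

lemma RepBy.of_homToT1_eq {X : Ext A B M} {ψ ψ'} (h : RepBy P X ψ) (he : homToT1 P M ψ = homToT1 P M ψ') :
    RepBy P X ψ' := by
  obtain ⟨f, hf, hψ⟩ := h
  obtain ⟨χ, hχ⟩ := (homToT1_eq_zero_iff P M (ψ' - ψ)).1 (by rw [map_sub, he, sub_self])
  refine ⟨twist X f hf χ, fun r => ?_, fun x => ?_⟩
  · change X.proj (f r + X.incl _) = _
    rw [map_add, hf, proj_incl, add_zero]
  · change f x + X.incl _ = _
    rw [hψ, diffPart_ker, ← LinearMap.comp_apply, hχ, LinearMap.sub_apply, ← map_add, add_sub_cancel]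

variable (P) in
lemma exists_repBy (X : Ext A B M) : ∃ ψ, RepBy P X ψ := by
  choose s hs using X.isExtension.proj_surjective
  let f : P.toExtension.Ring →ₐ[A] X.E := MvPolynomial.aeval fun i => s (P.val i)
  have hf : ∀ r, X.proj (f r) = algebraMap P.toExtension.Ring B r := fun r => by
    refine Eq.trans ?_ (algebraMap_toExtension P r).symm
    exact congrArg (fun g : MvPolynomial ι A →ₐ[A] B => g r) (MvPolynomial.algHom_ext (f := X.proj.comp f)
      (g := MvPolynomial.aeval P.val) fun i => by
        change X.proj (MvPolynomial.aeval (fun j => s (P.val j)) (MvPolynomial.X i)) = _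
        rw [MvPolynomial.aeval_X, MvPolynomial.aeval_X, hs])
  let : Module P.toExtension.Ring M := Module.compHom M (algebraMap P.toExtension.Ring B)
  haveI : IsScalarTower P.toExtension.Ring B M := IsScalarTower.of_compHom P.toExtension.Ring B M
  let D : P.toExtension.ker →ₗ[P.toExtension.Ring] M :=
    { toFun := fun x => X.kerLift (f x) ((hf x).trans x.2)
      map_add' := fun x y => X.isExtension.incl_injective (by
        rw [map_add, Ext.incl_kerLift, Ext.incl_kerLift, Ext.incl_kerLift]
        exact map_add f _ _)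
      map_smul' := fun r x => X.isExtension.incl_injective (by
        change _ = X.incl (algebraMap P.toExtension.Ring B r • X.kerLift (f x) ((hf x).trans x.2))
        rw [Ext.incl_kerLift, ← hf, ← X.isExtension.mul_incl, Ext.incl_kerLift]
        exact map_mul f _ _) }
  have hsq : (P.toExtension.ker • ⊤ : Submodule P.toExtension.Ring P.toExtension.ker) ≤ LinearMap.ker D := by
    refine Submodule.smul_le.2 fun r hr x _ => ?_
    rw [LinearMap.mem_ker, map_smul]
    change algebraMap P.toExtension.Ring B r • _ = (0 : M)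
    rw [show algebraMap P.toExtension.Ring B r = 0 from hr, zero_smul]
  let D' : P.toExtension.Cotangent →ₗ[P.toExtension.Ring] M :=
    (Submodule.liftQ (LinearMap.ker (Algebra.Extension.Cotangent.mk (P := P.toExtension))) D
      (le_of_eq_of_le (Algebra.Extension.Cotangent.ker_mk P.toExtension) hsq)).comp
      ((Algebra.Extension.Cotangent.mk (P := P.toExtension)).quotKerEquivOfSurjective
        Algebra.Extension.Cotangent.mk_surjective).symm.toLinearMap
  refine ⟨LinearMap.extendScalarsOfSurjective (ring_surjective P) D', f, hf, fun x => ?_⟩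
  have hx : D' (Algebra.Extension.Cotangent.mk x) = D x := by
    have he : ((Algebra.Extension.Cotangent.mk (P := P.toExtension)).quotKerEquivOfSurjective
        Algebra.Extension.Cotangent.mk_surjective).symm (Algebra.Extension.Cotangent.mk x) =
          Submodule.Quotient.mk x := (LinearEquiv.symm_apply_eq _).2 rfl
    simp only [D', LinearMap.comp_apply, LinearEquiv.coe_coe]
    rw [he]
    rfl
  change f x = X.incl (D' (Algebra.Extension.Cotangent.mk x))
  rw [hx]
  exact (Ext.incl_kerLift X (f x) ((hf x).trans x.2)).symm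

section Pushout

attribute [local instance] Exal.opModule Exal.isCentralScalar_opModule

variable (P) in
/-- `M` as a module over the polynomial ring. -/
@[reducible] def ringModule (M : Type u) [AddCommGroup M] [Module B M] : Module P.toExtension.Ring M :=
  Module.compHom M (algebraMap P.toExtension.Ring B)

variable (P) (M) in
/-- `R ⊕ M`. -/
abbrev Big : Type u :=
  @Ext.TrivCarrier A P.toExtension.Ring M _ _ _ _ (ringModule P M)

lemma exists_big_hom (X : Ext A B M) {f : P.toExtension.Ring →ₐ[A] X.E} {ψ : P.toExtension.Cotangent →ₗ[B] M}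
    (hf : ∀ r, X.proj (f r) = algebraMap P.toExtension.Ring B r)
    (hψ : ∀ x : P.toExtension.ker, f x = X.incl (ψ (Algebra.Extension.Cotangent.mk x))) :
    letI := ringModule P M
    ∃ F : Big P M →ₐ[A] X.E, Function.Surjective F ∧ (∀ e, X.proj (F e) = algebraMap P.toExtension.Ring B (fst e)) ∧
      (∀ z : M, F (inr z) = X.incl z) ∧ ∀ e, F e = 0 ↔
        ∃ x : P.toExtension.ker, (x : P.toExtension.Ring) = fst e ∧ snd e = -ψ (Algebra.Extension.Cotangent.mk x) := by
  letI := ringModule P M
  refine ⟨{ toFun := fun e => f (fst e) + X.incl (snd e)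
            map_one' := ?_, map_mul' := ?_, map_zero' := ?_, map_add' := ?_, commutes' := ?_ }, ?_, ?_, ?_, ?_⟩
  · change f 1 + X.incl 0 = 1
    rw [map_one, map_zero, add_zero]
  · intro e e'
    change f (fst e * fst e') + X.incl (algebraMap P.toExtension.Ring B (fst e) • snd e' +
      algebraMap P.toExtension.Ring B (fst e') • snd e) = _
    rw [map_mul, map_add, ← hf, ← hf, ← X.isExtension.mul_incl, ← X.isExtension.mul_incl, add_mul, mul_add,
      mul_add, incl_mul_incl, add_zero, mul_comm (X.incl _) (f (fst e'))]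
    abel
  · change f 0 + X.incl 0 = 0
    rw [map_zero, map_zero, add_zero]
  · intro e e'
    change f (fst e + fst e') + X.incl (snd e + snd e') = _
    rw [map_add, map_add]
    abel
  · intro a
    change f (algebraMap A P.toExtension.Ring a) + X.incl 0 = _
    rw [map_zero, add_zero, AlgHom.commutes]
  · intro y
    obtain ⟨r, hr⟩ := ring_surjective P (X.proj y)
    obtain ⟨z, hz⟩ := (X.isExtension.exact (y - f r)).1 (by rw [map_sub, hf, hr, sub_self])
    refine ⟨(inl r + inr z : TrivSqZeroExt P.toExtension.Ring M), ?_⟩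
    change f (fst (inl r + inr z : TrivSqZeroExt P.toExtension.Ring M)) +
      X.incl (snd (inl r + inr z : TrivSqZeroExt P.toExtension.Ring M)) = y
    simp only [fst_add, fst_inl, fst_inr, add_zero, snd_add, snd_inl, snd_inr, zero_add]
    rw [hz]
    abel
  · intro e
    change X.proj (f (fst e) + X.incl (snd e)) = _
    rw [map_add, hf, proj_incl, add_zero]
  · intro z
    change f 0 + X.incl z = _
    rw [map_zero, zero_add]
  · intro e
    change f (fst e) + X.incl (snd e) = 0 ↔ _
    constructor
    · intro he
      have hx : algebraMap P.toExtension.Ring B (fst e) = 0 := by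
        have := congrArg X.proj he
        rwa [map_add, hf, proj_incl, add_zero, map_zero] at this
      refine ⟨⟨fst e, hx⟩, rfl, X.isExtension.incl_injective ?_⟩
      rw [map_neg, ← hψ ⟨fst e, hx⟩]
      exact eq_neg_of_add_eq_zero_right he
    · rintro ⟨x, hx, hs⟩
      rw [← hx, hs, hψ, map_neg, add_neg_cancel]

lemma RepBy.equiv {X Y : Ext A B M} {ψ} (hX : RepBy P X ψ) (hY : RepBy P Y ψ) : Nonempty (Ext.Equiv X Y) := by
  letI := ringModule P M
  obtain ⟨f, hf, hψ⟩ := hX
  obtain ⟨g, hg, hψ'⟩ := hY
  obtain ⟨F, hF, hFp, hFi, hFk⟩ := exists_big_hom X hf hψ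
  obtain ⟨G, hG, hGp, hGi, hGk⟩ := exists_big_hom Y hg hψ'
  have hk : RingHom.ker F = RingHom.ker G := Ideal.ext fun e => (hFk e).trans (hGk e).symm
  let φ : X.E ≃ₐ[A] Y.E := (Ideal.quotientKerAlgEquivOfSurjective hF).symm.trans
    ((Ideal.quotientEquivAlgOfEq A hk).trans (Ideal.quotientKerAlgEquivOfSurjective hG))
  have hφ : ∀ e, φ (F e) = G e := fun e => by
    have he : (Ideal.quotientKerAlgEquivOfSurjective hF).symm (F e) = Ideal.Quotient.mk _ e :=
      (AlgEquiv.symm_apply_eq _).2 rfl
    rw [AlgEquiv.trans_apply, AlgEquiv.trans_apply, he]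
    rfl
  refine ⟨⟨φ, fun y => ?_, fun z => ?_⟩⟩
  · obtain ⟨e, rfl⟩ := hF y
    rw [hφ, hFp, hGp]
  · rw [← hFi, hφ, hGi]

variable (P) in
lemma exists_ext (ψ : P.toExtension.Cotangent →ₗ[B] M) : ∃ X : Ext A B M, RepBy P X ψ := by
  letI := ringModule P M
  let J : Ideal (Big P M) :=
    { carrier := {e | ∃ x : P.toExtension.ker, (x : P.toExtension.Ring) = fst e ∧
        snd e = -ψ (Algebra.Extension.Cotangent.mk x)}
      add_mem' := by
        rintro e e' ⟨x, hx, hs⟩ ⟨y, hy, ht⟩
        refine ⟨x + y, ?_, ?_⟩
        · change (x : P.toExtension.Ring) + y = fst e + fst e'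
          rw [hx, hy]
        · change snd e + snd e' = _
          rw [hs, ht, map_add, map_add, neg_add]
      zero_mem' := ⟨0, rfl, by rw [map_zero, map_zero, neg_zero]; rfl⟩
      smul_mem' := by
        rintro c e ⟨x, hx, hs⟩
        refine ⟨fst c • x, ?_, ?_⟩
        · change fst c * (x : P.toExtension.Ring) = fst c * fst e
          rw [hx]
        · change algebraMap P.toExtension.Ring B (fst c) • snd e + algebraMap P.toExtension.Ring B (fst e) • snd c = _
          rw [← hx, show algebraMap P.toExtension.Ring B (x : P.toExtension.Ring) = 0 from x.2, zero_smul,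
            add_zero, hs, map_smul, ← algebraMap_smul B (fst c) (Algebra.Extension.Cotangent.mk x), map_smul,
            smul_neg] }
  let p : Big P M →ₐ[A] B :=
    { toFun := fun e => algebraMap P.toExtension.Ring B (fst e)
      map_one' := map_one _
      map_mul' := fun e e' => map_mul _ _ _
      map_zero' := map_zero _
      map_add' := fun e e' => map_add _ _ _
      commutes' := fun a => by
        change algebraMap P.toExtension.Ring B (algebraMap A P.toExtension.Ring a) = _
        exact ((algebraMap_toExtension P _).trans (MvPolynomial.aeval_C _ a)) }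
  let i : M →+ (Big P M ⧸ J) :=
    { toFun := fun z => Ideal.Quotient.mk J (inr z : TrivSqZeroExt P.toExtension.Ring M)
      map_zero' := by rw [inr_zero]; exact map_zero (Ideal.Quotient.mk J)
      map_add' := fun z z' => by rw [inr_add]; exact map_add (Ideal.Quotient.mk J) _ _ }
  let X : Ext A B M :=
    { E := Big P M ⧸ J
      proj := Ideal.Quotient.liftₐ J p fun e ⟨x, hx, _⟩ => by
        change algebraMap P.toExtension.Ring B (fst e) = 0
        rw [← hx]
        exact x.2
      incl := i
      isExtension :=
        { proj_surjective := fun b => by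
            obtain ⟨r, hr⟩ := ring_surjective P b
            exact ⟨Ideal.Quotient.mk J (inl r : TrivSqZeroExt P.toExtension.Ring M), hr⟩
          incl_injective := by
            refine (injective_iff_map_eq_zero i).2 fun z hz => ?_
            obtain ⟨x, hx, hs⟩ := Ideal.Quotient.eq_zero_iff_mem.1 hz
            have hx0 : x = 0 := Subtype.ext hx
            exact hs.trans (by rw [hx0, map_zero, map_zero, neg_zero])
          exact := fun y => by
            obtain ⟨e, rfl⟩ := Ideal.Quotient.mk_surjective y
            constructor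
            · intro he
              refine ⟨snd e + ψ (Algebra.Extension.Cotangent.mk ⟨fst e, he⟩), (Ideal.Quotient.eq.2 ?_).symm⟩
              refine ⟨⟨fst e, he⟩, ?_, ?_⟩
              · exact (sub_zero _).symm
              · change snd e - (snd e + ψ (Algebra.Extension.Cotangent.mk ⟨fst e, he⟩)) =
                  -ψ (Algebra.Extension.Cotangent.mk ⟨fst e, he⟩)
                abel
            · rintro ⟨z, hz⟩
              rw [← hz]
              exact map_zero (algebraMap P.toExtension.Ring B)
          mul_incl := fun y z => by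
            obtain ⟨e, rfl⟩ := Ideal.Quotient.mk_surjective y
            refine congrArg (Ideal.Quotient.mk J) (TrivSqZeroExt.ext ?_ ?_)
            · exact mul_zero _
            · change algebraMap P.toExtension.Ring B (fst e) • z +
                algebraMap P.toExtension.Ring B 0 • snd e = algebraMap P.toExtension.Ring B (fst e) • z
              rw [map_zero, zero_smul, add_zero] } }
  let j : P.toExtension.Ring →ₐ[A] Big P M :=
    { inlHom P.toExtension.Ring M with commutes' := fun _ => rfl }
  refine ⟨X, (Ideal.Quotient.mkₐ A J).comp j, fun r => rfl, fun x => Ideal.Quotient.eq.2 ⟨x, ?_, ?_⟩⟩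
  · exact (sub_zero _).symm
  · exact zero_sub _

end Pushout

attribute [local instance] Exal.opModule Exal.isCentralScalar_opModule in
variable (P) in
lemma repBy_trivial : RepBy P (Ext.trivial A B M) (0 : P.toExtension.Cotangent →ₗ[B] M) := by
  let s : B →ₐ[A] Ext.TrivCarrier A B M := { inlHom B M with commutes' := fun _ => rfl }
  refine ⟨s.comp (MvPolynomial.aeval P.val), fun r => (algebraMap_toExtension P r).symm, fun x => ?_⟩
  rw [LinearMap.zero_apply, map_zero]
  change s (MvPolynomial.aeval P.val (x : P.toExtension.Ring)) = 0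
  rw [← algebraMap_toExtension P, show algebraMap P.toExtension.Ring B (x : P.toExtension.Ring) = 0 from x.2,
    map_zero]

variable (P M) in
theorem exists_exalcom_equiv : ∃ e : Exalcom A B M ≃ T1 P M, e 0 = 0 := by
  choose ψ hψ using exists_repBy (M := M) P
  let F : Exalcom A B M → T1 P M := Quotient.lift (fun X => homToT1 P M (ψ X))
    fun X Y ⟨e⟩ => RepBy.homToT1_eq ((hψ X).of_equiv e) (hψ Y)
  have hinj : Function.Injective F := by
    intro a b
    refine Quotient.inductionOn₂ (s₁ := Ext.setoid A B M) (s₂ := Ext.setoid A B M) a b fun X Y h => ?_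
    exact Quotient.sound (RepBy.equiv ((hψ X).of_homToT1_eq h) (hψ Y))
  have hsurj : Function.Surjective F := by
    intro t
    obtain ⟨φ, rfl⟩ := homToT1_surjective P M t
    obtain ⟨X, hX⟩ := exists_ext P φ
    exact ⟨X.cl, RepBy.homToT1_eq (hψ X) hX⟩
  refine ⟨Equiv.ofBijective F ⟨hinj, hsurj⟩, ?_⟩
  exact (RepBy.homToT1_eq (hψ (Ext.trivial A B M)) (repBy_trivial P)).trans (map_zero _)

end Groth.ArtfunDeform
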