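import Groth.Agent.ArtfunDeform.CotT.LocPres
import Groth.Agent.Calg6.CMSop
import Groth.Agent.Ega4Algebra2.H1Regular

/-!
Complete intersections in a local ring and the vanishing of `T²`.
-/

set_option linter.style.haveILetI false
set_option linter.style.longLine false
set_option linter.unusedSectionVars false

noncomputable section

universe u

open TensorProduct IsLocalRing

namespace Groth.ArtfunDeform

open CotT

/-- Passing from `k` to `A` does not change `T²(A/I)`, if `T¹`, `T²` of `A/k` vanish. -/
theorem subsingleton_T2_iff_of_T1_T2 (k A B : Type u) [CommRing k] [CommRing A] [CommRing B] [Algebra k A]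
    [Algebra A B] [Algebra k B] [IsScalarTower k A B]
    (hT : ∀ (N : Type u) [AddCommGroup N] [Module A N],
      Subsingleton (T1 (canon k A) N) ∧ Subsingleton (T2 (canon k A) N))
    (M : Type u) [AddCommGroup M] [Module B M] :
    Subsingleton (T2 (canon A B) M) ↔ Subsingleton (T2 (canon k B) M) := by
  letI : Module A M := Module.compHom M (algebraMap A B)
  haveI : IsScalarTower A B M := IsScalarTower.of_compHom A B M
  haveI := (hT M).1
  haveI := (hT M).2
  refine ⟨fun h => subsingleton_T2_trans k A B M, fun h => ?_⟩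
  obtain ⟨-, -, -, -, δ₀, δ₁, -, -, -, e⟩ := canon_nineTerm k A B M
  refine subsingleton_of_forall_eq 0 fun x => ?_
  obtain ⟨y, rfl⟩ := (e x).1 (Subsingleton.elim _ _)
  rw [Subsingleton.elim y 0, map_zero]

variable {A : Type u} [CommRing A] [IsLocalRing A] [IsNoetherianRing A]

lemma coeff_mem_maximalIdeal_of_minimal {I : Ideal A} {r : ℕ} (g : Fin r → A)
    (hr : r ≤ Submodule.spanFinrank I) (hg : Ideal.span (Set.range g) = I) (q : Fin r →₀ A)
    (hq : Finsupp.linearCombination A g q = 0) (s : Fin r) : q s ∈ maximalIdeal A := by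
  classical
  by_contra hs
  have hu : IsUnit (q s) := by simpa [IsLocalRing.mem_maximalIdeal] using hs
  let T : Finset A := (Finset.univ.erase s).image g
  have hsum : ∀ i, i ≠ s → g i ∈ Ideal.span (T : Set A) := fun i hi =>
    Ideal.subset_span (Finset.mem_image.2 ⟨i, Finset.mem_erase.2 ⟨hi, Finset.mem_univ _⟩, rfl⟩)
  have hgs : g s ∈ Ideal.span (T : Set A) := by
    rw [Finsupp.linearCombination_apply, Finsupp.sum_fintype _ _ (by simp),
      ← Finset.add_sum_erase _ _ (Finset.mem_univ s)] at hq
    rw [← Ideal.unit_mul_mem_iff_mem _ hu]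
    rw [show q s * g s = -∑ i ∈ Finset.univ.erase s, q i • g i from eq_neg_of_add_eq_zero_left hq]
    exact neg_mem (Ideal.sum_mem _ fun i hi => Ideal.mul_mem_left _ _ (hsum i (Finset.mem_erase.1 hi).1))
  have hT : I = Ideal.span (T : Set A) := by
    refine le_antisymm ?_ ?_
    · rw [← hg, Ideal.span_le]
      rintro _ ⟨i, rfl⟩
      by_cases hi : i = s
      · exact hi ▸ hgs
      · exact hsum i hi
    · rw [← hg, Ideal.span_le]
      intro x hx
      obtain ⟨i, -, rfl⟩ := Finset.mem_image.1 hx
      exact Ideal.subset_span ⟨i, rfl⟩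
  have hle : Submodule.spanFinrank (Ideal.span (T : Set A)) ≤ T.card := by
    rw [← Set.ncard_coe_finset]
    exact Submodule.spanFinrank_span_le_ncard_of_finite T.finite_toSet
  have hcard : T.card < r := lt_of_le_of_lt Finset.card_image_le (by
    rw [Finset.card_erase_of_mem (Finset.mem_univ s), Finset.card_univ, Fintype.card_fin]
    have := s.2
    omega)
  rw [← hT] at hle
  omega

/-- If `T²(A/I)` vanishes then `I` is generated by a regular sequence. -/
theorem exists_regular_of_T2 {I : Ideal A} (hI : I ≠ ⊤)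
    (h : ∀ (M : Type u) [AddCommGroup M] [Module (A ⧸ I) M], Subsingleton (T2 (canon A (A ⧸ I)) M)) :
    ∃ rs : List A, Ideal.ofList rs = I ∧ RingTheory.Sequence.IsRegular A rs := by
  classical
  have hfg : I.FG := IsNoetherian.noetherian I
  have hfin := Submodule.FG.finite_generators hfg
  let F := hfin.toFinset
  let r := F.card
  let g : Fin r → A := fun i => (F.equivFin.symm i : A)
  have hrange : Set.range g = Submodule.generators I := by
    ext x
    refine ⟨?_, fun hx => ⟨F.equivFin ⟨x, hfin.mem_toFinset.2 hx⟩, by simp [g]⟩⟩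
    rintro ⟨i, rfl⟩
    exact hfin.mem_toFinset.1 (F.equivFin.symm i).2
  have hspan : Ideal.span (Set.range g) = I := by
    rw [hrange]
    exact Submodule.span_generators I
  have hr : r ≤ Submodule.spanFinrank I := by
    rw [← Submodule.FG.generators_ncard hfg, Set.ncard_eq_toFinset_card _ hfin]
  have hmem : ∀ i, g i ∈ maximalIdeal A := fun i =>
    le_maximalIdeal hI (hspan.le (Ideal.subset_span ⟨i, rfl⟩))
  haveI : Nontrivial (A ⧸ I) := Ideal.Quotient.nontrivial_iff.2 hI
  haveI : IsLocalRing (A ⧸ I) := IsLocalRing.of_surjective' (Ideal.Quotient.mk I) Ideal.Quotient.mk_surjective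
  let G : Algebra.Generators A (A ⧸ I) PEmpty.{u + 1} :=
    Algebra.Generators.ofSurjectiveAlgebraMap Ideal.Quotient.mk_surjective
  have hC : ∀ a, algebraMap G.toExtension.Ring (A ⧸ I) (MvPolynomial.C a) = Ideal.Quotient.mk I a := fun a =>
    (G.algebraMap_apply _).trans (MvPolynomial.aeval_C _ a)
  let P : Algebra.Presentation A (A ⧸ I) PEmpty.{u + 1} (ULift.{u} (Fin r)) :=
    { toGenerators := G
      relation := fun i => MvPolynomial.C (g i.down)
      span_range_relation_eq_ker := by
        refine le_antisymm (Ideal.span_le.2 ?_) fun p hp => ?_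
        · rintro _ ⟨i, rfl⟩
          exact (hC _).trans (Ideal.Quotient.eq_zero_iff_mem.2 (hspan.le (Ideal.subset_span ⟨i.down, rfl⟩)))
        · obtain ⟨a, rfl⟩ := MvPolynomial.C_surjective PEmpty p
          have ha : a ∈ Ideal.span (Set.range g) := hspan.ge (Ideal.Quotient.eq_zero_iff_mem.1 ((hC a).symm.trans hp))
          have := Ideal.mem_map_of_mem (MvPolynomial.C : A →+* MvPolynomial PEmpty.{u + 1} A) ha
          rw [Ideal.map_span, ← Set.range_comp] at this
          refine Ideal.span_mono ?_ this
          rintro _ ⟨i, rfl⟩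
          exact ⟨⟨i⟩, rfl⟩ }
  haveI : Subsingleton (T2 P (L2 P)) := by
    obtain ⟨-, -, ⟨e⟩⟩ := exists_equiv P (canon A (A ⧸ I)) (L2 P)
    haveI := h (L2 P)
    exact e.toEquiv.subsingleton
  obtain ⟨χ, hχ⟩ := (Submodule.Quotient.mk_eq_zero (LinearMap.range (d2Star P (L2 P)))).1
    (Subsingleton.elim (Submodule.Quotient.mk LinearMap.id : T2 P (L2 P)) 0)
  have hχ' : ∀ z, χ (d2 P z) = z := fun z => LinearMap.congr_fun hχ z
  have hsurj : Function.Surjective χ := fun z => ⟨_, hχ' z⟩
  haveI : Module.Finite (A ⧸ I) (L1 P) := Module.Finite.of_basis (L1basis P)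
  haveI : Module.Finite (A ⧸ I) (L2 P) := Module.Finite.of_surjective χ hsurj
  let e : A ≃+* P.toExtension.Ring := (MvPolynomial.isEmptyRingEquiv A PEmpty.{u + 1}).symm
  have he : ∀ a, e a = MvPolynomial.C a := fun a =>
    MvPolynomial.isEmptyRingEquiv_symm_apply A PEmpty.{u + 1} a
  have htop : (⊤ : Submodule (A ⧸ I) (L2 P)) ≤ maximalIdeal (A ⧸ I) • ⊤ := by
    intro z _
    obtain ⟨q, rfl⟩ := l2mk_surjective P z
    rw [← hχ' (l2mk P q), d2_l2mk, ← (L1basis P).sum_repr ((1 : A ⧸ I) ⊗ₜ (q : relMod P)), map_sum]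
    refine Submodule.sum_mem _ fun s _ => ?_
    rw [map_smul]
    refine Submodule.smul_mem_smul ?_ trivial
    have hrep : (L1basis P).repr ((1 : A ⧸ I) ⊗ₜ (q : relMod P)) s =
        algebraMap P.toExtension.Ring (A ⧸ I) ((q : relMod P) s) := by
      simp [L1basis, Algebra.TensorProduct.basis_repr_tmul]
    rw [hrep]
    let q' : Fin r →₀ A := Finsupp.equivFunOnFinite.symm fun i => e.symm ((q : relMod P) ⟨i⟩)
    have hq' : Finsupp.linearCombination A g q' = 0 := by
      refine e.injective ?_
      rw [map_zero, Finsupp.linearCombination_apply, Finsupp.sum_fintype _ _ (by simp), map_sum]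
      refine Eq.trans ?_ (show jmap P (q : relMod P) = 0 from q.2)
      rw [jmap, Finsupp.linearCombination_apply, Finsupp.sum_fintype _ _ (by simp)]
      refine Fintype.sum_equiv Equiv.ulift.symm _ _ fun i => ?_
      rw [smul_eq_mul, smul_eq_mul, map_mul, he (g i)]
      exact congrArg₂ (· * ·) (e.apply_symm_apply _) rfl
    have := coeff_mem_maximalIdeal_of_minimal g hr hspan q' hq' s.down
    obtain ⟨a, ha⟩ := MvPolynomial.C_surjective PEmpty ((q : relMod P) s)
    have hqa : q' s.down = a := by
      change e.symm ((q : relMod P) s) = a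
      rw [← ha, ← he, RingEquiv.symm_apply_apply]
    rw [hqa] at this
    rw [← ha, hC]
    rw [← IsLocalRing.map_maximalIdeal_of_surjective (Ideal.Quotient.mk I) Ideal.Quotient.mk_surjective]
    exact Ideal.mem_map_of_mem _ this
  have hbot : (⊤ : Submodule (A ⧸ I) (L2 P)) = ⊥ :=
    Submodule.eq_bot_of_le_smul_of_le_jacobson_bot _ _ Module.Finite.fg_top htop (maximalIdeal_le_jacobson _)
  have hall : ∀ q : relKer P, (q : relMod P) ∈ trivRel P := fun q =>
    (l2mk_eq_zero_iff P).1 ((Submodule.mem_bot _).1 (hbot ▸ Submodule.mem_top))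
  refine ⟨List.ofFn g, ?_, ?_⟩
  · rw [Ideal.ofList, ← hspan]
    congr 1
    ext x
    simp [List.mem_ofFn]
  rw [IsLocalRing.isRegular_iff_isWeaklyRegular_of_subset_maximalIdeal (by
    intro x hx
    obtain ⟨i, rfl⟩ := List.mem_ofFn.1 hx
    exact hmem i)]
  refine Groth.Ega4b.isWeaklyRegular_of_h1_zero (maximalIdeal A) (fun N N' => inferInstance) g hmem fun m hm => ?_
  let f : relMod P := Finsupp.equivFunOnFinite.symm fun i => e (m i.down)
  have hf : jmap P f = 0 := by
    rw [jmap, Finsupp.linearCombination_apply, Finsupp.sum_fintype _ _ (by simp)]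
    refine Eq.trans ?_ ((congrArg e hm).trans (map_zero e))
    rw [map_sum]
    refine Fintype.sum_equiv Equiv.ulift _ _ fun i => ?_
    rw [smul_eq_mul, smul_eq_mul, map_mul, mul_comm]
    exact congrArg (· * _) (he _).symm
  let θ : relMod P → (Fin r → A) := fun y i => e.symm (y ⟨i⟩)
  have hθ : ∀ y ∈ trivRel P, θ y ∈ Groth.Ega4b.trivRel g := by
    intro y hy
    replace hy := trivSub_le_span_basis (f := rel P) hy
    induction hy using Submodule.span_induction with
    | mem y hy =>
      obtain ⟨a, b, rfl⟩ := hy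
      refine Submodule.subset_span ⟨b.down, a.down, 1, funext fun i => ?_⟩
      simp only [θ, Finsupp.sub_apply, Finsupp.smul_apply, Finsupp.single_apply, Pi.sub_apply, Pi.smul_apply,
        Pi.single_apply, smul_eq_mul, map_sub, map_mul]
      rw [show e.symm (rel P a) = g a.down from (RingEquiv.symm_apply_eq e).2 (he _).symm,
        show e.symm (rel P b) = g b.down from (RingEquiv.symm_apply_eq e).2 (he _).symm]
      obtain ⟨a⟩ := a
      obtain ⟨b⟩ := b
      simp only [ULift.up.injEq, apply_ite e.symm, map_one, map_zero, eq_comm (a := i)]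
    | zero =>
      rw [show θ 0 = 0 from funext fun i => map_zero e.symm]
      exact zero_mem _
    | add y z _ _ hy hz =>
      rw [show θ (y + z) = θ y + θ z from funext fun i => map_add e.symm _ _]
      exact add_mem hy hz
    | smul c y _ hy =>
      rw [show θ (c • y) = e.symm c • θ y from funext fun i => map_mul e.symm _ _]
      exact Submodule.smul_mem _ _ hy
  have := hθ f (hall ⟨f, hf⟩)
  convert this using 1
  exact funext fun i => (e.symm_apply_apply _).symm

/-- Complete intersection in a regular local ring iff `T²` of the quotient vanishes. -/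
theorem ci_iff_T2 {A : Type u} [CommRing A] [IsRegularLocalRing A] {I : Ideal A} (hI : I ≠ ⊤) :
    (∃ rs : List A, Ideal.ofList rs = I ∧ (rs.length : WithBot ℕ∞) + ringKrullDim (A ⧸ I) = ringKrullDim A) ↔
      ∀ (M : Type u) [AddCommGroup M] [Module (A ⧸ I) M], Subsingleton (T2 (canon A (A ⧸ I)) M) := by
  constructor
  · rintro ⟨rs, hrs, hd⟩ M _ _
    have hmem : ∀ x ∈ rs, x ∈ maximalIdeal A := fun x hx => le_maximalIdeal hI (hrs ▸ Ideal.subset_span hx)
    refine subsingleton_T2_of_regular Ideal.Quotient.mk_surjective rs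
      (Groth.Calg6.isWeaklyRegular_of_supportDim_add_length_le rs A
        (Groth.Calg6.isCohenMacaulayModule_of_isRegularLocalRing A) hmem ?_) ?_ M
    · rw [smul_eq_mul, Ideal.mul_top, hrs, Module.supportDim_quotient_eq_ringKrullDim,
        Module.supportDim_self_eq_ringKrullDim, add_comm, hd]
    · rw [hrs]
      exact Ideal.mk_ker
  · intro h
    obtain ⟨rs, hrs, hreg⟩ := exists_regular_of_T2 hI h
    exact ⟨rs, hrs, by rw [add_comm, ← hrs, ringKrullDim_add_length_eq_ringKrullDim_of_isRegular rs hreg]⟩

end Groth.ArtfunDeform
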