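import Groth.Agent.ArtfunDeform.CotT.DiffRing

/-!
The maps on the `Tⁱ` induced by morphisms of presentations do not depend on the morphism; independence of
the presentation.
-/

set_option linter.style.haveILetI false
set_option linter.style.longLine false
set_option linter.unusedSectionVars false

noncomputable section

universe u v w t u' v' w' t' m

open TensorProduct

namespace Groth.ArtfunDeform

open CotT

section Indep

variable {A : Type u} {B : Type v} {ι : Type w} {σ : Type t}
variable {A' : Type u'} {B' : Type v'} {ι' : Type w'} {σ' : Type t'}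
variable [CommRing A] [CommRing B] [Algebra A B] [CommRing A'] [CommRing B'] [Algebra A' B']
variable [Algebra A A'] [Algebra B B'] [Algebra A B'] [IsScalarTower A A' B'] [IsScalarTower A B B']
variable {P : Algebra.Presentation A B ι σ} {P' : Algebra.Presentation A' B' ι' σ'}

lemma ringHom_sub_mem (h h' : PresHom P P') (r : P.toExtension.Ring) :
    h.ringHom r - h'.ringHom r ∈ P'.toExtension.ker := by
  change algebraMap P'.toExtension.Ring B' (h.ringHom r - h'.ringHom r) = 0
  rw [map_sub, h.algebraMap_ringHom, h'.algebraMap_ringHom, sub_self]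

lemma ringHom_algebraMap (h : PresHom P P') (a : A) :
    h.ringHom (algebraMap A P.toExtension.Ring a) = algebraMap A' P'.toExtension.Ring (algebraMap A A' a) :=
  h.hom.toExtensionHom.toRingHom_algebraMap a

/-- A lift of the difference of two ring maps, satisfying the twisted Leibniz rule. -/
theorem exists_diffLift (h h' : PresHom P P') :
    ∃ G : P.toExtension.Ring →+* DiffRing P', (∀ r, (G r).fst = h.ringHom r) ∧
      (∀ r, jbar P' (G r).snd = h.ringHom r - h'.ringHom r) := by
  choose g hg using fun i : ι => jker_surjective P'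
    (⟨_, ringHom_sub_mem h h' (MvPolynomial.X i : MvPolynomial ι A)⟩ : P'.toExtension.ker)
  let G : MvPolynomial ι A →+* DiffRing P' := MvPolynomial.eval₂Hom
    (((DiffRing.inl P').comp (algebraMap A' P'.toExtension.Ring)).comp (algebraMap A A'))
    (fun i => DiffRing.mk (h.ringHom (MvPolynomial.X i : MvPolynomial ι A)) (Submodule.Quotient.mk (g i)))
  have hC : ∀ a : A, G (MvPolynomial.C a) = DiffRing.mk (algebraMap A' P'.toExtension.Ring (algebraMap A A' a)) 0 :=
    fun a => MvPolynomial.eval₂Hom_C _ _ a
  have hX : ∀ i, G (MvPolynomial.X i) =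
      DiffRing.mk (h.ringHom (MvPolynomial.X i : MvPolynomial ι A)) (Submodule.Quotient.mk (g i)) :=
    fun i => MvPolynomial.eval₂Hom_X' _ _ i
  have h1 : ∀ r : MvPolynomial ι A, (G r).fst = h.ringHom r := by
    intro r
    induction r using MvPolynomial.induction_on with
    | C a =>
      rw [hC, DiffRing.fst_mk]
      exact (ringHom_algebraMap h a).symm
    | add p q hp hq =>
      rw [map_add, DiffRing.fst_add, hp, hq]
      exact (map_add h.ringHom p q).symm
    | mul_X p i hp =>
      rw [map_mul, DiffRing.fst_mul, hp, hX, DiffRing.fst_mk]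
      exact (map_mul h.ringHom p _).symm
  have h2 : ∀ r : MvPolynomial ι A, jbar P' (G r).snd = h.ringHom r - h'.ringHom r := ?_
  · exact ⟨G, h1, h2⟩
  intro r
  induction r using MvPolynomial.induction_on with
  | C a =>
    rw [hC, DiffRing.snd_mk, map_zero]
    exact (sub_eq_zero.2 ((ringHom_algebraMap h a).trans (ringHom_algebraMap h' a).symm)).symm
  | add p q hp hq =>
    rw [map_add, DiffRing.snd_add, map_add, hp, hq]
    exact (add_sub_add_comm _ _ _ _).symm.trans (congrArg₂ (· - ·) (map_add h.ringHom p q).symm (map_add h'.ringHom p q).symm)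
  | mul_X p i hp =>
    rw [map_mul, DiffRing.snd_mul, map_sub, map_add, map_smul, map_smul, map_smul, hp, h1, hX,
      DiffRing.snd_mk, DiffRing.fst_mk, jbar_mk, show jmap P' (g i) = _ from congrArg Subtype.val (hg i)]
    simp only [smul_eq_mul]
    refine Eq.trans ?_ (congrArg₂ (· - ·) (map_mul h.ringHom p (MvPolynomial.X i)).symm
      (map_mul h'.ringHom p (MvPolynomial.X i)).symm)
    ring_nf
    try exact congrArg _ (mul_comm _ _)

variable (M' : Type m) [AddCommGroup M'] [Module B' M'] [Module B M'] [IsScalarTower B B' M']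

theorem T0pull_eq (h h' : PresHom P P') : h.T0pull M' = h'.T0pull M' := by
  refine LinearMap.ext fun φ => Subtype.ext (LinearMap.ext fun x => ?_)
  change (φ : L0 P' →ₗ[B'] M') (Algebra.Extension.CotangentSpace.map h.hom.toExtensionHom x) =
    (φ : L0 P' →ₗ[B'] M') (Algebra.Extension.CotangentSpace.map h'.hom.toExtensionHom x)
  rw [← sub_eq_zero, ← map_sub, ← LinearMap.sub_apply, Algebra.Extension.CotangentSpace.map_sub_map]
  exact LinearMap.congr_fun ((mem_ker_d1Star_iff P' M' φ.1).1 φ.2) _

theorem T1pull_eq (h h' : PresHom P P') : h.T1pull M' = h'.T1pull M' := by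
  refine LinearMap.ext fun z => ?_
  obtain ⟨φ, rfl⟩ := Submodule.Quotient.mk_surjective _ z
  obtain ⟨χ, hχ⟩ := exists_factor_cotangent P' M' φ
  refine (Submodule.Quotient.eq _).2
    ⟨{ toFun := fun x => χ (h.hom.toExtensionHom.sub h'.hom.toExtensionHom x)
       map_add' := fun x y => by rw [map_add, map_add]
       map_smul' := fun b x => by
        rw [map_smul, ← IsScalarTower.algebraMap_smul B' b (h.hom.toExtensionHom.sub h'.hom.toExtensionHom x),
          map_smul, IsScalarTower.algebraMap_smul, RingHom.id_apply] }, LinearMap.ext fun y => ?_⟩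
  change χ (h.hom.toExtensionHom.sub h'.hom.toExtensionHom (P.toExtension.cotangentComplex (toCot P y))) =
    (φ : L1 P' →ₗ[B'] M') (h.L1map y) - (φ : L1 P' →ₗ[B'] M') (h'.L1map y)
  rw [← hχ, LinearMap.comp_apply, LinearMap.comp_apply, PresHom.toCot_L1map, PresHom.toCot_L1map,
    PresHom.cotMap_apply, PresHom.cotMap_apply, ← map_sub, ← LinearMap.sub_apply,
    Algebra.Extension.Cotangent.map_sub_map]
  rfl

lemma algebraMap_smul_l2mk (x : P'.toExtension.Ring) (q : relKer P') :
    algebraMap P'.toExtension.Ring B' x • l2mk P' q = l2mk P' (x • q) := by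
  rw [map_smul, algebraMap_smul]

lemma L2map_l2mk (h : PresHom P P') (q : relKer P) : h.L2map (l2mk P q) = l2mk P' (h.relKerMap q) := by
  change h.L2map (Submodule.Quotient.mk ((1 : B) ⊗ₜ q)) = _
  rw [PresHom.L2map_mk_tmul, map_one]
  rfl

theorem T2pull_eq (h h' : PresHom P P') : h.T2pull M' = h'.T2pull M' := by
  obtain ⟨G, hG1, hG2⟩ := exists_diffLift h h'
  choose g hg using fun s => Submodule.Quotient.mk_surjective (trivRel P') (G (rel P s)).snd
  have hgj : ∀ s, jmap P' (g s) = h.ringHom (rel P s) - h'.ringHom (rel P s) := fun s => by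
    rw [← jbar_mk, hg, hG2]
  let q : σ → relKer P' := fun s => ⟨h.relVal s - h'.relVal s - g s, by
    change jmap P' (h.relVal s - h'.relVal s - g s) = 0
    rw [map_sub, map_sub, PresHom.jmap_relVal, PresHom.jmap_relVal, hgj]
    exact sub_self _⟩
  let qlin : relMod P' →ₗ[P'.toExtension.Ring] relQuot P' := (trivRel P').mkQ
  have key : ∀ f : relMod P, qlin (h.relModMap f - h'.relModMap f) =
      (f.sum fun s r => h.ringHom r • qlin (q s : relMod P')) + (G (jmap P f)).snd := by
    intro f
    induction f using Finsupp.induction_linear with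
    | zero => simp
    | add f f' hf hf' =>
      rw [map_add, map_add, add_sub_add_comm, map_add, hf, hf', Finsupp.sum_add_index' (by simp)
        (by intro s r r'; rw [map_add, add_smul]), map_add (jmap P), map_add G, DiffRing.snd_add]
      abel
    | single s r =>
      rw [PresHom.relModMap_single, PresHom.relModMap_single, jmap_single, map_mul G, DiffRing.snd_mul,
        Finsupp.sum_single_index (by simp), hG1, hG1, hG2, ← hg]
      change qlin (h.ringHom r • h.relVal s - h'.ringHom r • h'.relVal s) = _
      have hsymm : h'.ringHom (rel P s) • (G r).snd = (h.ringHom r - h'.ringHom r) • qlin (h'.relVal s) := by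
        rw [← hG2, jbar_smul_comm]
        congr 1
        rw [Submodule.mkQ_apply, jbar_mk, PresHom.jmap_relVal]
      have e : (h.ringHom (rel P s) - h'.ringHom (rel P s)) • (G r).snd =
          h.ringHom (rel P s) • (G r).snd - (h.ringHom r - h'.ringHom r) • qlin (h'.relVal s) := by
        rw [sub_smul, hsymm]
      rw [e]
      change qlin (h.ringHom r • h.relVal s - h'.ringHom r • h'.relVal s) =
        h.ringHom r • qlin (h.relVal s - h'.relVal s - g s) +
          (h.ringHom r • qlin (g s) + h.ringHom (rel P s) • (G r).snd -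
            (h.ringHom (rel P s) • (G r).snd - (h.ringHom r - h'.ringHom r) • qlin (h'.relVal s)))
      simp only [map_sub, map_smul, smul_sub, sub_smul]
      abel
  refine LinearMap.ext fun z => ?_
  obtain ⟨φ, rfl⟩ := Submodule.Quotient.mk_surjective _ z
  let u : L1 P →ₗ[B] M' := (L1basis P).constr B fun s => φ (l2mk P' (q s))
  refine (Submodule.Quotient.eq _).2 ⟨u, LinearMap.ext fun z => ?_⟩
  obtain ⟨p, rfl⟩ : ∃ p, l2mk P p = z := l2mk_surjective P z
  change u (d2 P (l2mk P p)) = φ (h.L2map (l2mk P p)) - φ (h'.L2map (l2mk P p))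
  rw [d2_l2mk, L2map_l2mk, L2map_l2mk, ← map_sub, ← map_sub]
  let S : relKer P' := (p : relMod P).sum fun s r => h.ringHom r • q s
  have hS : l2mk P' (h.relKerMap p - h'.relKerMap p) = l2mk P' S := by
    rw [← sub_eq_zero, ← map_sub]
    refine l2mk_eq_zero P' ?_
    rw [← Submodule.Quotient.mk_eq_zero (trivRel P')]
    have hk := key p
    rw [show jmap P (p : relMod P) = 0 from p.2, map_zero, DiffRing.snd_zero, add_zero] at hk
    change qlin (((h.relKerMap p : relKer P') : relMod P') - h'.relKerMap p - (S : relMod P')) = 0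
    have hSc : (S : relMod P') = (p : relMod P).sum fun s r => h.ringHom r • (q s : relMod P') :=
      (map_finsuppSum (relKer P').subtype _ _).trans rfl
    rw [map_sub qlin, sub_eq_zero, PresHom.relKerMap_coe, PresHom.relKerMap_coe, hk, hSc, map_finsuppSum]
    exact Finset.sum_congr rfl fun s _ => (map_smul qlin _ _).symm
  rw [hS, map_finsuppSum, map_finsuppSum]
  have hexp : (1 : B) ⊗ₜ (p : relMod P) =
      (p : relMod P).sum fun s r => algebraMap P.toExtension.Ring B r • L1basis P s := by
    conv_lhs => rw [← Finsupp.sum_single (p : relMod P)]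
    rw [Finsupp.sum, Finsupp.sum, TensorProduct.tmul_sum]
    refine Finset.sum_congr rfl fun s _ => ?_
    rw [L1basis_apply, algebraMap_smul, ← TensorProduct.tmul_smul, Finsupp.smul_single, smul_eq_mul, mul_one]
  rw [hexp, map_finsuppSum]
  refine Finsupp.sum_congr fun s _ => ?_
  have e1 : φ (l2mk P' (h.ringHom ((p : relMod P) s) • q s)) =
      algebraMap P.toExtension.Ring B ((p : relMod P) s) • φ (l2mk P' (q s)) := by
    rw [← algebraMap_smul_l2mk, map_smul φ, h.algebraMap_ringHom, IsScalarTower.algebraMap_smul]
  rw [e1, map_smul u, Module.Basis.constr_basis]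

end Indep

section Iso

variable {A : Type u} {B : Type v} {ι : Type w} {σ : Type t} {ι' : Type w'} {σ' : Type t'}
variable [CommRing A] [CommRing B] [Algebra A B]
variable {P : Algebra.Presentation A B ι σ} {P' : Algebra.Presentation A B ι' σ'}

/-- Composition of morphisms of presentations of one algebra. -/
def presComp {ι'' : Type*} {σ'' : Type*} {P'' : Algebra.Presentation A B ι'' σ''}
    (k : PresHom P' P'') (h : PresHom P P') : PresHom P P'' where
  hom := k.hom.comp h.hom
  relVal s := k.relModMap (h.relVal s)
  jmap_relVal s := by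
    rw [PresHom.jmap_relModMap, PresHom.jmap_relVal]
    change k.hom.toExtensionHom.toRingHom (h.hom.toExtensionHom.toRingHom (rel P s)) = _
    rw [Algebra.Generators.Hom.toExtensionHom_comp]
    rfl

variable (P P') in
theorem exists_presHom : Nonempty (PresHom P P') := by
  have hk : ∀ s, (Algebra.Generators.defaultHom P.toGenerators P'.toGenerators).toExtensionHom.toRingHom (rel P s) ∈
      LinearMap.range (jmap P') := fun s => by
    rw [range_jmap]
    change algebraMap P'.toExtension.Ring B _ = 0
    rw [(Algebra.Generators.defaultHom P.toGenerators P'.toGenerators).toExtensionHom.algebraMap_toRingHom,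
      algebraMap_rel, map_zero]
  choose v hv using hk
  exact ⟨⟨_, v, hv⟩⟩

variable (M : Type m) [AddCommGroup M] [Module B M]

lemma comp_ringHom (k : PresHom P' P) (h : PresHom P P') (r : P.toExtension.Ring) :
    (presComp k h).ringHom r = k.ringHom (h.ringHom r) := by
  change (k.hom.comp h.hom).toExtensionHom.toRingHom r = _
  rw [Algebra.Generators.Hom.toExtensionHom_comp]
  rfl

lemma comp_relModMap (k : PresHom P' P) (h : PresHom P P') (f : relMod P) :
    (presComp k h).relModMap f = k.relModMap (h.relModMap f) := by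
  induction f using Finsupp.induction_linear with
  | zero => simp
  | add f g hf hg => simp only [map_add, hf, hg]
  | single s r =>
    rw [PresHom.relModMap_single, PresHom.relModMap_single, LinearMap.map_smulₛₗ, comp_ringHom]
    rfl

lemma id_relModMap (f : relMod P) : (PresHom.id P).relModMap f = f := by
  induction f using Finsupp.induction_linear with
  | zero => simp
  | add f g hf hg => rw [map_add, hf, hg]
  | single s r =>
    rw [PresHom.relModMap_single]
    change (Algebra.Generators.Hom.id P.toGenerators).toExtensionHom.toRingHom r • Finsupp.single s 1 = _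
    rw [Algebra.Generators.Hom.toExtensionHom_id, Finsupp.smul_single, smul_eq_mul, mul_one]
    rfl

lemma T0pull_comp_eq (k : PresHom P' P) (h : PresHom P P') :
    ∀ x, h.T0pull M (k.T0pull M x) = x := by
  intro x
  refine ((?_ : h.T0pull M (k.T0pull M x) = (presComp k h).T0pull M x).trans ?_)
  · refine Subtype.ext (LinearMap.ext fun y => congrArg (x : L0 P →ₗ[B] M) ?_)
    change Algebra.Extension.CotangentSpace.map k.hom.toExtensionHom
      (Algebra.Extension.CotangentSpace.map h.hom.toExtensionHom y) =
        Algebra.Extension.CotangentSpace.map (k.hom.comp h.hom).toExtensionHom y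
    rw [Algebra.Generators.Hom.toExtensionHom_comp, Algebra.Extension.CotangentSpace.map_comp_apply]
  · rw [T0pull_eq M (presComp k h) (PresHom.id P)]
    refine Subtype.ext (LinearMap.ext fun y => congrArg (x : L0 P →ₗ[B] M) ?_)
    change Algebra.Extension.CotangentSpace.map (Algebra.Generators.Hom.id P.toGenerators).toExtensionHom y = y
    rw [Algebra.Generators.Hom.toExtensionHom_id, Algebra.Extension.CotangentSpace.map_id]
    rfl

lemma T1pull_comp_eq (k : PresHom P' P) (h : PresHom P P') :
    ∀ x, h.T1pull M (k.T1pull M x) = x := by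
  intro x
  obtain ⟨φ, rfl⟩ := Submodule.Quotient.mk_surjective _ x
  refine ((?_ : h.T1pull M (k.T1pull M (Submodule.Quotient.mk φ)) =
    (presComp k h).T1pull M (Submodule.Quotient.mk φ)).trans ?_)
  · refine congrArg Submodule.Quotient.mk (Subtype.ext (LinearMap.ext fun y => congrArg (φ : L1 P →ₗ[B] M) ?_))
    obtain ⟨f, rfl⟩ := exists_one_tmul P y
    simp only [PresHom.L1map_tmul, map_one, comp_relModMap]
  · rw [T1pull_eq M (presComp k h) (PresHom.id P)]
    refine congrArg Submodule.Quotient.mk (Subtype.ext (LinearMap.ext fun y => congrArg (φ : L1 P →ₗ[B] M) ?_))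
    obtain ⟨f, rfl⟩ := exists_one_tmul P y
    simp only [PresHom.L1map_tmul, map_one, id_relModMap]

lemma T2pull_comp_eq (k : PresHom P' P) (h : PresHom P P') :
    ∀ x, h.T2pull M (k.T2pull M x) = x := by
  intro x
  obtain ⟨φ, rfl⟩ := Submodule.Quotient.mk_surjective _ x
  refine ((?_ : h.T2pull M (k.T2pull M (Submodule.Quotient.mk φ)) =
    (presComp k h).T2pull M (Submodule.Quotient.mk φ)).trans ?_)
  · refine congrArg Submodule.Quotient.mk (LinearMap.ext fun y => congrArg φ ?_)
    obtain ⟨q, rfl⟩ := l2mk_surjective P y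
    rw [L2map_l2mk, L2map_l2mk, L2map_l2mk]
    exact congrArg _ (Subtype.ext (comp_relModMap k h q).symm)
  · rw [T2pull_eq M (presComp k h) (PresHom.id P)]
    refine congrArg Submodule.Quotient.mk (LinearMap.ext fun y => congrArg φ ?_)
    obtain ⟨q, rfl⟩ := l2mk_surjective P y
    rw [L2map_l2mk]
    exact congrArg _ (Subtype.ext (id_relModMap (q : relMod P)))

theorem T0pull_bijective (h : PresHom P P') : Function.Bijective (h.T0pull M) := by
  obtain ⟨k⟩ := exists_presHom P' P
  exact ⟨Function.LeftInverse.injective (T0pull_comp_eq M h k), fun x => ⟨_, T0pull_comp_eq M k h x⟩⟩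

theorem T1pull_bijective (h : PresHom P P') : Function.Bijective (h.T1pull M) := by
  obtain ⟨k⟩ := exists_presHom P' P
  exact ⟨Function.LeftInverse.injective (T1pull_comp_eq M h k), fun x => ⟨_, T1pull_comp_eq M k h x⟩⟩

theorem T2pull_bijective (h : PresHom P P') : Function.Bijective (h.T2pull M) := by
  obtain ⟨k⟩ := exists_presHom P' P
  exact ⟨Function.LeftInverse.injective (T2pull_comp_eq M h k), fun x => ⟨_, T2pull_comp_eq M k h x⟩⟩

variable (P P') in
theorem exists_equiv :
    Nonempty (T0 P M ≃ₗ[B] T0 P' M) ∧ Nonempty (T1 P M ≃ₗ[B] T1 P' M) ∧ Nonempty (T2 P M ≃ₗ[B] T2 P' M) := by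
  obtain ⟨h⟩ := exists_presHom P' P
  exact ⟨⟨LinearEquiv.ofBijective _ (T0pull_bijective M h)⟩, ⟨LinearEquiv.ofBijective _ (T1pull_bijective M h)⟩,
    ⟨LinearEquiv.ofBijective _ (T2pull_bijective M h)⟩⟩

end Iso

end Groth.ArtfunDeform
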