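import Groth.Agent.ArtfunDeform.CotT.Basic
import Groth.Agent.ArtfunDeform.CotT.Compare
import Mathlib

/-!
An element kills `T¹(B/A, -)` up to a power exactly when its non-vanishing locus is smooth.
-/

set_option autoImplicit false
set_option linter.style.haveILetI false
set_option backward.isDefEq.respectTransparency false
set_option backward.isDefEq.respectTransparency.types false

noncomputable section

universe u

namespace Groth.ArtfunDeform.Annihilator

variable {B : Type u} [CommRing B]

/-- A finitely presented module with a free localisation at a prime has a section of a surjection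
up to an element outside the prime. -/
theorem exists_section {L W : Type u} [AddCommGroup L] [Module B L] [AddCommGroup W] [Module B W]
    [Module.FinitePresentation B W] (g : L →ₗ[B] W) (hg : Function.Surjective g) (q : Ideal B)
    [q.IsPrime] [Module.Free (Localization.AtPrime q) (LocalizedModule q.primeCompl W)] :
    ∃ (s : B) (σ : W →ₗ[B] L), s ∉ q ∧ ∀ w, g (σ w) = s • w := by
  classical
  let S := q.primeCompl
  obtain ⟨σq, hσq⟩ := Module.projective_lifting_property (R := Localization.AtPrime q)
    (LocalizedModule.map S g) (LinearMap.id : LocalizedModule S W →ₗ[Localization.AtPrime q] _)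
    (LocalizedModule.map_surjective S g hg)
  let f0 : W →ₗ[B] LocalizedModule S L :=
    σq.restrictScalars B ∘ₗ LocalizedModule.mkLinearMap S W
  obtain ⟨σ, s, hσ⟩ := Module.FinitePresentation.exists_lift_of_isLocalizedModule S
    (LocalizedModule.mkLinearMap S L) f0
  obtain ⟨t, ht⟩ := (Module.Finite.fg_top : (⊤ : Submodule B W).FG)
  have hloc : ∀ w : W, ∃ u : S, (u : B) • g (σ w) = (u : B) • ((s : B) • w) := by
    intro w
    have h1 : LocalizedModule.map S g (LocalizedModule.mkLinearMap S L (σ w)) =
        (s : B) • LocalizedModule.mkLinearMap S W w := by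
      have h2 := LinearMap.congr_fun hσ w
      simp only [LinearMap.comp_apply, LinearMap.smul_apply, f0] at h2
      rw [h2]
      change LocalizedModule.map S g ((s : B) • σq (LocalizedModule.mkLinearMap S W w)) = _
      rw [LinearMap.map_smul_of_tower]
      congr 1
      exact LinearMap.congr_fun hσq _
    simp only [LocalizedModule.mkLinearMap_apply, LocalizedModule.map_mk, LocalizedModule.smul'_mk] at h1
    obtain ⟨u, hu⟩ := LocalizedModule.mk_eq.mp h1
    exact ⟨u, by simpa [Submonoid.smul_def] using hu⟩
  choose u hu using hloc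
  refine ⟨(∏ w ∈ t, (u w : B)) * (s : B), (∏ w ∈ t, (u w : B)) • σ, ?_, ?_⟩
  · exact q.primeCompl.mul_mem (Submonoid.prod_mem _ fun w _ => (u w).2) s.2
  · intro w
    have hw : w ∈ Submodule.span B (t : Set W) := ht ▸ Submodule.mem_top
    induction hw using Submodule.span_induction with
    | mem x hx =>
      simp only [LinearMap.smul_apply, map_smul]
      rw [← Finset.prod_erase_mul t _ hx, mul_smul, hu x, mul_smul, mul_smul]
    | zero => simp
    | add x y _ _ hx hy => simp only [map_add, smul_add, hx, hy]
    | smul c x _ hx => simp only [map_smul, hx, smul_comm c]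

variable {A : Type u} [CommRing A] [Algebra A B]

variable {ι : Type} {σ' : Type}

theorem forall_smul_eq_zero_iff (P : Algebra.Presentation A B ι σ')
    [Module.Finite B P.toExtension.Cotangent] (b : B) :
    (∀ (M : Type u) [AddCommGroup M] [Module B M] [Module.Finite B M],
      ∀ x : CotT.T1 (CotT.canon A B) M, b • x = 0) ↔
    ∃ χ : CotT.L0 P →ₗ[B] P.toExtension.Cotangent,
      χ ∘ₗ P.toExtension.cotangentComplex = b • LinearMap.id := by
  constructor
  · intro h
    obtain ⟨-, ⟨e⟩, -⟩ := exists_equiv (CotT.canon A B) P P.toExtension.Cotangent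
    have h0 := congrArg e (h P.toExtension.Cotangent (e.symm (CotT.homToT1 P P.toExtension.Cotangent LinearMap.id)))
    rw [map_smul, e.apply_symm_apply, map_zero, ← map_smul] at h0
    exact (homToT1_eq_zero_iff P P.toExtension.Cotangent _).1 h0
  · rintro ⟨χ, hχ⟩ M _ _ _ x
    obtain ⟨-, ⟨e⟩, -⟩ := exists_equiv (CotT.canon A B) P M
    apply e.injective
    rw [map_zero, map_smul]
    obtain ⟨ψ, hψ⟩ := homToT1_surjective P M (e x)
    rw [← hψ, ← map_smul]
    exact (homToT1_eq_zero_iff P M _).2 ⟨ψ ∘ₗ χ, by
      rw [LinearMap.comp_assoc, hχ, LinearMap.comp_smul, LinearMap.comp_id]⟩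

variable [Algebra.EssFiniteType A B]

/-- If `b` times the identity of the conormal module factors through the differential, `D(b)` is smooth. -/
theorem mem_smoothLocus_of_factor [Finite ι] (P : Algebra.Presentation A B ι σ') (b : B)
    (χ : CotT.L0 P →ₗ[B] P.toExtension.Cotangent)
    (hχ : χ ∘ₗ P.toExtension.cotangentComplex = b • LinearMap.id)
    (q : PrimeSpectrum B) (hq : b ∉ q.asIdeal) : q ∈ Algebra.smoothLocus A B := by
  classical
  rw [Algebra.smoothLocus_eq_compl_support_inter]
  refine ⟨?_, ?_⟩
  · rw [Set.mem_compl_iff, Module.notMem_support_iff']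
    intro m
    refine ⟨b, hq, ?_⟩
    obtain ⟨x, rfl⟩ := P.equivH1Cotangent.surjective m
    rw [← map_smul]
    refine (congrArg _ (Subtype.ext ?_)).trans (map_zero _)
    rw [Algebra.Extension.H1Cotangent.val_smul, Algebra.Extension.H1Cotangent.val_zero]
    have h := LinearMap.congr_fun hχ x.1
    rw [LinearMap.comp_apply, show P.toExtension.cotangentComplex x.1 = 0 from x.2, map_zero] at h
    exact h.symm
  · let δ := P.toExtension.cotangentComplex
    let π := P.toExtension.toKaehler
    have hexact : ∀ z, π z = 0 ↔ z ∈ LinearMap.range δ :=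
      P.toExtension.exact_cotangentComplex_toKaehler
    let e : CotT.L0 P →ₗ[B] CotT.L0 P := b • LinearMap.id - δ ∘ₗ χ
    have he : LinearMap.ker π ≤ LinearMap.ker e := by
      intro z hz
      obtain ⟨c, rfl⟩ := (hexact z).1 hz
      have h := LinearMap.congr_fun hχ c
      rw [LinearMap.comp_apply] at h
      simp only [e, LinearMap.mem_ker, LinearMap.sub_apply, LinearMap.smul_apply, LinearMap.id_apply,
        LinearMap.comp_apply, δ, h, map_smul, sub_self]
    let σ : Ω[B⁄A] →ₗ[B] CotT.L0 P := (LinearMap.ker π).liftQ e he ∘ₗ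
      (π.quotKerEquivOfSurjective P.toExtension.toKaehler_surjective).symm.toLinearMap
    have hσ : ∀ z, σ (π z) = e z := fun z => by
      have : (π.quotKerEquivOfSurjective P.toExtension.toKaehler_surjective).symm (π z) =
          Submodule.Quotient.mk z := (LinearEquiv.symm_apply_eq _).2 rfl
      simp [σ, this]
    have hπσ : ∀ w, π (σ w) = b • w := fun w => by
      obtain ⟨z, rfl⟩ := P.toExtension.toKaehler_surjective w
      change π (σ (π z)) = b • π z
      rw [hσ]
      simp only [e, LinearMap.sub_apply, LinearMap.smul_apply, LinearMap.id_apply, LinearMap.comp_apply,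
        map_sub, map_smul, (hexact _).2 (LinearMap.mem_range_self δ _), sub_zero]
    let S := q.asIdeal.primeCompl
    let R' := Localization.AtPrime q.asIdeal
    obtain ⟨v, hv⟩ : IsUnit (algebraMap B R' b) := IsLocalization.map_units R' (⟨b, hq⟩ : S)
    let i : LocalizedModule S Ω[B⁄A] →ₗ[R'] LocalizedModule S (CotT.L0 P) :=
      (↑v⁻¹ : R') • LocalizedModule.map S σ
    let p : LocalizedModule S (CotT.L0 P) →ₗ[R'] LocalizedModule S Ω[B⁄A] := LocalizedModule.map S π
    have hpi : p ∘ₗ i = LinearMap.id := by
      refine LinearMap.ext fun x => ?_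
      induction x using LocalizedModule.induction_on with
      | h w s =>
        simp only [p, i, LinearMap.comp_apply, LinearMap.smul_apply, map_smul, LocalizedModule.map_mk,
          LinearMap.id_apply]
        erw [LocalizedModule.map_mk]
        rw [hπσ, ← LocalizedModule.smul'_mk, ← algebraMap_smul R' b, ← mul_smul, ← hv, Units.inv_mul, one_smul]
    haveI : Module.Free B (CotT.L0 P) := Module.Free.of_basis P.cotangentSpaceBasis
    haveI : Module.Finite B (CotT.L0 P) := Module.Finite.of_basis P.cotangentSpaceBasis
    haveI : Module.Projective R' (LocalizedModule S (CotT.L0 P)) :=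
      inferInstanceAs (Module.Projective R' (LocalizedModule S P.toExtension.CotangentSpace))
    haveI : Module.Projective R' (LocalizedModule S Ω[B⁄A]) := Module.Projective.of_split i p hpi
    exact Module.mem_freeLocus.2 (Module.free_of_flat_of_isLocalRing)

/-- Around a smooth point some element outside the prime times the identity of the conormal module
factors through the differential. -/
theorem exists_factor_of_mem_smoothLocus [Finite ι] [Finite σ'] (P : Algebra.Presentation A B ι σ')
    [Module.Finite B P.toExtension.Cotangent]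
    (q : PrimeSpectrum B) (hq : q ∈ Algebra.smoothLocus A B) :
    ∃ b : B, b ∉ q.asIdeal ∧ ∃ χ : CotT.L0 P →ₗ[B] P.toExtension.Cotangent,
      χ ∘ₗ P.toExtension.cotangentComplex = b • LinearMap.id := by
  classical
  rw [Algebra.smoothLocus_eq_compl_support_inter] at hq
  obtain ⟨hsupp, hfree⟩ := hq
  haveI := Module.mem_freeLocus.1 hfree
  haveI : Algebra.FinitePresentation A B := P.finitePresentation_of_isFinite
  let δ := P.toExtension.cotangentComplex
  let π := P.toExtension.toKaehler
  obtain ⟨s, σ, hs, hσ⟩ := exists_section π P.toExtension.toKaehler_surjective q.asIdeal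
  let e : CotT.L0 P →ₗ[B] CotT.L0 P := s • LinearMap.id - σ ∘ₗ π
  have hmem : ∀ i, e (P.cotangentSpaceBasis i) ∈ LinearMap.range δ := fun i =>
    (P.toExtension.exact_cotangentComplex_toKaehler _).1 (by
      simp only [e, π, LinearMap.sub_apply, LinearMap.smul_apply, LinearMap.id_apply, LinearMap.comp_apply,
        map_sub, map_smul, hσ, sub_self])
  choose c hc using hmem
  let χ : CotT.L0 P →ₗ[B] P.toExtension.Cotangent := P.cotangentSpaceBasis.constr B c
  have hδχ : δ ∘ₗ χ = e := P.cotangentSpaceBasis.ext fun i => by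
    rw [LinearMap.comp_apply, Module.Basis.constr_basis, hc]
  rw [Set.mem_compl_iff, Module.notMem_support_iff'] at hsupp
  have hkill : ∀ y : P.toExtension.Cotangent, ∃ r ∉ q.asIdeal, r • (χ (δ y) - s • y) = 0 := by
    intro y
    have hy : δ (χ (δ y) - s • y) = 0 := by
      rw [map_sub, map_smul, show δ (χ (δ y)) = e (δ y) from LinearMap.congr_fun hδχ _]
      simp only [e, LinearMap.sub_apply, LinearMap.smul_apply, LinearMap.id_apply, LinearMap.comp_apply]
      rw [show π (δ y) = 0 from (P.toExtension.exact_cotangentComplex_toKaehler _).2 ⟨y, rfl⟩, map_zero,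
        sub_zero, sub_self]
    obtain ⟨r, hr, h⟩ := hsupp (P.equivH1Cotangent ⟨χ (δ y) - s • y, hy⟩)
    refine ⟨r, hr, ?_⟩
    rw [← map_smul, LinearEquiv.map_eq_zero_iff] at h
    have h' := congrArg Subtype.val h
    rwa [Algebra.Extension.H1Cotangent.val_smul] at h'
  choose r hr hkill using hkill
  obtain ⟨t, ht⟩ := (Module.Finite.fg_top : (⊤ : Submodule B P.toExtension.Cotangent).FG)
  refine ⟨(∏ y ∈ t, r y) * s, q.asIdeal.primeCompl.mul_mem (Submonoid.prod_mem _ fun y _ => hr y) hs,
    (∏ y ∈ t, r y) • χ, ?_⟩
  refine LinearMap.ext_on ht fun y hy => ?_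
  simp only [LinearMap.comp_apply, LinearMap.smul_apply, LinearMap.id_apply]
  rw [← sub_eq_zero, mul_smul, ← smul_sub, ← Finset.prod_erase_mul t r hy, mul_smul, hkill, smul_zero]

/-- An element of a finitely presented algebra kills every `T¹(B/A, M)` up to a power iff its
non-vanishing locus is smooth. -/
theorem forall_mem_smoothLocus_iff (A B : Type u) [CommRing A] [CommRing B] [Algebra A B]
    [Algebra.FinitePresentation A B] (b : B) :
    (∀ q : PrimeSpectrum B, b ∉ q.asIdeal → q ∈ Algebra.smoothLocus A B) ↔
    ∃ n₀ : ℕ, ∀ (M : Type u) [AddCommGroup M] [Module B M] [Module.Finite B M],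
      ∀ x : CotT.T1 (CotT.canon A B) M, b ^ n₀ • x = 0 := by
  let P := Algebra.Presentation.ofFinitePresentation A B
  haveI : Module.Finite B P.toExtension.Cotangent := Algebra.Extension.Cotangent.finite P.fg_ker
  simp_rw [forall_smul_eq_zero_iff P]
  constructor
  · intro h
    let J : Ideal B :=
      { carrier := {c | ∃ χ : CotT.L0 P →ₗ[B] P.toExtension.Cotangent,
          χ ∘ₗ P.toExtension.cotangentComplex = c • LinearMap.id}
        add_mem' := fun ⟨χ, hχ⟩ ⟨χ', hχ'⟩ => ⟨χ + χ', by rw [LinearMap.add_comp, hχ, hχ', add_smul]⟩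
        zero_mem' := ⟨0, by rw [LinearMap.zero_comp, zero_smul]⟩
        smul_mem' := fun c x ⟨χ, hχ⟩ => ⟨c • χ, by rw [LinearMap.smul_comp, hχ, smul_smul, smul_eq_mul]⟩ }
    have hb : b ∈ J.radical := by
      rw [Ideal.radical_eq_sInf, Ideal.mem_sInf]
      rintro p ⟨hJp, hp⟩
      by_contra hbp
      obtain ⟨c, hc, hχ⟩ := exists_factor_of_mem_smoothLocus P ⟨p, hp⟩ (h ⟨p, hp⟩ hbp)
      exact hc (hJp hχ)
    exact hb
  · rintro ⟨n, χ, hχ⟩ q hq
    exact mem_smoothLocus_of_factor P (b ^ n) χ hχ q fun h => hq (q.2.mem_of_pow_mem n h)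

end Groth.ArtfunDeform.Annihilator
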