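import Groth.Agent.ArtfunDeform.CotT.Vanishing

/-!
`T²` over the polynomial ring of a presentation equals `T²` over the base.
-/

set_option linter.style.haveILetI false
set_option linter.style.longLine false
set_option linter.unusedSectionVars false

noncomputable section

universe u v w t m w'

open TensorProduct

namespace Groth.ArtfunDeform

open CotT

lemma aeval_C_X {A : Type u} [CommRing A] {ι : Type w} {ι' : Type w'} (p : MvPolynomial ι A) :
    MvPolynomial.aeval (fun i => (MvPolynomial.C (MvPolynomial.X i) : MvPolynomial ι' (MvPolynomial ι A))) p =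
      MvPolynomial.C p :=
  (congrArg (fun f : MvPolynomial ι A →ₐ[A] MvPolynomial ι' (MvPolynomial ι A) => f p)
    (MvPolynomial.aeval_unique
      (IsScalarTower.toAlgHom A (MvPolynomial ι A) (MvPolynomial ι' (MvPolynomial ι A))))).symm

section

variable {A : Type u} {B : Type v} {ι : Type w} {σ : Type t}
variable [CommRing A] [CommRing B] [Algebra A B]
variable (P : Algebra.Presentation A B ι σ) {ι' : Type w'}
variable (G : Algebra.Generators P.toExtension.Ring B ι') [IsEmpty ι']

/-- `G` (no variables) with the relations of `P`. -/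
def presOver : Algebra.Presentation P.toExtension.Ring B ι' σ where
  toGenerators := G
  relation s := MvPolynomial.C (rel P s)
  span_range_relation_eq_ker := by
    refine le_antisymm (Ideal.span_le.2 ?_) fun p hp => ?_
    · rintro _ ⟨s, rfl⟩
      change algebraMap G.toExtension.Ring B (MvPolynomial.C (rel P s)) = 0
      refine ((G.algebraMap_apply _).trans (MvPolynomial.aeval_C _ _)).trans ?_
      exact algebraMap_rel P s
    · obtain ⟨r, rfl⟩ := MvPolynomial.C_surjective ι' p
      have hr : algebraMap P.toExtension.Ring B r = 0 :=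
        ((G.algebraMap_apply _).trans (MvPolynomial.aeval_C _ _)).symm.trans hp
      obtain ⟨f, hf⟩ := jker_surjective P ⟨r, hr⟩
      have hf' : jmap P f = r := congrArg Subtype.val hf
      rw [← hf', jmap, Finsupp.linearCombination_apply, Finsupp.sum, map_sum]
      exact Ideal.sum_mem _ fun s _ => by
        rw [smul_eq_mul, map_mul]
        exact Ideal.mul_mem_left _ _ (Ideal.subset_span ⟨s, rfl⟩)

variable [IsScalarTower A P.toExtension.Ring B]

/-- The square `A → R`, `B = B`. -/
def presOverHom : PresHom P (presOver P G) where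
  hom :=
    { val := fun i => MvPolynomial.C (MvPolynomial.X i)
      aeval_val := fun i => by
        exact (MvPolynomial.aeval_C (R := P.toExtension.Ring) G.val _).trans
          (((algebraMap_toExtension P _).trans (MvPolynomial.aeval_X _ _)).trans
            (Algebra.algebraMap_self_apply _).symm) }
  relVal s := Finsupp.single s 1
  jmap_relVal s := by
    rw [jmap_single, one_mul]
    change MvPolynomial.C (rel P s) = MvPolynomial.aeval (fun i => MvPolynomial.C (MvPolynomial.X i)) (rel P s)
    exact (aeval_C_X _).symm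

lemma presOverHom_ringHom (r : P.toExtension.Ring) : (presOverHom P G).ringHom r = MvPolynomial.C r := by
  change MvPolynomial.aeval (fun i => MvPolynomial.C (MvPolynomial.X i)) r = MvPolynomial.C r
  exact aeval_C_X r

lemma presOverHom_relModMap (f : relMod P) (s : σ) :
    (presOverHom P G).relModMap f s = MvPolynomial.C (f s) := by
  classical
  induction f using Finsupp.induction_linear with
  | zero =>
    rw [map_zero]
    exact (map_zero MvPolynomial.C).symm
  | add f g hf hg =>
    rw [map_add, Finsupp.add_apply, Finsupp.add_apply, map_add, hf, hg]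
    rfl
  | single a r =>
    rw [PresHom.relModMap_single]
    change ((presOverHom P G).ringHom r • Finsupp.single a (1 : (presOver P G).toExtension.Ring)) s = _
    rw [Finsupp.smul_apply, smul_eq_mul, Finsupp.single_apply, Finsupp.single_apply]
    split
    · rw [mul_one]
      exact presOverHom_ringHom P G r
    · rw [mul_zero]
      exact (map_zero MvPolynomial.C).symm

lemma presOverHom_relModMap_bijective : Function.Bijective (presOverHom P G).relModMap := by
  refine ⟨fun f g h => Finsupp.ext fun s => MvPolynomial.C_injective ι' _ ?_, fun f => ?_⟩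
  · rw [← presOverHom_relModMap, ← presOverHom_relModMap, h]
  · refine ⟨Finsupp.mapRange (MvPolynomial.isEmptyAlgEquiv P.toExtension.Ring ι') (map_zero _) f,
      Finsupp.ext fun s => ?_⟩
    rw [presOverHom_relModMap, Finsupp.mapRange_apply]
    obtain ⟨r, hr⟩ := MvPolynomial.C_surjective ι' (f s)
    exact (congrArg MvPolynomial.C ((congrArg _ hr.symm).trans
      ((MvPolynomial.isEmptyAlgEquiv P.toExtension.Ring ι').commutes r))).trans hr

lemma presOverHom_relModMap_reflects {f : relMod P}
    (h : (presOverHom P G).relModMap f ∈ trivRel (presOver P G)) : f ∈ trivRel P := by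
  suffices ∀ y ∈ trivRel (presOver P G), ∃ x ∈ trivRel P, (presOverHom P G).relModMap x = y by
    obtain ⟨x, hx, e⟩ := this _ h
    rwa [← (presOverHom_relModMap_bijective P G).1 e]
  intro y hy
  induction hy using Submodule.span_induction with
  | mem y hy =>
    obtain ⟨a, b, rfl⟩ := hy
    obtain ⟨a, rfl⟩ := (presOverHom_relModMap_bijective P G).2 a
    obtain ⟨b, rfl⟩ := (presOverHom_relModMap_bijective P G).2 b
    refine ⟨_, Submodule.subset_span ⟨a, b, rfl⟩, ?_⟩
    rw [map_sub, LinearMap.map_smulₛₗ, LinearMap.map_smulₛₗ, PresHom.jmap_relModMap, PresHom.jmap_relModMap]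
  | zero => exact ⟨0, zero_mem _, map_zero _⟩
  | add y z _ _ hy hz =>
    obtain ⟨a, ha, rfl⟩ := hy
    obtain ⟨b, hb, rfl⟩ := hz
    exact ⟨a + b, add_mem ha hb, map_add _ _ _⟩
  | smul r y _ hy =>
    obtain ⟨a, ha, rfl⟩ := hy
    obtain ⟨r₀, hr₀⟩ := MvPolynomial.C_surjective ι' r
    refine ⟨r₀ • a, Submodule.smul_mem _ _ ha, ?_⟩
    rw [LinearMap.map_smulₛₗ, presOverHom_ringHom, hr₀]

lemma presOverHom_L2map_bijective : Function.Bijective (presOverHom P G).L2map := by
  refine ⟨(injective_iff_map_eq_zero _).2 fun z hz => ?_, fun z => ?_⟩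
  · obtain ⟨q, rfl⟩ := l2mk_surjective P z
    rw [L2map_l2mk] at hz
    exact l2mk_eq_zero P (presOverHom_relModMap_reflects P G ((l2mk_eq_zero_iff _).1 hz))
  · obtain ⟨q, rfl⟩ := l2mk_surjective _ z
    obtain ⟨f, hf⟩ := (presOverHom_relModMap_bijective P G).2 (q : relMod (presOver P G))
    have hfq : jmap P f = 0 := by
      refine MvPolynomial.C_injective ι' _ ?_
      rw [← presOverHom_ringHom P G, ← PresHom.jmap_relModMap, hf, map_zero]
      exact q.2
    exact ⟨l2mk P ⟨f, hfq⟩, by rw [L2map_l2mk]; exact congrArg _ (Subtype.ext hf)⟩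

variable (M : Type m) [AddCommGroup M] [Module B M]

lemma presOverHom_L1map_basis (s : σ) :
    (presOverHom P G).L1map (L1basis P s) = L1basis (presOver P G) s := by
  rw [L1basis_apply, L1basis_apply, PresHom.L1map_tmul, map_one, PresHom.relModMap_single, map_one, one_smul]
  rfl

theorem presOverHom_T2pull_bijective : Function.Bijective ((presOverHom P G).T2pull M) := by
  let h := presOverHom P G
  let e : L2 P ≃ₗ[B] L2 (presOver P G) :=
    LinearEquiv.ofBijective (PresHom.linOfSemilinear (L2 (presOver P G)) h.L2map) (presOverHom_L2map_bijective P G)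
  have hpull : ∀ φ : L2 P →ₗ[B] M, h.pull2 M (φ ∘ₗ e.symm.toLinearMap) = φ := fun φ => LinearMap.ext fun x => by
    rw [PresHom.pull2_apply, LinearMap.comp_apply, LinearEquiv.coe_coe]
    exact congrArg φ (e.symm_apply_apply x)
  have hinj : ∀ ψ : L2 (presOver P G) →ₗ[B] M, (h.pull2 M ψ) ∘ₗ e.symm.toLinearMap = ψ := fun ψ =>
    LinearMap.ext fun x => by
      rw [LinearMap.comp_apply, PresHom.pull2_apply]
      exact congrArg ψ (e.apply_symm_apply x)
  refine ⟨(injective_iff_map_eq_zero _).2 fun x hx => ?_, fun x => ?_⟩
  · obtain ⟨ψ, rfl⟩ := Submodule.Quotient.mk_surjective _ x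
    obtain ⟨χ, hχ⟩ := (Submodule.Quotient.mk_eq_zero _).1 hx
    have hχ' : d2Star P M χ = h.pull2 M ψ := hχ
    refine (Submodule.Quotient.mk_eq_zero _).2
      ⟨(L1basis (presOver P G)).constr B fun s => χ (L1basis P s), ?_⟩
    have h1 : h.pull1 M ((L1basis (presOver P G)).constr B fun s => χ (L1basis P s)) = χ :=
      (L1basis P).ext fun s => by
        rw [PresHom.pull1_apply, presOverHom_L1map_basis, Module.Basis.constr_basis]
    have h2 := hinj (d2Star (presOver P G) M ((L1basis (presOver P G)).constr B fun s => χ (L1basis P s)))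
    rw [PresHom.pull2_d2Star, h1] at h2
    exact h2.symm.trans ((congrArg (fun x => x ∘ₗ e.symm.toLinearMap) hχ').trans (hinj ψ))
  · obtain ⟨φ, rfl⟩ := Submodule.Quotient.mk_surjective _ x
    exact ⟨Submodule.Quotient.mk (φ ∘ₗ e.symm.toLinearMap), congrArg Submodule.Quotient.mk (hpull φ)⟩

end

theorem exists_T2_equiv_over {A : Type u} {B : Type v} {ι : Type w} {σ : Type t} {ι' σ' : Type w'}
    [CommRing A] [CommRing B] [Algebra A B] (P : Algebra.Presentation A B ι σ) [IsEmpty ι']
    (P' : Algebra.Presentation P.toExtension.Ring B ι' σ') (M : Type m) [AddCommGroup M] [Module B M] :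
    Nonempty (T2 P' M ≃ₗ[B] T2 P M) := by
  haveI : IsScalarTower A P.toExtension.Ring B := IsScalarTower.of_algebraMap_eq' <| RingHom.ext fun a => by
    exact ((algebraMap_toExtension P _).trans (MvPolynomial.aeval_C _ a)).symm
  obtain ⟨-, -, ⟨e⟩⟩ := exists_equiv P' (presOver P P'.toGenerators) M
  exact ⟨e.trans (LinearEquiv.ofBijective _ (presOverHom_T2pull_bijective P P'.toGenerators M))⟩

end Groth.ArtfunDeform
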