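import Groth.Agent.ArtfunDeform.CotT.Basic

/-!
The ring of "differences with a lift to the relation module modulo trivial relations", used to compare two
morphisms of presentations.
-/

set_option linter.style.haveILetI false
set_option linter.style.longLine false
set_option linter.unusedSectionVars false

noncomputable section

universe u v w t

namespace Groth.ArtfunDeform

open CotT

variable {A : Type u} {B : Type v} {ι : Type w} {σ : Type t}
variable [CommRing A] [CommRing B] [Algebra A B]
variable (P : Algebra.Presentation A B ι σ)

/-- `F/F₀`. -/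
abbrev relQuot : Type (max t w u) := relMod P ⧸ trivRel P

/-- The map `F/F₀ → R` induced by `j`. -/
def jbar : relQuot P →ₗ[P.toExtension.Ring] P.toExtension.Ring :=
  Submodule.liftQ _ (jmap P) (trivRel_le_relKer P)

@[simp] lemma jbar_mk (f : relMod P) : jbar P (Submodule.Quotient.mk f) = jmap P f := rfl

lemma jbar_smul_comm (m n : relQuot P) : jbar P m • n = jbar P n • m := by
  obtain ⟨a, rfl⟩ := Submodule.Quotient.mk_surjective _ m
  obtain ⟨b, rfl⟩ := Submodule.Quotient.mk_surjective _ n
  rw [jbar_mk, jbar_mk, ← Submodule.Quotient.mk_smul, ← Submodule.Quotient.mk_smul, Submodule.Quotient.eq]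
  exact Submodule.subset_span ⟨a, b, rfl⟩

/-- Pairs of an element of `R` and an element of `F/F₀`, read as a pair of elements of `R` with a chosen lift
of the difference. -/
def DiffRing : Type (max t w u) := P.toExtension.Ring × relQuot P

namespace DiffRing

variable {P}

/-- Constructor. -/
def mk (a : P.toExtension.Ring) (m : relQuot P) : DiffRing P := (a, m)

/-- First component. -/
def fst (x : DiffRing P) : P.toExtension.Ring := x.1

/-- Second component. -/
def snd (x : DiffRing P) : relQuot P := x.2

instance : AddCommGroup (DiffRing P) :=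
  inferInstanceAs (AddCommGroup (P.toExtension.Ring × relQuot P))

@[ext] lemma ext {x y : DiffRing P} (h₁ : x.fst = y.fst) (h₂ : x.snd = y.snd) : x = y := Prod.ext h₁ h₂

@[simp] lemma fst_mk (a : P.toExtension.Ring) (m : relQuot P) : (mk a m).fst = a := rfl
@[simp] lemma snd_mk (a : P.toExtension.Ring) (m : relQuot P) : (mk a m).snd = m := rfl
@[simp] lemma fst_add (x y : DiffRing P) : (x + y).fst = x.fst + y.fst := rfl
@[simp] lemma snd_add (x y : DiffRing P) : (x + y).snd = x.snd + y.snd := rfl
@[simp] lemma fst_zero : (0 : DiffRing P).fst = 0 := rfl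
@[simp] lemma snd_zero : (0 : DiffRing P).snd = 0 := rfl

instance : Mul (DiffRing P) :=
  ⟨fun x y => mk (x.fst * y.fst) (x.fst • y.snd + y.fst • x.snd - jbar P y.snd • x.snd)⟩

instance : One (DiffRing P) := ⟨mk 1 0⟩

@[simp] lemma fst_mul (x y : DiffRing P) : (x * y).fst = x.fst * y.fst := rfl
@[simp] lemma snd_mul (x y : DiffRing P) :
    (x * y).snd = x.fst • y.snd + y.fst • x.snd - jbar P y.snd • x.snd := rfl
@[simp] lemma fst_one : (1 : DiffRing P).fst = 1 := rfl
@[simp] lemma snd_one : (1 : DiffRing P).snd = 0 := rfl

protected lemma left_distrib' (a b c : DiffRing P) : a * (b + c) = a * b + a * c := by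
  refine ext ?_ ?_
  · simp [mul_add]
  · simp only [snd_mul, fst_add, snd_add, map_add, smul_add, add_smul]
    abel

protected lemma mul_comm' (a b : DiffRing P) : a * b = b * a := by
  refine ext ?_ ?_
  · simp [mul_comm]
  · simp only [snd_mul]
    rw [jbar_smul_comm P b.snd a.snd]
    abel

protected lemma mul_assoc' (a b c : DiffRing P) : a * b * c = a * (b * c) := by
  refine ext ?_ ?_
  · simp [mul_assoc]
  · simp only [snd_mul, fst_mul, map_add, map_sub, map_smul, smul_eq_mul]
    simp only [smul_add, smul_sub, add_smul, sub_smul, smul_smul]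
    rw [mul_comm c.fst a.fst, mul_comm c.fst b.fst, mul_comm (jbar P c.snd) a.fst, mul_comm (jbar P c.snd) b.fst,
      mul_comm c.fst (jbar P b.snd), mul_comm (jbar P c.snd) (jbar P b.snd)]
    abel

instance : CommRing (DiffRing P) where
  __ := (inferInstance : AddCommGroup (DiffRing P))
  mul := (· * ·)
  one := 1
  left_distrib := DiffRing.left_distrib'
  right_distrib a b c := by
    rw [DiffRing.mul_comm', DiffRing.left_distrib', DiffRing.mul_comm' c a, DiffRing.mul_comm' c b]
  zero_mul a := ext (by simp) (by simp)
  mul_zero a := ext (by simp) (by simp)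
  mul_assoc := DiffRing.mul_assoc'
  one_mul a := ext (by simp) (by simp)
  mul_one a := ext (by simp) (by simp)
  mul_comm := DiffRing.mul_comm'

variable (P) in
/-- Elements with zero difference. -/
def inl : P.toExtension.Ring →+* DiffRing P where
  toFun a := mk a 0
  map_one' := rfl
  map_mul' a b := ext rfl (by simp)
  map_zero' := rfl
  map_add' a b := ext rfl (by simp)

end DiffRing

end Groth.ArtfunDeform
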