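import Groth.Agent.ArtfunDeform.CotT.Smooth
import Groth.Agent.Gorenstein.Basic
import Mathlib.Algebra.Homology.DerivedCategory.Ext.Linear

/-!
`T²` of a reduced algebra as the first `Ext` of the conormal module.
-/

set_option autoImplicit false
set_option linter.style.haveILetI false
set_option linter.style.longLine false
set_option backward.isDefEq.respectTransparency false
set_option backward.isDefEq.respectTransparency.types false

noncomputable section

universe u

open CategoryTheory CategoryTheory.Abelian GrothGoren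

namespace Groth.ArtfunDeform

section Restrict

/-- The first `Ext` of the end of a short exact sequence with projective middle term. -/
theorem exists_ext_one_connecting {R : Type u} [CommRing R] {U V W N : Type u} [AddCommGroup U] [Module R U]
    [AddCommGroup V] [Module R V] [AddCommGroup W] [Module R W] [AddCommGroup N] [Module R N]
    [Module.Projective R V] (f : U →ₗ[R] V) (g : V →ₗ[R] W) (hex : Function.Exact f g)
    (hf : Function.Injective f) (hg : Function.Surjective g) :
    ∃ δ : (U →ₗ[R] N) →ₗ[R] Ext (ModuleCat.of R W) (ModuleCat.of R N) 1, Function.Surjective δ ∧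
      ∀ x, δ x = 0 ↔ ∃ ψ : V →ₗ[R] N, ψ ∘ₗ f = x := by
  have hSE := seqCx_shortExact f g hex hf hg
  refine ⟨{ toFun := fun x => hSE.extClass.comp (Ext.mk₀ (ModuleCat.ofHom x)) (add_zero 1)
            map_add' := fun x y => by
              refine (congrArg (fun t => hSE.extClass.comp t (add_zero 1)) (Ext.mk₀_add _ _)).trans ?_
              exact Ext.comp_add _ _ _ _
            map_smul' := fun b x => by
              refine (congrArg (fun t => hSE.extClass.comp t (add_zero 1)) (Ext.mk₀_smul b _)).trans ?_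
              exact Ext.comp_smul _ _ _ b }, fun x => ?_, fun x => ?_⟩
  · obtain ⟨y, hy⟩ := Ext.contravariant_sequence_exact₃ hSE (ModuleCat.of R N) x
      (Subsingleton.elim (h := extZ_of_projective (R := R) (N := V) (M := N) (i := 0)) _ _)
      (n₀ := 0) (by omega)
    obtain ⟨g, rfl⟩ := (Ext.mk₀_bijective _ _).2 y
    exact ⟨g.hom, hy⟩
  · constructor
    · intro h
      obtain ⟨y, hy⟩ := Ext.contravariant_sequence_exact₁ hSE (ModuleCat.of R N)
        (Ext.mk₀ (ModuleCat.ofHom x)) (n₁ := 1) (by omega) h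
      obtain ⟨g, rfl⟩ := (Ext.mk₀_bijective _ _).2 y
      rw [Ext.mk₀_comp_mk₀] at hy
      exact ⟨g.hom, congrArg ModuleCat.Hom.hom ((Ext.mk₀_bijective _ _).1 hy)⟩
    · rintro ⟨ψ, rfl⟩
      change hSE.extClass.comp (Ext.mk₀ ((seqCx f g hex).f ≫ ModuleCat.ofHom ψ)) (add_zero 1) = 0
      rw [← Ext.mk₀_comp_mk₀]
      exact hSE.extClass_comp_assoc _

/-- Forms on `X` modulo those extended along `d : X → U → V` are the connecting cokernel when all forms
factor through the image. -/
theorem nonempty_quot_range_equiv {R : Type u} [CommRing R] {X U V N E : Type u} [AddCommGroup X] [Module R X]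
    [AddCommGroup U] [Module R U] [AddCommGroup V] [Module R V] [AddCommGroup N] [Module R N]
    [AddCommGroup E] [Module R E] (d : X →ₗ[R] V) (f : U →ₗ[R] V) (π : X →ₗ[R] U)
    (hfπ : ∀ z, f (π z) = d z) (hπ : Function.Surjective π)
    (hkill : ∀ (φ : X →ₗ[R] N) z, π z = 0 → φ z = 0)
    (δ : (U →ₗ[R] N) →ₗ[R] E) (hδs : Function.Surjective δ)
    (hδk : ∀ x, δ x = 0 ↔ ∃ ψ : V →ₗ[R] N, ψ ∘ₗ f = x) :
    Nonempty (((X →ₗ[R] N) ⧸ LinearMap.range (LinearMap.lcomp R N d)) ≃ₗ[R] E) := by
  let F : (U →ₗ[R] N) →ₗ[R] ((X →ₗ[R] N) ⧸ LinearMap.range (LinearMap.lcomp R N d)) :=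
    Submodule.mkQ _ ∘ₗ LinearMap.lcomp R N π
  have hF : Function.Surjective F := by
    intro y
    obtain ⟨φ, rfl⟩ := Submodule.Quotient.mk_surjective _ y
    refine ⟨(LinearMap.ker π).liftQ φ (fun z hz => hkill φ z hz) ∘ₗ
      (π.quotKerEquivOfSurjective hπ).symm.toLinearMap, ?_⟩
    refine congrArg Submodule.Quotient.mk (LinearMap.ext fun z => ?_)
    have : (π.quotKerEquivOfSurjective hπ).symm (π z) = Submodule.Quotient.mk z :=
      (LinearEquiv.symm_apply_eq _).2 rfl
    simp [this]
  have hker : LinearMap.ker F = LinearMap.ker δ := by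
    ext x
    rw [LinearMap.mem_ker, LinearMap.mem_ker, hδk]
    refine (Submodule.Quotient.mk_eq_zero _).trans ⟨fun ⟨ψ, hψ⟩ => ⟨ψ, LinearMap.ext fun y => ?_⟩,
      fun ⟨ψ, hψ⟩ => ⟨ψ, LinearMap.ext fun z => ?_⟩⟩
    · obtain ⟨z, rfl⟩ := hπ y
      rw [LinearMap.comp_apply, hfπ]
      exact LinearMap.congr_fun hψ z
    · simp only [LinearMap.lcomp_apply, ← hfπ]
      exact LinearMap.congr_fun hψ (π z)
  exact ⟨(F.quotKerEquivOfSurjective hF).symm.trans
    ((Submodule.quotEquivOfEq _ _ hker).trans (δ.quotKerEquivOfSurjective hδs))⟩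

end Restrict

section Syz

variable {R : Type u} [CommRing R] {σ : Type u} {f : σ → R}

/-- A good syzygy becomes trivial after multiplying by an element outside a prime where the family is good. -/
theorem exists_smul_mem_trivSub_of_localization (p : Ideal R) [p.IsPrime]
    (h : IsGoodFamily (fun s => algebraMap R (Localization.AtPrime p) (f s)))
    (q : σ →₀ R) (hq : Finsupp.linearCombination R f q = 0) (hqI : ∀ s, q s ∈ Ideal.span (Set.range f)) :
    ∃ t : R, t ∉ p ∧ t • q ∈ trivSub f := by
  classical
  let S := Localization.AtPrime p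
  let i : R →+* S := algebraMap R S
  let μ : (σ →₀ R) →+ (σ →₀ S) := Finsupp.mapRange.addMonoidHom i.toAddMonoidHom
  have hμ : ∀ a s, μ a s = i (a s) := fun a s => rfl
  have hμs : ∀ r a, μ (r • a) = i r • μ a := fun r a => Finsupp.ext fun s => map_mul i r (a s)
  have hlc : ∀ a, Finsupp.linearCombination S (fun s => i (f s)) (μ a) = i (Finsupp.linearCombination R f a) := by
    intro a
    induction a using Finsupp.induction_linear with
    | zero => simp
    | add a b ha hb => rw [map_add, map_add, map_add, map_add, ha, hb]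
    | single s r =>
      rw [show μ (Finsupp.single s r) = Finsupp.single s (i r) from Finsupp.mapRange_single (hf := map_zero i),
        Finsupp.linearCombination_single, Finsupp.linearCombination_single, smul_eq_mul, smul_eq_mul, map_mul]
  have hq' : μ q ∈ trivSub (fun s => i (f s)) := by
    refine h (μ q) (by rw [hlc, hq, map_zero]) fun s => ?_
    have hrange : Set.range (fun s => i (f s)) = i '' Set.range f := Set.range_comp i f
    rw [hrange, ← Ideal.map_span, hμ]
    exact Ideal.mem_map_of_mem _ (hqI s)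
  have key : ∀ y ∈ trivSub (fun s => i (f s)), ∃ t : p.primeCompl, ∃ x ∈ trivSub f, i t • y = μ x := by
    intro y hy
    replace hy := trivSub_le_span_basis hy
    induction hy using Submodule.span_induction with
    | mem y hy =>
      obtain ⟨a, b, rfl⟩ := hy
      refine ⟨1, f a • Finsupp.single b 1 - f b • Finsupp.single a 1,
        Submodule.subset_span ⟨Finsupp.single a 1, Finsupp.single b 1, ?_⟩, ?_⟩
      · simp
      · rw [OneMemClass.coe_one, map_one, one_smul, map_sub, hμs, hμs]
        simp [μ]
    | zero => exact ⟨1, 0, zero_mem _, by simp⟩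
    | add y z _ _ hy hz =>
      obtain ⟨t, x, hx, e⟩ := hy
      obtain ⟨t', x', hx', e'⟩ := hz
      refine ⟨t * t', (t' : R) • x + (t : R) • x', add_mem (Submodule.smul_mem _ _ hx) (Submodule.smul_mem _ _ hx'), ?_⟩
      rw [map_add, hμs, hμs, ← e, ← e', Submonoid.coe_mul, map_mul, smul_smul, smul_smul, smul_add, mul_comm (i t') (i t)]
    | smul r y _ hy =>
      obtain ⟨t, x, hx, e⟩ := hy
      obtain ⟨⟨a, t'⟩, ha⟩ := IsLocalization.surj p.primeCompl r
      refine ⟨t' * t, a • x, Submodule.smul_mem _ _ hx, ?_⟩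
      rw [hμs, ← e, smul_smul, smul_smul, Submonoid.coe_mul, map_mul, ← ha]
      congr 1
      ring
  obtain ⟨t, x, hx, e⟩ := key _ hq'
  have hz : μ ((t : R) • q - x) = 0 := by rw [map_sub, hμs, e, sub_self]
  choose c hc using fun s => (IsLocalization.map_eq_zero_iff p.primeCompl S (((t : R) • q - x) s)).1
    (by
      have := DFunLike.congr_fun hz s
      rwa [hμ, Finsupp.zero_apply] at this)
  let C : p.primeCompl := ∏ s ∈ ((t : R) • q - x).support, c s
  have hC : (C : R) • ((t : R) • q - x) = 0 := Finsupp.ext fun s => by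
    rw [Finsupp.smul_apply, smul_eq_mul, Finsupp.zero_apply]
    by_cases hs : s ∈ ((t : R) • q - x).support
    · obtain ⟨d, hd⟩ := Finset.dvd_prod_of_mem (fun s => (c s : R)) hs
      rw [show (C : R) = ∏ s ∈ ((t : R) • q - x).support, (c s : R) from by simp [C], hd,
        mul_comm (c s : R), mul_assoc, hc, mul_zero]
    · rw [Finsupp.notMem_support_iff.1 hs, mul_zero]
  rw [smul_sub, sub_eq_zero, smul_smul] at hC
  exact ⟨C * t, (C * t).2, hC ▸ Submodule.smul_mem _ _ hx⟩

end Syz

section T2

open CotT

variable {k B : Type u} [Field k] [CommRing B] [Algebra k B] {ι σ : Type u} [Finite ι]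
  (P : Algebra.Presentation k B ι σ)

/-- Where the algebra is regular the relations of a presentation over a field form a good family. -/
theorem isGoodFamily_atPrime_of_regular (q : Ideal B) [q.IsPrime]
    [IsRegularLocalRing (Localization.AtPrime q)] :
    IsGoodFamily (fun s => algebraMap P.toExtension.Ring
      (Localization.AtPrime (q.comap (algebraMap P.toExtension.Ring B))) (rel P s)) := by
  letI : IsRegularRing P.toExtension.Ring := inferInstanceAs (IsRegularRing (MvPolynomial ι k))
  have hker : RingHom.ker (algebraMap P.toExtension.Ring B) = Ideal.span (Set.range (rel P)) :=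
    P.span_range_relation_eq_ker.symm
  let g : P.toExtension.Ring →+* B := algebraMap P.toExtension.Ring B
  let p : Ideal P.toExtension.Ring := q.comap g
  have hg : Function.Surjective g := ring_surjective P
  let φ : Localization.AtPrime p →+* Localization.AtPrime q := Localization.localRingHom p q g rfl
  have hmk : ∀ (a : P.toExtension.Ring) (s : p.primeCompl), φ (IsLocalization.mk' _ a s) =
      IsLocalization.mk' (Localization.AtPrime q) (g a) (⟨g s, s.2⟩ : q.primeCompl) :=
    fun a s => Localization.localRingHom_mk' p q g rfl a s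
  have hφs : Function.Surjective φ := by
    intro y
    obtain ⟨b, s, rfl⟩ := IsLocalization.exists_mk'_eq q.primeCompl y
    obtain ⟨a, rfl⟩ := hg b
    obtain ⟨t, ht⟩ := hg (s : B)
    have htp : t ∈ p.primeCompl := fun h => s.2 (ht ▸ (h : g t ∈ q))
    refine ⟨IsLocalization.mk' _ a (⟨t, htp⟩ : p.primeCompl), ?_⟩
    rw [hmk]
    congr 1
    exact Subtype.ext ht
  let J : Ideal (Localization.AtPrime p) :=
    Ideal.span (Set.range fun s => algebraMap P.toExtension.Ring (Localization.AtPrime p) (rel P s))
  have hJ : J = (RingHom.ker g).map (algebraMap P.toExtension.Ring (Localization.AtPrime p)) := by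
    rw [hker, Ideal.map_span, ← Set.range_comp]
    rfl
  have hφk : RingHom.ker φ = J := by
    rw [hJ]
    ext x
    obtain ⟨a, s, rfl⟩ := IsLocalization.exists_mk'_eq p.primeCompl x
    rw [RingHom.mem_ker, hmk, IsLocalization.mk'_eq_zero_iff,
      IsLocalization.mk'_mem_map_algebraMap_iff]
    constructor
    · rintro ⟨t, ht⟩
      obtain ⟨t₀, ht₀⟩ := hg (t : B)
      exact ⟨t₀, fun h => t.2 (ht₀ ▸ (h : g t₀ ∈ q)), by rw [RingHom.mem_ker, map_mul, ht₀, ht]⟩
    · rintro ⟨t₀, ht₀, h⟩
      exact ⟨⟨g t₀, ht₀⟩, by rw [← map_mul]; exact h⟩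
  haveI : IsRegularLocalRing (Localization.AtPrime p ⧸ J) :=
    IsRegularLocalRing.of_ringEquiv
      ((RingHom.quotientKerEquivOfSurjective hφs).symm.trans (Ideal.quotEquivOfEq hφk))
  obtain ⟨rs, hrs, -, hrsJ⟩ := Groth.Ega4b.exists_regularSeq_of_regular_quotient (Localization.AtPrime p) J
  refine isGoodFamily_of_span_eq (hasOnlyTrivialSyz_of_isWeaklyRegular rs hrs) ?_
  change J = _
  rw [← hrsJ, Ideal.ofList]
  congr 1
  ext x
  simp only [Set.mem_range, Set.mem_ofPred_eq, List.mem_iff_getElem]
  exact ⟨fun ⟨i, hi, h⟩ => ⟨⟨i, hi⟩, h⟩, fun ⟨i, h⟩ => ⟨i.1, i.2, h⟩⟩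

/-- For a reduced algebra, linear forms on `L₂` kill the kernel of `d₂`. -/
theorem apply_eq_zero_of_d2_eq_zero [IsReduced B] (φ : L2 P →ₗ[B] B) {z : L2 P} (hz : d2 P z = 0) :
    φ z = 0 := by
  suffices ∀ p ∈ minimalPrimes B, φ z ∈ p by
    have h : φ z ∈ (⊥ : Ideal B).radical := by
      rw [← Ideal.sInf_minimalPrimes]
      exact Ideal.mem_sInf.2 fun {p} hp => this p hp
    obtain ⟨n, hn⟩ := h
    exact IsReduced.eq_zero _ ⟨n, by simpa using hn⟩
  intro p hp
  haveI := hp.1.1
  haveI : IsReduced (Localization.AtPrime p) := inferInstance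
  have hfield : IsField (Localization.AtPrime p) := by
    rw [← PrimeSpectrum.subsingleton_iff_isField_of_isReduced]
    exact IsLocalization.subsingleton_primeSpectrum_of_mem_minimalPrimes p hp (Localization.AtPrime p)
  letI := hfield.toField
  haveI : IsRegularLocalRing (Localization.AtPrime p) := inferInstance
  obtain ⟨q, rfl⟩ := l2mk_surjective P z
  rw [d2_l2mk] at hz
  have hqI : ∀ s, (q : relMod P) s ∈ Ideal.span (Set.range (rel P)) := fun s => by
    change _ ∈ Ideal.span (Set.range P.relation)
    rw [P.span_range_relation_eq_ker]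
    have := congrArg (fun z => (L1basis P).repr z s) hz
    simp only [map_zero, Finsupp.zero_apply, L1basis, Algebra.TensorProduct.basis_repr_tmul] at this
    change algebraMap P.toExtension.Ring B ((q : relMod P) s) = 0
    simpa using this
  obtain ⟨t, htp, ht⟩ := exists_smul_mem_trivSub_of_localization _
    (isGoodFamily_atPrime_of_regular P p) (q : relMod P) q.2 hqI
  have h0 : algebraMap P.toExtension.Ring B t • l2mk P q = 0 := by
    rw [algebraMap_smul, ← map_smul]
    exact l2mk_eq_zero P ht
  have h1 : algebraMap P.toExtension.Ring B t * φ (l2mk P q) = 0 := by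
    rw [← smul_eq_mul, ← map_smul, h0, map_zero]
  exact (hp.1.1.mem_or_mem (h1 ▸ p.zero_mem)).resolve_left htp

/-- `T²(B/k, B) ≅ Ext¹_B(I/I², B)` for a reduced finitely presented algebra over a field. -/
theorem nonempty_T2_equiv_ext_one [IsReduced B] :
    Nonempty (T2 P B ≃ₗ[B] Ext (ModuleCat.of B P.toExtension.Cotangent) (ModuleCat.of B B) 1) := by
  haveI : Module.Free B (L1 P) := Module.Free.of_basis (L1basis P)
  let K := LinearMap.ker (toCot P)
  let iK : ↥K →ₗ[B] L1 P := K.subtype
  have hex : Function.Exact iK (toCot P) := LinearMap.exact_subtype_ker_map _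
  obtain ⟨δ, hδs, hδk⟩ := exists_ext_one_connecting (R := B) (U := ↥K) (V := L1 P)
    (W := P.toExtension.Cotangent) (N := B) iK (toCot P) hex K.injective_subtype (toCot_surjective P)
  let π : L2 P →ₗ[B] K := LinearMap.codRestrict K (d2 P) fun z => LinearMap.congr_fun (toCot_comp_d2 P) z
  have hπv : ∀ z, ((π z : K) : L1 P) = d2 P z := fun z => LinearMap.codRestrict_apply _ _ _
  have hπ : Function.Surjective π := fun x => by
    obtain ⟨z, hz⟩ := mem_range_d2 P x.2
    exact ⟨z, Subtype.ext hz⟩
  exact nonempty_quot_range_equiv (R := B) (X := L2 P) (U := ↥K) (V := L1 P) (N := B) (d2 P) iK π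
    hπv hπ (fun φ z hz => apply_eq_zero_of_d2_eq_zero P φ (by rw [← hπv z, hz, ZeroMemClass.coe_zero]))
    δ hδs hδk

end T2

end Groth.ArtfunDeform
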