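import Groth.Agent.ArtfunDeform.CotT.Syzygy
import Groth.Agent.KoszulReg.Weakly

/-!
`T²` of a local complete intersection vanishes.

* `isWeaklyRegular_reverse_of_koszul`: Koszul regular sequences of a Noetherian local ring are weakly regular;
* `subsingleton_T2_of_locallyRegular`: presentations whose ideal is locally generated by families with trivial syzygies;
* `subsingleton_T2_of_isKoszulRegularIdeal`.
-/

set_option linter.style.haveILetI false
set_option linter.style.longLine false
set_option linter.unusedSectionVars false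

noncomputable section

universe u v w t m

open CategoryTheory TensorProduct IsLocalRing

namespace Groth.ArtfunDeform

open CotT Groth.KoszulCone

section Koszul

variable {A : Type u} [CommRing A]

lemma isNoetherian_koszul_homology [IsNoetherianRing A] : ∀ (l : List A) (n : ℤ),
    IsNoetherian A ((CohIII.koszulCx (ModuleCat.of A A) l).homology n)
  | [], n => by
      by_cases hn : n = 0
      · subst hn
        exact isNoetherian_of_linearEquiv
          (HomologicalComplex.singleObjHomologySelfIso (ComplexShape.up ℤ) 0 (ModuleCat.of A A)).symm.toLinearEquiv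
      · haveI := subsingleton_homology_out (ModuleCat.of A A) [] n
          (by simp only [List.length_nil, Nat.cast_zero, neg_zero]; omega)
        infer_instance
  | f :: t, n => by
      let φ := f • 𝟙 (CohIII.koszulCx (ModuleCat.of A A) t)
      obtain ⟨δ, hδ, -⟩ := cone_exact_delta φ n (n + 1) rfl
      haveI := isNoetherian_koszul_homology t n
      haveI := isNoetherian_koszul_homology t (n + 1)
      exact isNoetherian_of_range_eq_ker
        (HomologicalComplex.homologyMap (CochainComplex.mappingCone.inr φ) n).hom δ hδ.linearMap_ker_eq.symm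

/-- In a Noetherian local ring, vanishing of `H₁` of the Koszul complex gives weak regularity. -/
theorem isWeaklyRegular_reverse_of_h1 [IsNoetherianRing A] [IsLocalRing A] : ∀ (l : List A),
    (∀ x ∈ l, x ∈ maximalIdeal A) → Subsingleton ((CohIII.koszulCx (ModuleCat.of A A) l).homology (-1)) →
    RingTheory.Sequence.IsWeaklyRegular A l.reverse
  | [], _, _ => RingTheory.Sequence.IsWeaklyRegular.nil A A
  | f :: t, hl, hH => by
      let φ := f • 𝟙 (CohIII.koszulCx (ModuleCat.of A A) t)
      haveI : Subsingleton ((CochainComplex.mappingCone φ).homology (-1)) := hH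
      obtain ⟨δ, -, hδ'⟩ := cone_exact_delta φ (-1) 0 (by norm_num)
      have hex := cone_exact₂ φ (-1)
      haveI := isNoetherian_koszul_homology t (-1)
      have hfx : ∀ x : (CohIII.koszulCx (ModuleCat.of A A) t).homology (-1),
          x ∈ Ideal.span {f} • (⊤ : Submodule A _) := fun x => by
        obtain ⟨y, hy⟩ := (hex x).1 (Subsingleton.elim _ _)
        rw [homologyMap_smul_id_apply] at hy
        rw [← hy]
        exact Submodule.smul_mem_smul (Ideal.mem_span_singleton_self f) Submodule.mem_top
      have hbot : (⊤ : Submodule A ((CohIII.koszulCx (ModuleCat.of A A) t).homology (-1))) = ⊥ := by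
        refine Submodule.eq_bot_of_le_smul_of_le_jacobson_bot (Ideal.span {f}) ⊤ (IsNoetherian.noetherian ⊤)
          (fun x _ => hfx x) ?_
        rw [IsLocalRing.jacobson_eq_maximalIdeal ⊥ bot_ne_top, Ideal.span_singleton_le_iff_mem]
        exact hl f List.mem_cons_self
      have ht := isWeaklyRegular_reverse_of_h1 t (fun x hx => hl x (List.mem_cons_of_mem _ hx))
        ⟨fun x y => by
          have h : ∀ z : (CohIII.koszulCx (ModuleCat.of A A) t).homology (-1), z = 0 := fun z => by
            rw [← Submodule.mem_bot A, ← hbot]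
            exact Submodule.mem_top
          rw [h x, h y]⟩
      rw [List.reverse_cons, RingTheory.Sequence.isWeaklyRegular_append_iff]
      refine ⟨ht, (RingTheory.Sequence.isWeaklyRegular_singleton_iff _ f).2 ?_⟩
      refine isSMulRegular_iff_right_eq_zero_of_smul.2 fun z hz => ?_
      obtain ⟨x, rfl⟩ := Submodule.Quotient.mk_surjective _ z
      obtain ⟨q, -, hker⟩ := exists_top t (ModuleCat.of A A)
      have hrev : (Ideal.ofList t.reverse : Ideal A) = Ideal.ofList t := by
        simp only [Ideal.ofList, List.mem_reverse]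
      rw [← Submodule.Quotient.mk_smul, Submodule.Quotient.mk_eq_zero, hrev] at hz
      rw [Submodule.Quotient.mk_eq_zero, hrev]
      have hq : HomologicalComplex.homologyMap φ 0 (q x) = 0 := by
        rw [homologyMap_smul_id_apply, ← map_smul]
        exact (hker.symm ▸ hz : f • x ∈ LinearMap.ker q)
      obtain ⟨y, hy⟩ := (hδ' (q x)).1 hq
      rw [← hker, LinearMap.mem_ker, ← hy, Subsingleton.elim y 0, map_zero]

theorem isWeaklyRegular_reverse_of_koszul [IsNoetherianRing A] [IsLocalRing A] (l : List A)
    (hl : ∀ x ∈ l, x ∈ maximalIdeal A) (h : LCI.IsKoszulRegularSeq A l) :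
    RingTheory.Sequence.IsWeaklyRegular A l.reverse := by
  refine isWeaklyRegular_reverse_of_h1 l hl ?_
  have h' := h (-1) (by norm_num)
  exact ModuleCat.subsingleton_of_isZero
    (Groth.KoszulReg.isZero_homology_congr (eqToIso (Groth.KoszulReg.koszul_eq_koszulCx A l).symm) (-1) h')

end Koszul

section T2

variable {A B : Type u} [CommRing A] [CommRing B] [Algebra A B] {ι : Type} {σ : Type u}
variable (P : Algebra.Presentation A B ι σ)

/-- The presentation ideal is generated, near each of its primes, by a family with trivial syzygies. -/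
def LocallyRegular : Prop :=
  ∀ (p : Ideal P.toExtension.Ring) [p.IsPrime], Ideal.span (Set.range (rel P)) ≤ p →
    ∃ (n : ℕ) (a : Fin n → P.toExtension.Ring), (∀ i, a i ∈ P.toExtension.ker) ∧
      (∀ s, algebraMap P.toExtension.Ring (Localization.AtPrime p) (rel P s) ∈
        Ideal.span (Set.range (algebraMap P.toExtension.Ring (Localization.AtPrime p) ∘ a))) ∧
      HasOnlyTrivialSyz (algebraMap P.toExtension.Ring (Localization.AtPrime p) ∘ a)

lemma ker_eq_span_rel : P.toExtension.ker = Ideal.span (Set.range (rel P)) :=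
  P.span_range_relation_eq_ker.symm

lemma one_tmul_smul_eq_zero {x : P.toExtension.Ring} (hx : x ∈ P.toExtension.ker) (d : relMod P) :
    (1 : B) ⊗ₜ[P.toExtension.Ring] (x • d) = 0 := by
  rw [TensorProduct.tmul_smul, TensorProduct.smul_tmul', Algebra.smul_def,
    show algebraMap P.toExtension.Ring B x = 0 from hx, zero_mul, TensorProduct.zero_tmul]

theorem d2_injective_of_locallyRegular (h : LocallyRegular P) : Function.Injective (d2 P) := by
  refine d2_injective_of_isGoodFamily P (isGoodFamily_of_localization fun p hp hle => ?_)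
  obtain ⟨n, a, ha, hf, hsyz⟩ := h p hle
  refine isGoodFamily_of_span_eq hsyz (le_antisymm (Ideal.span_le.2 (Set.range_subset_iff.2 hf)) ?_)
  rw [Ideal.span_le, Set.range_subset_iff]
  intro i
  have h1 := Ideal.mem_map_of_mem (algebraMap P.toExtension.Ring (Localization.AtPrime p)) (ha i)
  rw [ker_eq_span_rel, Ideal.map_span, ← Set.range_comp] at h1
  exact h1

theorem exists_uniform_denom {R : Type u} [CommRing R] (p : Ideal R) [p.IsPrime] (I : Ideal R) {n : ℕ}
    (S : Submodule R (Fin n → R)) (hS : S.FG) (h : ∀ r ∈ S, ∀ i, ∃ t ∉ p, t * r i ∈ I) :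
    ∃ t ∉ p, ∀ r ∈ S, ∀ i, t * r i ∈ I := by
  classical
  obtain ⟨T, rfl⟩ := hS
  choose τ hτp hτ using fun (r : T) i => h r.1 (Submodule.subset_span r.2) i
  refine ⟨∏ x : T × Fin n, τ x.1 x.2, fun hm => ?_, fun r hr => ?_⟩
  · obtain ⟨x, -, hx⟩ := Ideal.IsPrime.prod_mem_iff.1 hm
    exact hτp _ _ hx
  · induction hr using Submodule.span_induction with
    | mem x hx =>
      intro i
      obtain ⟨d, hd⟩ := Finset.dvd_prod_of_mem (fun x : T × Fin n => τ x.1 x.2) (Finset.mem_univ (⟨x, hx⟩, i))
      rw [hd, mul_right_comm]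
      exact Ideal.mul_mem_right _ _ (hτ ⟨x, hx⟩ i)
    | zero => intro i; rw [Pi.zero_apply, mul_zero]; exact zero_mem _
    | add x y _ _ hx hy => intro i; rw [Pi.add_apply, mul_add]; exact add_mem (hx i) (hy i)
    | smul c x _ hx => intro i; rw [Pi.smul_apply, smul_eq_mul, mul_left_comm]; exact Ideal.mul_mem_left _ _ (hx i)

theorem exists_local_section [IsNoetherianRing P.toExtension.Ring] [Finite σ] (p : Ideal P.toExtension.Ring)
    [p.IsPrime] {n : ℕ} (a : Fin n → P.toExtension.Ring) (ha : ∀ i, a i ∈ P.toExtension.ker)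
    (hf : ∀ s, algebraMap P.toExtension.Ring (Localization.AtPrime p) (rel P s) ∈
      Ideal.span (Set.range (algebraMap P.toExtension.Ring (Localization.AtPrime p) ∘ a)))
    (hsyz : HasOnlyTrivialSyz (algebraMap P.toExtension.Ring (Localization.AtPrime p) ∘ a)) :
    ∃ g ∉ p, ∃ sec : P.toExtension.Cotangent →ₗ[B] L1 P,
      ∀ z, toCot P (sec z) = algebraMap P.toExtension.Ring B g • z := by
  classical
  haveI : Fintype σ := Fintype.ofFinite σ
  let R := P.toExtension.Ring
  let S := Localization.AtPrime p
  have hmap : Ideal.span (Set.range (algebraMap R S ∘ a)) = (Ideal.span (Set.range a)).map (algebraMap R S) := by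
    rw [Ideal.map_span, Set.range_comp]
  have hden : ∀ x, algebraMap R S x ∈ (Ideal.span (Set.range a)).map (algebraMap R S) →
      ∃ m ∉ p, m * x ∈ Ideal.span (Set.range a) := fun x hx => by
    obtain ⟨⟨⟨i, hi⟩, ⟨m, hm⟩⟩, e⟩ := (IsLocalization.mem_map_algebraMap_iff p.primeCompl S).1 hx
    rw [← map_mul] at e
    obtain ⟨⟨c, hc⟩, hce⟩ := (IsLocalization.eq_iff_exists p.primeCompl S).1 e
    refine ⟨c * m, fun h => ?_, ?_⟩
    · exact (Ideal.IsPrime.mem_or_mem ‹_› h).elim hc hm
    · rw [show c * m * x = c * (x * m) by ring, hce]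
      exact Ideal.mul_mem_left _ _ hi
  choose m hm hmf using fun s => hden (rel P s) (hmap ▸ hf s)
  let g := ∏ s, m s
  have hg : g ∉ p := fun h => by
    obtain ⟨s, -, hs⟩ := Ideal.IsPrime.prod_mem_iff.1 h
    exact hm s hs
  have hgI : ∀ x ∈ P.toExtension.ker, g * x ∈ Ideal.span (Set.range a) := by
    intro x hx
    rw [ker_eq_span_rel] at hx
    induction hx using Submodule.span_induction with
    | mem x hx =>
      obtain ⟨s, rfl⟩ := hx
      obtain ⟨d, hd⟩ := Finset.dvd_prod_of_mem m (Finset.mem_univ s)
      rw [show g = m s * d from hd, mul_right_comm]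
      exact Ideal.mul_mem_right _ _ (hmf s)
    | zero => simp
    | add x y _ _ hx hy => rw [mul_add]; exact add_mem hx hy
    | smul c x _ hx => rw [smul_eq_mul, mul_left_comm]; exact Ideal.mul_mem_left _ _ hx
  choose c hc using fun s => Ideal.mem_span_range_iff_exists_fun.1 (hgI (rel P s) (P.relation_mem_ker s))
  choose d hd using fun i => jker_surjective P ⟨a i, ha i⟩
  have hd' : ∀ i, jmap P (d i) = a i := fun i => congrArg Subtype.val (hd i)
  have hI2 : ∀ x ∈ P.toExtension.ker * P.toExtension.ker,
      ∃ e : Fin n → R, (∀ i, e i ∈ P.toExtension.ker) ∧ ∑ i, e i * a i = g * g * x := by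
    intro x hx
    induction hx using Submodule.mul_induction_on' with
    | mem_mul_mem u hu v hv =>
      obtain ⟨w, hw⟩ := Ideal.mem_span_range_iff_exists_fun.1 (hgI v hv)
      refine ⟨fun i => g * u * w i, fun i => Ideal.mul_mem_right _ _ (Ideal.mul_mem_left _ _ hu), ?_⟩
      rw [show g * g * (u * v) = g * u * (g * v) by ring, ← hw, Finset.mul_sum]
      exact Finset.sum_congr rfl fun i _ => by ring
    | add u _ v _ hu hv =>
      obtain ⟨e, he, he'⟩ := hu
      obtain ⟨e', he1, he1'⟩ := hv
      refine ⟨e + e', fun i => add_mem (he i) (he1 i), ?_⟩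
      rw [mul_add, ← he', ← he1', ← Finset.sum_add_distrib]
      exact Finset.sum_congr rfl fun i _ => by rw [Pi.add_apply, add_mul]
  let Syz : Submodule R (Fin n → R) := LinearMap.ker (Fintype.linearCombination R a)
  obtain ⟨T, hT⟩ := (IsNoetherian.noetherian Syz : Syz.FG)
  have hloc : ∀ r ∈ Syz, ∀ i, ∃ t ∉ p, t * r i ∈ P.toExtension.ker := by
    intro r hr i
    let q : Fin n →₀ S := Finsupp.equivFunOnFinite.symm fun j => algebraMap R S (r j)
    have hr' : ∑ j, r j * a j = 0 := by simpa [Syz, Fintype.linearCombination_apply] using hr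
    have hq : q ∈ trivSub (algebraMap R S ∘ a) := hsyz q (by
      rw [Finsupp.linearCombination_apply]
      refine (Finsupp.sum_fintype q (fun j x => x • (algebraMap R S ∘ a) j) (fun j => zero_smul S _)).trans ?_
      have := congrArg (algebraMap R S) hr'
      rw [map_sum, map_zero] at this
      rw [← this]
      exact Finset.sum_congr rfl fun j _ => by simp [q])
    have hall : ∀ y ∈ trivSub (algebraMap R S ∘ a), y i ∈ Ideal.span (Set.range (algebraMap R S ∘ a)) := by
      intro y hy
      have hlc : ∀ b : Fin n →₀ S, Finsupp.linearCombination S (algebraMap R S ∘ a) b ∈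
          Ideal.span (Set.range (algebraMap R S ∘ a)) := fun b => by
        rw [Ideal.span, ← Finsupp.range_linearCombination]
        exact ⟨b, rfl⟩
      induction hy using Submodule.span_induction with
      | mem y hy =>
        obtain ⟨b, b', rfl⟩ := hy
        rw [Finsupp.sub_apply, Finsupp.smul_apply, Finsupp.smul_apply, smul_eq_mul, smul_eq_mul]
        exact sub_mem (Ideal.mul_mem_right _ _ (hlc b)) (Ideal.mul_mem_right _ _ (hlc b'))
      | zero => simp
      | add x y _ _ hx hy => rw [Finsupp.add_apply]; exact add_mem hx hy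
      | smul c x _ hx => rw [Finsupp.smul_apply, smul_eq_mul]; exact Ideal.mul_mem_left _ _ hx
    have h1 := hall q hq
    rw [hmap] at h1
    obtain ⟨t, ht, ht'⟩ := hden (r i) h1
    exact ⟨t, ht, Ideal.span_le.2 (Set.range_subset_iff.2 ha) ht'⟩
  obtain ⟨t, htp, htSyz⟩ := exists_uniform_denom p P.toExtension.ker Syz ⟨T, hT⟩ hloc
  let Cl : relMod P →ₗ[R] (Fin n → R) := Finsupp.linearCombination R c
  have hCl : ∀ q, ∑ i, Cl q i * a i = g * jmap P q := fun q => by
    induction q using Finsupp.induction_linear with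
    | zero => simp
    | add u v hu hv => simp only [map_add, Pi.add_apply, add_mul, Finset.sum_add_distrib, mul_add, hu, hv]
    | single s r =>
      rw [jmap_single, mul_left_comm, ← hc s, Finset.mul_sum]
      exact Finset.sum_congr rfl fun i _ => by
        rw [show Cl (Finsupp.single s r) = r • c s from Finsupp.linearCombination_single R r s, Pi.smul_apply,
          smul_eq_mul, mul_assoc]
  let D : (Fin n → R) →ₗ[R] relMod P := Fintype.linearCombination R d
  let ψ : L1 P →ₗ[B] L1 P :=
    LinearMap.liftBaseChange B ((TensorProduct.mk R B (relMod P) 1) ∘ₗ D ∘ₗ ((t * g) • Cl))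
  have hψ : ∀ q, ψ ((1 : B) ⊗ₜ q) = (1 : B) ⊗ₜ D ((t * g) • Cl q) := fun q => by
    rw [LinearMap.liftBaseChange_tmul, one_smul]
    rfl
  have hker : LinearMap.ker (toCot P) ≤ LinearMap.ker ψ := fun z hz => by
    obtain ⟨q, rfl⟩ := exists_one_tmul P z
    rw [LinearMap.mem_ker, toCot_one_tmul, Algebra.Extension.Cotangent.mk_eq_zero_iff, pow_two] at hz
    obtain ⟨e, he, hsum⟩ := hI2 _ hz
    have hS : g • Cl q - e ∈ Syz := by
      rw [LinearMap.mem_ker, Fintype.linearCombination_apply]
      simp only [Pi.sub_apply, Pi.smul_apply, smul_eq_mul, sub_mul, mul_assoc g, Finset.sum_sub_distrib,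
        ← Finset.mul_sum, hCl, hsum]
      rw [show ((jker P q : P.toExtension.ker) : R) = jmap P q from rfl, ← mul_assoc, sub_self]
    rw [LinearMap.mem_ker, hψ, Fintype.linearCombination_apply, TensorProduct.tmul_sum]
    refine Finset.sum_eq_zero fun i _ => one_tmul_smul_eq_zero P ?_ (d i)
    have h1 := add_mem (htSyz _ hS i) (Ideal.mul_mem_left _ t (he i))
    rw [← mul_add, Pi.sub_apply, sub_add_cancel, Pi.smul_apply, smul_eq_mul, ← mul_assoc] at h1
    exact h1
  let e := (toCot P).quotKerEquivOfSurjective (toCot_surjective P)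
  refine ⟨t * g * g, ?_, (Submodule.liftQ _ ψ hker).comp e.symm.toLinearMap, fun z => ?_⟩
  · intro h
    rcases Ideal.IsPrime.mem_or_mem ‹_› h with h' | h'
    · exact (Ideal.IsPrime.mem_or_mem ‹_› h').elim htp hg
    · exact hg h'
  obtain ⟨y, rfl⟩ := toCot_surjective P z
  obtain ⟨q, rfl⟩ := exists_one_tmul P y
  rw [LinearMap.comp_apply, LinearEquiv.coe_coe,
    show e.symm (toCot P ((1 : B) ⊗ₜ q)) = Submodule.Quotient.mk ((1 : B) ⊗ₜ q) from (LinearEquiv.symm_apply_eq _).2 rfl,
    Submodule.liftQ_apply, hψ, toCot_one_tmul, toCot_one_tmul, algebraMap_smul]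
  refine Eq.trans ?_ (LinearMap.map_smul Algebra.Extension.Cotangent.mk (t * g * g) (jker P q))
  refine congrArg _ (Subtype.ext ?_)
  change jmap P (D ((t * g) • Cl q)) = (t * g * g) * jmap P q
  rw [map_smul, map_smul, Fintype.linearCombination_apply, map_sum, smul_eq_mul]
  simp only [map_smul, hd', smul_eq_mul, hCl]
  ring

theorem subsingleton_T2_of_locallyRegular [IsNoetherianRing P.toExtension.Ring] [Finite σ] (h : LocallyRegular P)
    (M : Type m) [AddCommGroup M] [Module B M] : Subsingleton (T2 P M) := by
  let J : Ideal P.toExtension.Ring :=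
    { carrier := {g | ∃ sec : P.toExtension.Cotangent →ₗ[B] L1 P,
        ∀ z, toCot P (sec z) = algebraMap P.toExtension.Ring B g • z}
      zero_mem' := ⟨0, fun z => by simp⟩
      add_mem' := fun ⟨u, hu⟩ ⟨v, hv⟩ => ⟨u + v, fun z => by
        rw [LinearMap.add_apply, map_add, hu, hv, map_add, add_smul]⟩
      smul_mem' := fun c g ⟨u, hu⟩ => ⟨algebraMap P.toExtension.Ring B c • u, fun z => by
        rw [LinearMap.smul_apply, map_smul, hu, smul_eq_mul, map_mul, mul_smul]⟩ }
  have hJ : J = ⊤ := by
    by_contra hne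
    obtain ⟨p, hp, hle⟩ := Ideal.exists_le_maximal J hne
    by_cases hI : Ideal.span (Set.range (rel P)) ≤ p
    · obtain ⟨n, a, ha, hf, hsyz⟩ := h p hI
      obtain ⟨g, hg, hsec⟩ := exists_local_section P p a ha hf hsyz
      exact hg (hle hsec)
    · obtain ⟨x, hx, hxp⟩ := SetLike.not_le_iff_exists.1 hI
      rw [← ker_eq_span_rel] at hx
      exact hxp (hle ⟨0, fun z => by
        rw [show algebraMap P.toExtension.Ring B x = 0 from hx, zero_smul, LinearMap.zero_apply, map_zero]⟩)
  obtain ⟨s, hs⟩ := (hJ ▸ Submodule.mem_top : (1 : P.toExtension.Ring) ∈ J)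
  refine subsingleton_T2_of_splitting P (d2_injective_of_locallyRegular P h) s (LinearMap.ext fun z => ?_) M
  rw [LinearMap.comp_apply, hs, map_one, one_smul, LinearMap.id_apply]

theorem locallyRegular_of_isKoszulRegularIdeal [IsNoetherianRing P.toExtension.Ring]
    (h : LCI.IsKoszulRegularIdeal P.toExtension.ker) : LocallyRegular P := by
  intro p hp hle
  obtain ⟨g, hg, l, hl, hspan⟩ := h ⟨p, hp⟩ (by rw [ker_eq_span_rel]; exact hle)
  let R := P.toExtension.Ring
  let S := Localization.AtPrime p
  have hu : IsUnit (algebraMap R S g) := IsLocalization.map_units S (⟨g, hg⟩ : p.primeCompl)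
  let θ : Localization.Away g →+* S := IsLocalization.Away.lift g hu
  have hθ : ∀ x, θ (algebraMap R (Localization.Away g) x) = algebraMap R S x := IsLocalization.Away.lift_eq g hu
  have hflat : θ.Flat := by
    letI := θ.toAlgebra
    haveI : IsScalarTower R (Localization.Away g) S := IsScalarTower.of_algebraMap_eq fun x => (hθ x).symm
    haveI : IsLocalization (p.primeCompl.map (algebraMap R (Localization.Away g))) S :=
      IsLocalization.isLocalization_of_submonoid_le (Localization.Away g) S (Submonoid.powers g) p.primeCompl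
        (Submonoid.powers_le.2 hg)
    exact IsLocalization.flat S (p.primeCompl.map (algebraMap R (Localization.Away g)))
  let l' := l.map θ
  have hl' : LCI.IsKoszulRegularSeq S l' := Groth.KoszulReg.isKoszulRegularSeq_map θ hflat l hl
  have hspan' : P.toExtension.ker.map (algebraMap R S) = Ideal.span {x | x ∈ l'} := by
    rw [show algebraMap R S = θ.comp (algebraMap R (Localization.Away g)) from RingHom.ext fun x => (hθ x).symm,
      ← Ideal.map_map, hspan, Ideal.map_span]
    congr 1
    ext x
    simp [l', List.mem_map]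
  have hmem : ∀ x ∈ l', x ∈ IsLocalRing.maximalIdeal S := fun x hx => by
    rw [← IsLocalization.AtPrime.map_eq_maximalIdeal p S]
    have h1 : x ∈ P.toExtension.ker.map (algebraMap R S) := hspan' ▸ Ideal.subset_span hx
    exact Ideal.map_mono (by rw [ker_eq_span_rel]; exact hle) h1
  have hreg := hasOnlyTrivialSyz_of_isWeaklyRegular _ (isWeaklyRegular_reverse_of_koszul l' hmem hl')
  have hrep : ∀ i : Fin l'.reverse.length, ∃ (a : R) (w : Sˣ), a ∈ P.toExtension.ker ∧
      algebraMap R S a = w * l'.reverse[i.1] := fun i => by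
    have h1 : l'.reverse[i.1] ∈ P.toExtension.ker.map (algebraMap R S) :=
      hspan' ▸ Ideal.subset_span (List.mem_reverse.1 (List.getElem_mem i.2))
    obtain ⟨⟨⟨a, ha⟩, ⟨m, hm⟩⟩, e⟩ := (IsLocalization.mem_map_algebraMap_iff p.primeCompl S).1 h1
    exact ⟨a, (IsLocalization.map_units S (⟨m, hm⟩ : p.primeCompl)).unit, ha, by rw [← e, mul_comm]; rfl⟩
  choose a w ha hw using hrep
  refine ⟨_, a, ha, fun s => ?_, fun q hq => ?_⟩
  · have h1 : algebraMap R S (rel P s) ∈ Ideal.span {x | x ∈ l'} :=
      hspan' ▸ Ideal.mem_map_of_mem _ (P.relation_mem_ker s)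
    refine Ideal.span_le.2 (fun x hx => ?_) h1
    obtain ⟨i, hi, rfl⟩ := List.mem_iff_getElem.1 (List.mem_reverse.2 hx)
    rw [show l'.reverse[i] = ((w ⟨i, hi⟩)⁻¹ : Sˣ) * algebraMap R S (a ⟨i, hi⟩) by
      rw [hw, Units.inv_mul_cancel_left]]
    exact Ideal.mul_mem_left _ _ (Ideal.subset_span ⟨⟨i, hi⟩, rfl⟩)
  · classical
    let b : Fin l'.reverse.length → S := fun i => l'.reverse[i.1]
    let ψ : (Fin l'.reverse.length →₀ S) →ₗ[S] (Fin l'.reverse.length →₀ S) :=
      Finsupp.linearCombination S fun i => Finsupp.single i ((w i : S))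
    let ψ' : (Fin l'.reverse.length →₀ S) →ₗ[S] (Fin l'.reverse.length →₀ S) :=
      Finsupp.linearCombination S fun i => Finsupp.single i (((w i)⁻¹ : Sˣ) : S)
    have hψ : ∀ u, Finsupp.linearCombination S (algebraMap R S ∘ a) (ψ' u) = Finsupp.linearCombination S b u := fun u => by
      induction u using Finsupp.induction_linear with
      | zero => simp
      | add x y hx hy => simp only [map_add, hx, hy]
      | single i r =>
        simp only [ψ', Finsupp.linearCombination_single, Finsupp.smul_single, smul_eq_mul, Function.comp_apply, hw, b]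
        rw [mul_assoc, Units.inv_mul_cancel_left]
    have hinv : ∀ u, ψ' (ψ u) = u := fun u => by
      induction u using Finsupp.induction_linear with
      | zero => simp
      | add x y hx hy => simp only [map_add, hx, hy]
      | single i r =>
        simp only [ψ, ψ', Finsupp.linearCombination_single, Finsupp.smul_single, smul_eq_mul]
        rw [mul_assoc, Units.mul_inv, mul_one]
    have hq' : Finsupp.linearCombination S b (ψ q) = 0 := by rw [← hψ, hinv]; exact hq
    have := map_trivSub_le ψ' hψ ⟨ψ q, hreg (ψ q) hq', rfl⟩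
    rwa [hinv] at this

end T2

end Groth.ArtfunDeform
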