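import Groth.Agent.ArtfunDeform.CotT.Vanishing

/-!
The transitivity sequence of the `Tⁱ` for `A → B → C`.
-/

set_option linter.style.haveILetI false
set_option linter.style.longLine false
set_option linter.unusedSectionVars false

noncomputable section

universe u

open TensorProduct

namespace Groth.ArtfunDeform

open CotT

section Abstract

/-- Connecting map of two short exact sequences joined by vertical maps. -/
theorem exists_delta {X₀ Y₀ Z₀ X₁ Y₁ Z₁ H : Type*} [AddCommGroup X₀] [AddCommGroup Y₀] [AddCommGroup Z₀]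
    [AddCommGroup X₁] [AddCommGroup Y₁] [AddCommGroup Z₁] [AddCommGroup H]
    (f₀ : X₀ →+ Y₀) (g₀ : Y₀ →+ Z₀) (f₁ : X₁ →+ Y₁) (g₁ : Y₁ →+ Z₁)
    (dX : X₀ →+ X₁) (dY : Y₀ →+ Y₁) (dZ : Z₀ →+ Z₁) (hf : ∀ x, dY (f₀ x) = f₁ (dX x))
    (hg : ∀ y, dZ (g₀ y) = g₁ (dY y)) (h₁ : Function.Injective f₁) (he₀ : Function.Exact f₀ g₀)
    (he₁ : Function.Exact f₁ g₁) (hs : Function.Surjective g₀)
    (K : AddSubgroup X₁) (hK : ∀ x y, f₁ x = dY y → x ∈ K)
    (π : K →+ H) (hπ : ∀ x, π x = 0 ↔ ∃ x₀, dX x₀ = x) :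
    ∃ δ : dZ.ker →+ H,
      (∀ (z : dZ.ker) (y : Y₀) (x : K), g₀ y = z → f₁ x = dY y → δ z = π x) ∧
      (∀ z : dZ.ker, δ z = 0 ↔ ∃ y, g₀ y = z ∧ dY y = 0) := by
  have wit : ∀ z : dZ.ker, ∃ (y : Y₀) (x : K), g₀ y = z ∧ f₁ x = dY y := fun z => by
    obtain ⟨y, hy⟩ := hs z
    obtain ⟨x, hx⟩ := (he₁ (dY y)).1 (by rw [← hg, hy]; exact z.2)
    exact ⟨y, ⟨x, hK x y hx⟩, hy, hx⟩
  choose y₀ x₀ hy₀ hx₀ using wit
  have key : ∀ (z : dZ.ker) (y : Y₀) (x : K), g₀ y = z → f₁ x = dY y → π (x₀ z) = π x := by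
    intro z y x hy hx
    obtain ⟨u, hu⟩ := (he₀ (y₀ z - y)).1 (by rw [map_sub, hy₀, hy, sub_self])
    rw [← sub_eq_zero, ← map_sub, hπ]
    refine ⟨u, h₁ ?_⟩
    rw [← hf, hu, map_sub, AddSubgroup.coe_sub, map_sub, hx₀, hx]
  refine ⟨{ toFun := fun z => π (x₀ z), map_zero' := ?_, map_add' := ?_ }, key, fun z => ?_⟩
  · rw [key 0 0 0 (map_zero g₀) ((map_zero f₁).trans (map_zero dY).symm), map_zero]
  · intro a b
    rw [key (a + b) (y₀ a + y₀ b) (x₀ a + x₀ b) (by rw [map_add, hy₀, hy₀]; rfl)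
      (by rw [AddSubgroup.coe_add, map_add, map_add, hx₀, hx₀]), map_add]
  · change π (x₀ z) = 0 ↔ _
    rw [hπ]
    constructor
    · rintro ⟨u, hu⟩
      refine ⟨y₀ z - f₀ u, ?_, ?_⟩
      · rw [map_sub, hy₀, he₀.apply_apply_eq_zero, sub_zero]
      · rw [map_sub, hf, hu, hx₀, sub_self]
    · rintro ⟨y, hy, hdy⟩
      obtain ⟨u, hu⟩ := (he₀ (y₀ z - y)).1 (by rw [map_sub, hy₀, hy, sub_self])
      refine ⟨u, h₁ ?_⟩
      rw [← hf, hu, map_sub, hdy, sub_zero, hx₀]

end Abstract

section Comp2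

variable {A A' A'' B B' B'' : Type u} {ι σ ι' σ' ι'' σ'' : Type u}
variable [CommRing A] [CommRing A'] [CommRing A''] [CommRing B] [CommRing B'] [CommRing B'']
variable [Algebra A B] [Algebra A' B'] [Algebra A'' B''] [Algebra A A'] [Algebra B B'] [Algebra A B']
variable [Algebra A' A''] [Algebra B' B''] [Algebra A' B''] [Algebra A A''] [Algebra B B''] [Algebra A B'']
variable [IsScalarTower A A' B'] [IsScalarTower A B B'] [IsScalarTower A' A'' B''] [IsScalarTower A' B' B'']
variable [IsScalarTower A A'' B''] [IsScalarTower A B B''] [IsScalarTower A A' A''] [IsScalarTower B B' B'']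
variable {P : Algebra.Presentation A B ι σ} {P' : Algebra.Presentation A' B' ι' σ'}
  {P'' : Algebra.Presentation A'' B'' ι'' σ''}

/-- Composition of morphisms of presentations over two squares. -/
def presComp2 (k : PresHom P' P'') (h : PresHom P P') : PresHom P P'' where
  hom := k.hom.comp h.hom
  relVal s := k.relModMap (h.relVal s)
  jmap_relVal s := by
    rw [PresHom.jmap_relModMap, PresHom.jmap_relVal]
    change k.hom.toExtensionHom.toRingHom (h.hom.toExtensionHom.toRingHom (rel P s)) = _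
    rw [Algebra.Generators.Hom.toExtensionHom_comp]
    rfl

lemma comp2_relModMap (k : PresHom P' P'') (h : PresHom P P') (f : relMod P) :
    (presComp2 k h).relModMap f = k.relModMap (h.relModMap f) := by
  induction f using Finsupp.induction_linear with
  | zero => simp
  | add f g hf hg => simp only [map_add, hf, hg]
  | single s r =>
    rw [PresHom.relModMap_single, PresHom.relModMap_single, LinearMap.map_smulₛₗ]
    refine congrArg₂ (· • ·) ?_ rfl
    change (k.hom.comp h.hom).toExtensionHom.toRingHom r = _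
    rw [Algebra.Generators.Hom.toExtensionHom_comp]
    rfl

variable (M : Type u) [AddCommGroup M] [Module B'' M] [Module B' M] [Module B M] [IsScalarTower B' B'' M]
  [IsScalarTower B B'' M] [IsScalarTower B B' M]

lemma T0pull_comp2 (k : PresHom P' P'') (h : PresHom P P') (x : T0 P'' M) :
    h.T0pull M (k.T0pull M x) = (presComp2 k h).T0pull M x := by
  refine Subtype.ext (LinearMap.ext fun y => congrArg (x : L0 P'' →ₗ[B''] M) ?_)
  change Algebra.Extension.CotangentSpace.map k.hom.toExtensionHom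
    (Algebra.Extension.CotangentSpace.map h.hom.toExtensionHom y) =
      Algebra.Extension.CotangentSpace.map (k.hom.comp h.hom).toExtensionHom y
  rw [Algebra.Generators.Hom.toExtensionHom_comp, Algebra.Extension.CotangentSpace.map_comp_apply]

lemma T1pull_comp2 (k : PresHom P' P'') (h : PresHom P P') (x : T1 P'' M) :
    h.T1pull M (k.T1pull M x) = (presComp2 k h).T1pull M x := by
  obtain ⟨φ, rfl⟩ := Submodule.Quotient.mk_surjective _ x
  refine congrArg Submodule.Quotient.mk (Subtype.ext (LinearMap.ext fun y => congrArg (φ : L1 P'' →ₗ[B''] M) ?_))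
  obtain ⟨f, rfl⟩ := exists_one_tmul P y
  simp only [PresHom.L1map_tmul, map_one, comp2_relModMap]

lemma T2pull_comp2 (k : PresHom P' P'') (h : PresHom P P') (x : T2 P'' M) :
    h.T2pull M (k.T2pull M x) = (presComp2 k h).T2pull M x := by
  obtain ⟨φ, rfl⟩ := Submodule.Quotient.mk_surjective _ x
  refine congrArg Submodule.Quotient.mk (LinearMap.ext fun y => congrArg φ ?_)
  obtain ⟨q, rfl⟩ := l2mk_surjective P y
  rw [L2map_l2mk, L2map_l2mk, L2map_l2mk]
  exact congrArg _ (Subtype.ext (comp2_relModMap k h q).symm)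

end Comp2

section Trans

variable {A B C : Type u} [CommRing A] [CommRing B] [CommRing C] [Algebra A B] [Algebra B C] [Algebra A C]
variable [IsScalarTower A B C]
variable {ι σ ι' σ' : Type u} (P : Algebra.Presentation A B ι σ) (Q : Algebra.Presentation B C ι' σ')

/-- `P → Q ∘ P`. -/
def transLeft : PresHom P (Q.comp P) where
  hom := Q.toGenerators.toComp P.toGenerators
  relVal s := Finsupp.single (Sum.inr s) 1
  jmap_relVal s := by
    rw [jmap_single, one_mul]
    change MvPolynomial.rename Sum.inr (P.relation s) = (Q.toGenerators.toComp P.toGenerators).toAlgHom (P.relation s)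
    rw [Algebra.Generators.toComp_toAlgHom]

/-- `Q ∘ P → Q`. -/
def transRight : PresHom (Q.comp P) Q where
  hom := Q.toGenerators.ofComp P.toGenerators
  relVal := Sum.elim (fun s => Finsupp.single s 1) 0
  jmap_relVal s := by
    rcases s with s | s
    · rw [Sum.elim_inl, jmap_single, one_mul]
      exact (Q.comp_aeval_relation_inl P s).symm
    · rw [Sum.elim_inr, Pi.zero_apply, map_zero]
      refine Eq.symm ?_
      change (Q.toGenerators.ofComp P.toGenerators).toAlgHom (MvPolynomial.rename Sum.inr (P.relation s)) = 0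
      rw [← Algebra.Generators.toComp_toAlgHom Q.toGenerators P.toGenerators, ← RingHom.mem_ker,
        ← Algebra.Generators.map_toComp_ker]
      exact Ideal.mem_map_of_mem _ (P.relation_mem_ker s)

lemma transLeft_ringHom (r : P.toExtension.Ring) :
    (transLeft P Q).ringHom r = MvPolynomial.rename Sum.inr r :=
  congrArg (fun f : MvPolynomial ι A →ₐ[A] MvPolynomial (ι' ⊕ ι) A => f r)
    (Algebra.Generators.toComp_toAlgHom Q.toGenerators P.toGenerators)

lemma transRight_surjective : Function.Surjective (transRight P Q).ringHom :=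
  Algebra.Generators.toAlgHom_ofComp_surjective Q.toGenerators P.toGenerators

lemma L0map_transLeft (i : ι) :
    (transLeft P Q).L0map (P.cotangentSpaceBasis i) = (Q.comp P).cotangentSpaceBasis (Sum.inr i) := by
  rw [Algebra.Generators.cotangentSpaceBasis_apply, Algebra.Generators.cotangentSpaceBasis_apply, PresHom.L0map_apply]
  erw [Algebra.Extension.CotangentSpace.map_tmul]
  rw [map_one]
  refine congrArg (fun x => (1 : C) ⊗ₜ KaehlerDifferential.D A (Q.comp P).toExtension.Ring x) ?_
  exact MvPolynomial.aeval_X _ i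

lemma L0map_transRight_inl (j : ι') :
    (transRight P Q).L0map ((Q.comp P).cotangentSpaceBasis (Sum.inl j)) = Q.cotangentSpaceBasis j := by
  rw [Algebra.Generators.cotangentSpaceBasis_apply, Algebra.Generators.cotangentSpaceBasis_apply, PresHom.L0map_apply]
  erw [Algebra.Extension.CotangentSpace.map_tmul]
  rw [map_one]
  refine congrArg (fun x => (1 : C) ⊗ₜ KaehlerDifferential.D B Q.toExtension.Ring x) ?_
  exact MvPolynomial.aeval_X _ _

lemma L0map_transRight_inr (i : ι) :
    (transRight P Q).L0map ((Q.comp P).cotangentSpaceBasis (Sum.inr i)) = 0 := by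
  rw [Algebra.Generators.cotangentSpaceBasis_apply, PresHom.L0map_apply]
  erw [Algebra.Extension.CotangentSpace.map_tmul]
  have h : KaehlerDifferential.D B Q.toExtension.Ring
      ((transRight P Q).hom.toExtensionHom.toAlgHom (MvPolynomial.X (Sum.inr i) : (Q.comp P).Ring)) = 0 := by
    refine Eq.trans (congrArg _ (MvPolynomial.aeval_X _ _)) ?_
    exact (KaehlerDifferential.D B Q.toExtension.Ring).map_algebraMap (P.val i)
  erw [h]
  rw [TensorProduct.tmul_zero]

lemma L1map_transLeft (s : σ) :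
    (transLeft P Q).L1map (L1basis P s) = L1basis (Q.comp P) (Sum.inr s) := by
  rw [L1basis_apply, L1basis_apply, PresHom.L1map_tmul, map_one, PresHom.relModMap_single, map_one, one_smul]
  rfl

lemma L1map_transRight (s : σ' ⊕ σ) :
    (transRight P Q).L1map (L1basis (Q.comp P) s) = Sum.elim (L1basis Q) 0 s := by
  rw [L1basis_apply, PresHom.L1map_tmul, map_one, PresHom.relModMap_single, map_one, one_smul]
  rcases s with s | s
  · rw [Sum.elim_inl, L1basis_apply]
    rfl
  · exact TensorProduct.tmul_zero _ _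

lemma transRight_transLeft (f : relMod P) :
    (transRight P Q).relModMap ((transLeft P Q).relModMap f) = 0 := by
  induction f using Finsupp.induction_linear with
  | zero => simp
  | add f g hf hg => rw [map_add, map_add, hf, hg, add_zero]
  | single s r =>
    rw [PresHom.relModMap_single, LinearMap.map_smulₛₗ]
    change _ • (transRight P Q).relModMap (Finsupp.single (Sum.inr s) 1) = 0
    rw [PresHom.relModMap_single, map_one, one_smul]
    exact smul_zero _

lemma transRight_relModMap_surjective : Function.Surjective (transRight P Q).relModMap := by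
  intro f
  induction f using Finsupp.induction_linear with
  | zero => exact ⟨0, map_zero _⟩
  | add f g hf hg =>
    obtain ⟨a, rfl⟩ := hf
    obtain ⟨b, rfl⟩ := hg
    exact ⟨a + b, map_add _ _ _⟩
  | single s r =>
    obtain ⟨r₀, rfl⟩ := transRight_surjective P Q r
    refine ⟨Finsupp.single (Sum.inl s) r₀, ?_⟩
    rw [PresHom.relModMap_single]
    change (transRight P Q).ringHom r₀ • Finsupp.single s 1 = _
    rw [Finsupp.smul_single, smul_eq_mul, mul_one]

lemma exists_inr_jmap {x : (Q.comp P).toExtension.Ring} (hx : (transRight P Q).ringHom x = 0) :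
    ∃ f : relMod (Q.comp P), (∀ s, f (Sum.inl s) = 0) ∧ jmap (Q.comp P) f = x := by
  classical
  have hx' : x ∈ RingHom.ker (Q.toGenerators.ofComp P.toGenerators).toAlgHom := hx
  rw [← Algebra.Generators.map_toComp_ker, ← P.span_range_relation_eq_ker, Ideal.map_span, ← Set.range_comp] at hx'
  obtain ⟨c, hc⟩ := (Finsupp.mem_ideal_span_range_iff_exists_finsupp).1 hx'
  refine ⟨c.mapDomain Sum.inr, fun s => Finsupp.mapDomain_of_notMem_range _ _ (by simp), ?_⟩
  rw [jmap, Finsupp.linearCombination_mapDomain, Finsupp.linearCombination_apply, ← hc]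
  refine Finsupp.sum_congr fun s _ => ?_
  rw [smul_eq_mul]
  refine congrArg (c s * ·) ?_
  exact (congrArg (fun f : MvPolynomial ι A →ₐ[A] MvPolynomial (ι' ⊕ ι) A => f (P.relation s))
    (Algebra.Generators.toComp_toAlgHom Q.toGenerators P.toGenerators)).symm

lemma exists_lift_relKer (q : relKer Q) :
    ∃ p : relKer (Q.comp P), (transRight P Q).relKerMap p = q := by
  obtain ⟨f, hf⟩ := transRight_relModMap_surjective P Q (q : relMod Q)
  obtain ⟨g, hg, hgj⟩ := exists_inr_jmap P Q (x := jmap (Q.comp P) f) (by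
    rw [← PresHom.jmap_relModMap, hf]; exact q.2)
  have hg0 : (transRight P Q).relModMap g = 0 := by
    rw [← Finsupp.sum_single g, map_finsuppSum]
    refine Finset.sum_eq_zero fun s _ => ?_
    beta_reduce
    rw [PresHom.relModMap_single]
    rcases s with s | s
    · rw [hg s, map_zero, zero_smul]
    · exact smul_zero _
  refine ⟨⟨f - g, ?_⟩, Subtype.ext ?_⟩
  · change jmap (Q.comp P) (f - g) = 0
    rw [map_sub, hgj, sub_self]
  · rw [PresHom.relKerMap_coe, map_sub, hg0, sub_zero, hf]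

lemma exists_lift_trivRel {y : relMod Q} (hy : y ∈ trivRel Q) :
    ∃ x ∈ trivRel (Q.comp P), (transRight P Q).relModMap x = y := by
  induction hy using Submodule.span_induction with
  | mem y hy =>
    obtain ⟨a, b, rfl⟩ := hy
    obtain ⟨a, rfl⟩ := transRight_relModMap_surjective P Q a
    obtain ⟨b, rfl⟩ := transRight_relModMap_surjective P Q b
    refine ⟨_, Submodule.subset_span ⟨a, b, rfl⟩, ?_⟩
    rw [map_sub, LinearMap.map_smulₛₗ, LinearMap.map_smulₛₗ, PresHom.jmap_relModMap, PresHom.jmap_relModMap]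
  | zero => exact ⟨0, zero_mem _, map_zero _⟩
  | add y z _ _ hy hz =>
    obtain ⟨a, ha, rfl⟩ := hy
    obtain ⟨b, hb, rfl⟩ := hz
    exact ⟨a + b, add_mem ha hb, map_add _ _ _⟩
  | smul r y _ hy =>
    obtain ⟨a, ha, rfl⟩ := hy
    obtain ⟨r₀, rfl⟩ := transRight_surjective P Q r
    exact ⟨r₀ • a, Submodule.smul_mem _ _ ha, LinearMap.map_smulₛₗ _ _ _⟩

lemma exists_coeff_decomp {R S : Type u} [CommRing R] [CommRing S] (i : R →+* S) {κ τ : Type u}
    (E : S ≃+* MvPolynomial κ R) (hE : ∀ r, E (i r) = MvPolynomial.C r) (rels : τ → R) (g : τ →₀ S)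
    (hg : (g.sum fun s a => a * i (rels s)) = 0) :
    ∃ (T : Finset (κ →₀ ℕ)) (b : (κ →₀ ℕ) → S) (p : (κ →₀ ℕ) → τ →₀ R),
      (∀ m, ((p m).sum fun s a => a * rels s) = 0) ∧ ∀ s, g s = ∑ m ∈ T, b m * i (p m s) := by
  classical
  refine ⟨g.support.biUnion fun s => (E (g s)).support, fun m => E.symm (MvPolynomial.monomial m 1),
    fun m => g.mapRange (fun a => MvPolynomial.coeff m (E a)) (by rw [map_zero, MvPolynomial.coeff_zero]),
    fun m => ?_, fun s => ?_⟩
  · rw [Finsupp.sum_mapRange_index (fun _ => zero_mul _)]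
    have h := congrArg (fun x => MvPolynomial.coeff m (E x)) hg
    simp only [Finsupp.sum, map_sum, map_zero, MvPolynomial.coeff_zero, MvPolynomial.coeff_sum, map_mul, hE] at h
    refine Eq.trans (Finset.sum_congr rfl fun s _ => ?_) h
    rw [mul_comm (E (g s)), MvPolynomial.coeff_C_mul, mul_comm]
  · refine E.injective ?_
    rw [map_sum]
    simp only [map_mul, hE, RingEquiv.apply_symm_apply, Finsupp.mapRange_apply]
    have hsub : (E (g s)).support ⊆ g.support.biUnion fun s => (E (g s)).support := by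
      intro m hm
      refine Finset.mem_biUnion.2 ⟨s, Finsupp.mem_support_iff.2 fun h => ?_, hm⟩
      rw [h, map_zero, MvPolynomial.support_zero] at hm
      exact Finset.notMem_empty m hm
    conv_lhs => rw [MvPolynomial.as_sum (E (g s))]
    rw [Finset.sum_subset hsub fun m _ hm => by
      rw [MvPolynomial.notMem_support_iff.1 hm, map_zero]]
    refine Finset.sum_congr rfl fun m _ => ?_
    rw [mul_comm, MvPolynomial.C_mul_monomial, mul_one]

lemma transLeft_relModMap_apply (f : relMod P) :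
    (∀ s, (transLeft P Q).relModMap f (Sum.inr s) = (transLeft P Q).ringHom (f s)) ∧
      ∀ s, (transLeft P Q).relModMap f (Sum.inl s) = 0 := by
  classical
  induction f using Finsupp.induction_linear with
  | zero => simp
  | add a b ha hb =>
    exact ⟨fun s => by rw [map_add, Finsupp.add_apply, Finsupp.add_apply, ha.1, hb.1, map_add],
      fun s => by rw [map_add, Finsupp.add_apply, ha.2, hb.2, add_zero]⟩
  | single t r =>
    refine ⟨fun s => ?_, fun s => ?_⟩
    · rw [PresHom.relModMap_single, Finsupp.smul_apply, smul_eq_mul]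
      change _ * Finsupp.single (Sum.inr t) (1 : (Q.comp P).toExtension.Ring) (Sum.inr s) = _
      rw [Finsupp.single_apply, Finsupp.single_apply]
      by_cases h : t = s
      · rw [if_pos h, if_pos (congrArg Sum.inr h), mul_one]
      · rw [if_neg h, if_neg (fun h' => h (Sum.inr_injective h')), mul_zero, map_zero]
    · rw [PresHom.relModMap_single, Finsupp.smul_apply, smul_eq_mul]
      change _ * Finsupp.single (Sum.inr t) (1 : (Q.comp P).toExtension.Ring) (Sum.inl s) = _
      rw [Finsupp.single_eq_of_ne (by simp), mul_zero]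

lemma mem_span_transLeft {g : relMod (Q.comp P)} (h0 : ∀ s, g (Sum.inl s) = 0) (hg : jmap (Q.comp P) g = 0) :
    g ∈ Submodule.span (Q.comp P).toExtension.Ring
      (Set.range fun p : relKer P => (transLeft P Q).relModMap (p : relMod P)) := by
  let E : (Q.comp P).toExtension.Ring ≃+* MvPolynomial ι' P.toExtension.Ring :=
    (MvPolynomial.sumAlgEquiv A ι' ι).toRingEquiv
  have hE : ∀ r, E ((transLeft P Q).ringHom r) = MvPolynomial.C r := fun r =>
    (congrArg E (transLeft_ringHom P Q r)).trans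
      (congrArg (fun f : MvPolynomial ι A →ₐ[A] MvPolynomial ι' (MvPolynomial ι A) => f r)
        (MvPolynomial.sumAlgEquiv_comp_rename_inr A ι' ι))
  let g' : σ →₀ (Q.comp P).toExtension.Ring := g.comapDomain Sum.inr Sum.inr_injective.injOn
  have hgg : g = g'.mapDomain Sum.inr := Finsupp.ext fun s => by
    rcases s with s | s
    · rw [h0]
      exact (Finsupp.mapDomain_of_notMem_range _ _ (by simp)).symm
    · exact (Finsupp.mapDomain_apply Sum.inr_injective g' s).symm
  have hsum : (g'.sum fun s a => a * (transLeft P Q).ringHom (rel P s)) = 0 := by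
    refine Eq.trans ?_ hg
    rw [hgg, jmap, Finsupp.linearCombination_mapDomain, Finsupp.linearCombination_apply]
    exact Finsupp.sum_congr fun s _ => congrArg (g' s * ·) (transLeft_ringHom P Q _)
  obtain ⟨T, b, p, hp, hgp⟩ := exists_coeff_decomp (transLeft P Q).ringHom E hE (rel P) g' hsum
  have hpk : ∀ m, p m ∈ relKer P := fun m => by
    change jmap P (p m) = 0
    rw [jmap, Finsupp.linearCombination_apply]
    exact hp m
  have key : g = ∑ m ∈ T, b m • (transLeft P Q).relModMap (p m) := Finsupp.ext fun t => by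
    rw [Finsupp.finsetSum_apply]
    rcases t with s | s
    · rw [h0]
      exact (Finset.sum_eq_zero fun m _ => by
        rw [Finsupp.smul_apply, (transLeft_relModMap_apply P Q (p m)).2, smul_zero]).symm
    · change g' s = _
      rw [hgp]
      exact Finset.sum_congr rfl fun m _ => by
        rw [Finsupp.smul_apply, (transLeft_relModMap_apply P Q (p m)).1, smul_eq_mul]
  rw [key]
  exact Submodule.sum_mem _ fun m _ => Submodule.smul_mem _ _ (Submodule.subset_span ⟨⟨p m, hpk m⟩, rfl⟩)

lemma ker_L2map_transRight {z : L2 (Q.comp P)} (hz : (transRight P Q).L2map z = 0) :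
    z ∈ Submodule.span C (Set.range (transLeft P Q).L2map) := by
  classical
  obtain ⟨q, rfl⟩ := l2mk_surjective _ z
  rw [L2map_l2mk, l2mk_eq_zero_iff] at hz
  obtain ⟨x, hx, hxy⟩ := exists_lift_trivRel P Q hz
  have hd : ∀ s : σ', (transRight P Q).ringHom (((q : relMod (Q.comp P)) - x) (Sum.inl s)) = 0 := by
    intro s
    have h : (transRight P Q).relModMap ((q : relMod (Q.comp P)) - x) = 0 := by
      rw [map_sub, hxy, PresHom.relKerMap_coe, sub_self]
    have hs : ∀ f : relMod (Q.comp P),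
        (transRight P Q).relModMap f s = (transRight P Q).ringHom (f (Sum.inl s)) := fun f => by
      induction f using Finsupp.induction_linear with
      | zero => simp
      | add a b ha hb => rw [map_add, Finsupp.add_apply, Finsupp.add_apply, ha, hb, map_add]
      | single t r =>
        rw [PresHom.relModMap_single, Finsupp.smul_apply, smul_eq_mul]
        rcases t with t | t
        · change _ * Finsupp.single t (1 : Q.toExtension.Ring) s = _
          rw [Finsupp.single_apply, Finsupp.single_apply]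
          by_cases hts : t = s
          · rw [if_pos hts, if_pos (congrArg Sum.inl hts), mul_one]
          · rw [if_neg hts, if_neg (fun h => hts (Sum.inl_injective h)), mul_zero, map_zero]
        · change _ * (0 : relMod Q) s = _
          rw [Finsupp.zero_apply, mul_zero, Finsupp.single_eq_of_ne (by simp), map_zero]
    rw [← hs, h, Finsupp.zero_apply]
  choose c hc0 hcj using fun s => exists_inr_jmap P Q (hd s)
  let d : relMod (Q.comp P) := (q : relMod (Q.comp P)) - x
  let S := d.support.preimage Sum.inl Sum.inl_injective.injOn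
  let k : relMod (Q.comp P) :=
    ∑ s ∈ S, (jmap (Q.comp P) (c s) • Finsupp.single (Sum.inl s) 1 -
      jmap (Q.comp P) (Finsupp.single (Sum.inl s) 1) • c s)
  have hk : k ∈ trivRel (Q.comp P) :=
    Submodule.sum_mem _ fun s _ => Submodule.subset_span ⟨c s, _, rfl⟩
  have hinl : ∀ s, (d - k) (Sum.inl s) = 0 := by
    intro s
    rw [Finsupp.sub_apply, sub_eq_zero, Finsupp.finsetSum_apply]
    simp only [Finsupp.sub_apply, Finsupp.smul_apply, hc0, smul_eq_mul, mul_zero, sub_zero, hcj,
      Finsupp.single_apply, Sum.inl.injEq, mul_ite, mul_one]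
    rw [Finset.sum_ite_eq' S s (fun t => (q : relMod (Q.comp P)) (Sum.inl t) - x (Sum.inl t))]
    split
    · rfl
    · rename_i hS
      exact Finsupp.notMem_support_iff.1 fun h => hS (Finset.mem_preimage.2 h)
  have hj : jmap (Q.comp P) (d - k) = 0 := by
    change jmap (Q.comp P) ((q : relMod (Q.comp P)) - x - k) = 0
    rw [map_sub, map_sub, show jmap (Q.comp P) (q : relMod (Q.comp P)) = 0 from q.2,
      show jmap (Q.comp P) x = 0 from trivRel_le_relKer _ hx,
      show jmap (Q.comp P) k = 0 from trivRel_le_relKer _ hk, sub_zero, sub_zero]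
  have hq : l2mk (Q.comp P) q = l2mk (Q.comp P) ⟨d - k, hj⟩ := by
    rw [← sub_eq_zero, ← map_sub]
    refine l2mk_eq_zero _ ?_
    change (q : relMod (Q.comp P)) - ((q : relMod (Q.comp P)) - x - k) ∈ _
    rw [sub_sub, sub_sub_cancel]
    exact add_mem hx hk
  rw [hq]
  have hmem := mem_span_transLeft P Q hinl hj
  suffices ∀ y ∈ Submodule.span (Q.comp P).toExtension.Ring
      (Set.range fun p : relKer P => (transLeft P Q).relModMap (p : relMod P)),
      ∃ hy : jmap (Q.comp P) y = 0, l2mk (Q.comp P) ⟨y, hy⟩ ∈ Submodule.span C (Set.range (transLeft P Q).L2map) from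
    (this _ hmem).2
  intro y hy
  induction hy using Submodule.span_induction with
  | mem y hy =>
    obtain ⟨p, rfl⟩ := hy
    exact ⟨((transLeft P Q).relKerMap p).2, Submodule.subset_span ⟨l2mk P p, L2map_l2mk _ p⟩⟩
  | zero => exact ⟨map_zero _, (congrArg (· ∈ _) (map_zero (l2mk (Q.comp P)))).mpr (zero_mem _)⟩
  | add a b _ _ ha hb =>
    obtain ⟨ha, ha'⟩ := ha
    obtain ⟨hb, hb'⟩ := hb
    refine ⟨by rw [map_add, ha, hb, add_zero], ?_⟩
    rw [show (⟨a + b, _⟩ : relKer (Q.comp P)) = ⟨a, ha⟩ + ⟨b, hb⟩ from rfl, map_add]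
    exact add_mem ha' hb'
  | smul r a _ ha =>
    obtain ⟨ha, ha'⟩ := ha
    refine ⟨by rw [map_smul, ha, smul_zero], ?_⟩
    rw [show (⟨r • a, _⟩ : relKer (Q.comp P)) = r • ⟨a, ha⟩ from rfl, ← algebraMap_smul_l2mk]
    exact Submodule.smul_mem _ _ ha'

section Coeff

variable (M : Type u) [AddCommGroup M] [Module C M] [Module B M] [IsScalarTower B C M]

lemma pull0_right_injective : Function.Injective ((transRight P Q).pull0 M) := fun φ φ' h =>
  Q.cotangentSpaceBasis.ext fun j => by
    have := LinearMap.congr_fun h ((Q.comp P).cotangentSpaceBasis (Sum.inl j))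
    rwa [PresHom.pull0_apply, PresHom.pull0_apply, L0map_transRight_inl] at this

lemma pull0_left_surjective : Function.Surjective ((transLeft P Q).pull0 M) := fun φ => by
  refine ⟨(Q.comp P).cotangentSpaceBasis.constr C (Sum.elim 0 fun i => φ (P.cotangentSpaceBasis i)),
    P.cotangentSpaceBasis.ext fun i => ?_⟩
  rw [PresHom.pull0_apply, L0map_transLeft, Module.Basis.constr_basis, Sum.elim_inr]

lemma exact_pull0 : Function.Exact ((transRight P Q).pull0 M) ((transLeft P Q).pull0 M) := by
  refine fun ψ => ⟨fun h => ?_, ?_⟩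
  · refine ⟨Q.cotangentSpaceBasis.constr C fun j => ψ ((Q.comp P).cotangentSpaceBasis (Sum.inl j)),
      (Q.comp P).cotangentSpaceBasis.ext fun t => ?_⟩
    rw [PresHom.pull0_apply]
    rcases t with j | i
    · rw [L0map_transRight_inl, Module.Basis.constr_basis]
    · rw [L0map_transRight_inr, map_zero]
      have := LinearMap.congr_fun h (P.cotangentSpaceBasis i)
      rw [PresHom.pull0_apply, L0map_transLeft, LinearMap.zero_apply] at this
      exact this.symm
  · rintro ⟨φ, rfl⟩
    refine P.cotangentSpaceBasis.ext fun i => ?_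
    rw [PresHom.pull0_apply, L0map_transLeft, PresHom.pull0_apply, L0map_transRight_inr, map_zero,
      LinearMap.zero_apply]

lemma pull1_right_injective : Function.Injective ((transRight P Q).pull1 M) := fun φ φ' h =>
  (L1basis Q).ext fun j => by
    have := LinearMap.congr_fun h (L1basis (Q.comp P) (Sum.inl j))
    rwa [PresHom.pull1_apply, PresHom.pull1_apply, L1map_transRight, Sum.elim_inl] at this

lemma pull1_left_surjective : Function.Surjective ((transLeft P Q).pull1 M) := fun φ => by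
  refine ⟨(L1basis (Q.comp P)).constr C (Sum.elim 0 fun i => φ (L1basis P i)), (L1basis P).ext fun i => ?_⟩
  rw [PresHom.pull1_apply, L1map_transLeft, Module.Basis.constr_basis, Sum.elim_inr]

lemma exact_pull1 : Function.Exact ((transRight P Q).pull1 M) ((transLeft P Q).pull1 M) := by
  refine fun ψ => ⟨fun h => ?_, ?_⟩
  · refine ⟨(L1basis Q).constr C fun j => ψ (L1basis (Q.comp P) (Sum.inl j)),
      (L1basis (Q.comp P)).ext fun t => ?_⟩
    rw [PresHom.pull1_apply, L1map_transRight]
    rcases t with j | i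
    · rw [Sum.elim_inl, Module.Basis.constr_basis]
    · rw [Sum.elim_inr, Pi.zero_apply, map_zero]
      have := LinearMap.congr_fun h (L1basis P i)
      rw [PresHom.pull1_apply, L1map_transLeft, LinearMap.zero_apply] at this
      exact this.symm
  · rintro ⟨φ, rfl⟩
    refine (L1basis P).ext fun i => ?_
    rw [PresHom.pull1_apply, L1map_transLeft, PresHom.pull1_apply, L1map_transRight, Sum.elim_inr, Pi.zero_apply,
      map_zero, LinearMap.zero_apply]

lemma L2map_transRight_surjective : Function.Surjective (transRight P Q).L2map := fun z => by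
  obtain ⟨q, rfl⟩ := l2mk_surjective _ z
  obtain ⟨p, rfl⟩ := exists_lift_relKer P Q q
  exact ⟨l2mk _ p, L2map_l2mk _ p⟩

lemma pull2_right_injective : Function.Injective ((transRight P Q).pull2 M) := fun φ φ' h =>
  LinearMap.ext fun z => by
    obtain ⟨y, rfl⟩ := L2map_transRight_surjective P Q z
    exact LinearMap.congr_fun h y

lemma exact_pull2 : Function.Exact ((transRight P Q).pull2 M) ((transLeft P Q).pull2 M) := by
  refine fun ψ => ⟨fun h => ?_, ?_⟩
  · let π : L2 (Q.comp P) →ₗ[C] L2 Q := PresHom.linOfSemilinear (L2 Q) (transRight P Q).L2map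
    have hπ : Function.Surjective π := L2map_transRight_surjective P Q
    have hle : LinearMap.ker π ≤ LinearMap.ker ψ := by
      intro z hz
      refine (Submodule.span_le.2 ?_) (ker_L2map_transRight P Q hz)
      rintro _ ⟨w, rfl⟩
      exact LinearMap.congr_fun h w
    refine ⟨(Submodule.liftQ _ ψ hle).comp (π.quotKerEquivOfSurjective hπ).symm.toLinearMap,
      LinearMap.ext fun z => ?_⟩
    have he : (π.quotKerEquivOfSurjective hπ).symm ((transRight P Q).L2map z) = Submodule.Quotient.mk z :=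
      (LinearEquiv.symm_apply_eq _).2 rfl
    rw [PresHom.pull2_apply, LinearMap.comp_apply, LinearEquiv.coe_coe, he]
    rfl
  · rintro ⟨φ, rfl⟩
    refine LinearMap.ext fun z => ?_
    obtain ⟨q, rfl⟩ := l2mk_surjective _ z
    rw [PresHom.pull2_apply, PresHom.pull2_apply, L2map_l2mk, L2map_l2mk,
      show (transRight P Q).relKerMap ((transLeft P Q).relKerMap q) = 0 from
        Subtype.ext (transRight_transLeft P Q q), map_zero, map_zero, LinearMap.zero_apply]

theorem trans_injective_T0 : Function.Injective ((transRight P Q).T0pull M) := fun x y h =>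
  Subtype.ext (pull0_right_injective P Q M (congrArg Subtype.val h))

theorem trans_exact_T0 : Function.Exact ((transRight P Q).T0pull M) ((transLeft P Q).T0pull M) := by
  refine fun ψ => ⟨fun h => ?_, ?_⟩
  · obtain ⟨φ, hφ⟩ := (exact_pull0 P Q M ψ.1).1 (congrArg Subtype.val h)
    refine ⟨⟨φ, pull1_right_injective P Q M ?_⟩, Subtype.ext hφ⟩
    rw [PresHom.pull1_d1Star, hφ, map_zero]
    exact ψ.2
  · rintro ⟨φ, rfl⟩
    exact Subtype.ext ((exact_pull0 P Q M).apply_apply_eq_zero _)

theorem trans_exact_T1 : Function.Exact ((transRight P Q).T1pull M) ((transLeft P Q).T1pull M) := by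
  refine fun z => ⟨fun h => ?_, ?_⟩
  · obtain ⟨ψ, rfl⟩ := Submodule.Quotient.mk_surjective _ z
    obtain ⟨χ, hχ⟩ := (Submodule.Quotient.mk_eq_zero _).1 h
    obtain ⟨η, rfl⟩ := pull0_left_surjective P Q M χ
    have h0 : (transLeft P Q).pull1 M ((ψ : L1 (Q.comp P) →ₗ[C] M) - d1Star (Q.comp P) M η) = 0 := by
      rw [map_sub, PresHom.pull1_d1Star, sub_eq_zero]
      exact hχ.symm
    obtain ⟨φ, hφ⟩ := (exact_pull1 P Q M _).1 h0
    have hc : φ ∈ cocycles1 Q M := pull2_right_injective P Q M (by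
      rw [PresHom.pull2_d2Star, hφ, map_zero, map_sub,
        show d2Star (Q.comp P) M (d1Star (Q.comp P) M η) = 0 from LinearMap.congr_fun (d2Star_comp_d1Star _ M) η,
        sub_zero]
      exact ψ.2)
    refine ⟨Submodule.Quotient.mk ⟨φ, hc⟩, (Submodule.Quotient.eq _).2 ⟨-η, ?_⟩⟩
    change d1Star (Q.comp P) M (-η) = (transRight P Q).pull1 M φ - (ψ : L1 (Q.comp P) →ₗ[C] M)
    rw [hφ, map_neg]
    abel
  · rintro ⟨y, rfl⟩
    obtain ⟨φ, rfl⟩ := Submodule.Quotient.mk_surjective _ y
    refine (Submodule.Quotient.mk_eq_zero _).2 ⟨0, ?_⟩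
    rw [map_zero]
    exact ((exact_pull1 P Q M).apply_apply_eq_zero _).symm

theorem trans_exact_T2 : Function.Exact ((transRight P Q).T2pull M) ((transLeft P Q).T2pull M) := by
  refine fun z => ⟨fun h => ?_, ?_⟩
  · obtain ⟨ψ, rfl⟩ := Submodule.Quotient.mk_surjective _ z
    obtain ⟨χ, hχ⟩ := (Submodule.Quotient.mk_eq_zero _).1 h
    obtain ⟨η, rfl⟩ := pull1_left_surjective P Q M χ
    have h0 : (transLeft P Q).pull2 M (ψ - d2Star (Q.comp P) M η) = 0 := by
      rw [map_sub, PresHom.pull2_d2Star, sub_eq_zero]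
      exact hχ.symm
    obtain ⟨φ, hφ⟩ := (exact_pull2 P Q M _).1 h0
    refine ⟨Submodule.Quotient.mk φ, (Submodule.Quotient.eq _).2 ⟨-η, ?_⟩⟩
    change d2Star (Q.comp P) M (-η) = (transRight P Q).pull2 M φ - ψ
    rw [hφ, map_neg]
    abel
  · rintro ⟨y, rfl⟩
    obtain ⟨φ, rfl⟩ := Submodule.Quotient.mk_surjective _ y
    refine (Submodule.Quotient.mk_eq_zero _).2 ⟨0, ?_⟩
    rw [map_zero]
    exact ((exact_pull2 P Q M).apply_apply_eq_zero _).symm

theorem trans_connecting :
    ∃ (δ₀ : T0 P M →+ T1 Q M) (δ₁ : T1 P M →+ T2 Q M),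
      Function.Exact ((transLeft P Q).T0pull M) δ₀ ∧ Function.Exact δ₀ ((transRight P Q).T1pull M) ∧
      Function.Exact ((transLeft P Q).T1pull M) δ₁ ∧ Function.Exact δ₁ ((transRight P Q).T2pull M) := by
  obtain ⟨δ₀, hδ₀, hδ₀z⟩ := exists_delta (H := T1 Q M) ((transRight P Q).pull0 M).toAddMonoidHom
    ((transLeft P Q).pull0 M).toAddMonoidHom ((transRight P Q).pull1 M).toAddMonoidHom
    ((transLeft P Q).pull1 M).toAddMonoidHom (d1Star Q M).toAddMonoidHom (d1Star (Q.comp P) M).toAddMonoidHom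
    (d1Star P M).toAddMonoidHom (fun x => ((transRight P Q).pull1_d1Star M x).symm)
    (fun y => ((transLeft P Q).pull1_d1Star M y).symm) (pull1_right_injective P Q M) (exact_pull0 P Q M)
    (exact_pull1 P Q M) (pull0_left_surjective P Q M) (cocycles1 Q M).toAddSubgroup
    (fun x y h => pull2_right_injective P Q M (by
      rw [PresHom.pull2_d2Star, map_zero]
      exact (congrArg (d2Star (Q.comp P) M) h).trans (LinearMap.congr_fun (d2Star_comp_d1Star _ M) y)))
    { toFun := fun x => Submodule.Quotient.mk (⟨x.1, x.2⟩ : cocycles1 Q M)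
      map_zero' := rfl
      map_add' := fun x y => rfl }
    (fun x => Submodule.Quotient.mk_eq_zero _)
  obtain ⟨δ₁, hδ₁, hδ₁z⟩ := exists_delta (H := T2 Q M) ((transRight P Q).pull1 M).toAddMonoidHom
    ((transLeft P Q).pull1 M).toAddMonoidHom ((transRight P Q).pull2 M).toAddMonoidHom
    ((transLeft P Q).pull2 M).toAddMonoidHom (d2Star Q M).toAddMonoidHom (d2Star (Q.comp P) M).toAddMonoidHom
    (d2Star P M).toAddMonoidHom (fun x => ((transRight P Q).pull2_d2Star M x).symm)
    (fun y => ((transLeft P Q).pull2_d2Star M y).symm) (pull2_right_injective P Q M) (exact_pull1 P Q M)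
    (exact_pull2 P Q M) (pull1_left_surjective P Q M) ⊤ (fun _ _ _ => trivial)
    ((LinearMap.range (d2Star Q M)).mkQ.toAddMonoidHom.comp (AddSubgroup.subtype ⊤))
    (fun x => Submodule.Quotient.mk_eq_zero _)
  let D₀ : T0 P M →+ T1 Q M :=
    { toFun := fun x => δ₀ ⟨x.1, x.2⟩
      map_zero' := map_zero δ₀
      map_add' := fun x y => map_add δ₀ ⟨x.1, x.2⟩ ⟨y.1, y.2⟩ }
  let E₁ : cocycles1 P M →+ T2 Q M :=
    { toFun := fun x => δ₁ ⟨x.1, x.2⟩
      map_zero' := map_zero δ₁
      map_add' := fun x y => map_add δ₁ ⟨x.1, x.2⟩ ⟨y.1, y.2⟩ }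
  have hE₁ : (coboundaries1 P M).toAddSubgroup ≤ E₁.ker := by
    rintro ⟨x, hx⟩ ⟨χ, hχ⟩
    obtain ⟨η, rfl⟩ := pull0_left_surjective P Q M χ
    exact (hδ₁z _).2 ⟨d1Star (Q.comp P) M η, ((transLeft P Q).pull1_d1Star M η).trans hχ,
      LinearMap.congr_fun (d2Star_comp_d1Star _ M) η⟩
  let D₁ : T1 P M →+ T2 Q M := QuotientAddGroup.lift (coboundaries1 P M).toAddSubgroup E₁ hE₁
  refine ⟨D₀, D₁, fun x => ?_, fun z => ⟨fun h => ?_, ?_⟩, fun z => ?_, fun z => ⟨fun h => ?_, ?_⟩⟩
  · refine (hδ₀z ⟨x.1, x.2⟩).trans ⟨fun ⟨y, hy, hdy⟩ => ⟨⟨y, hdy⟩, Subtype.ext hy⟩, ?_⟩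
    rintro ⟨y, hy⟩
    exact ⟨y.1, congrArg Subtype.val hy, y.2⟩
  · obtain ⟨φ, rfl⟩ := Submodule.Quotient.mk_surjective _ z
    obtain ⟨η, hη⟩ := (Submodule.Quotient.mk_eq_zero _).1 h
    have hη' : d1Star (Q.comp P) M η = (transRight P Q).pull1 M φ.1 := hη
    let x : T0 P M := ⟨(transLeft P Q).pull0 M η, by
      rw [LinearMap.mem_ker, ← PresHom.pull1_d1Star, hη']
      exact (exact_pull1 P Q M).apply_apply_eq_zero _⟩
    exact ⟨x, hδ₀ ⟨x.1, x.2⟩ η ⟨φ.1, φ.2⟩ rfl hη'.symm⟩
  · rintro ⟨x, rfl⟩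
    obtain ⟨η, hη⟩ := pull0_left_surjective P Q M x.1
    obtain ⟨φ, hφ⟩ := (exact_pull1 P Q M (d1Star (Q.comp P) M η)).1 (by
      rw [PresHom.pull1_d1Star, hη]
      exact x.2)
    have hc : φ ∈ cocycles1 Q M := pull2_right_injective P Q M (by
      rw [PresHom.pull2_d2Star, hφ, map_zero]
      exact LinearMap.congr_fun (d2Star_comp_d1Star _ M) η)
    change (transRight P Q).T1pull M (δ₀ ⟨x.1, x.2⟩) = 0
    rw [hδ₀ ⟨x.1, x.2⟩ η ⟨φ, hc⟩ hη hφ]
    exact (Submodule.Quotient.mk_eq_zero _).2 ⟨η, hφ.symm⟩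
  · obtain ⟨ψ, rfl⟩ := Submodule.Quotient.mk_surjective _ z
    refine (hδ₁z ⟨ψ.1, ψ.2⟩).trans ⟨fun ⟨y, hy, hdy⟩ =>
      ⟨Submodule.Quotient.mk ⟨y, hdy⟩, congrArg Submodule.Quotient.mk (Subtype.ext hy)⟩, ?_⟩
    rintro ⟨q, hq⟩
    obtain ⟨y, rfl⟩ := Submodule.Quotient.mk_surjective _ q
    obtain ⟨χ, hχ⟩ := (Submodule.Quotient.eq _).1 hq
    obtain ⟨η, rfl⟩ := pull0_left_surjective P Q M χ
    have hχ' : d1Star P M ((transLeft P Q).pull0 M η) = (transLeft P Q).pull1 M y.1 - ψ.1 := hχ
    refine ⟨y.1 - d1Star (Q.comp P) M η, ?_, ?_⟩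
    · change (transLeft P Q).pull1 M (y.1 - d1Star (Q.comp P) M η) = ψ.1
      rw [map_sub, PresHom.pull1_d1Star, hχ', sub_sub_cancel]
    · change d2Star (Q.comp P) M (y.1 - d1Star (Q.comp P) M η) = 0
      rw [map_sub, show d2Star (Q.comp P) M (d1Star (Q.comp P) M η) = 0 from
        LinearMap.congr_fun (d2Star_comp_d1Star _ M) η, sub_zero]
      exact y.2
  · obtain ⟨φ, rfl⟩ := Submodule.Quotient.mk_surjective _ z
    obtain ⟨η, hη⟩ := (Submodule.Quotient.mk_eq_zero _).1 h
    have hη' : d2Star (Q.comp P) M η = (transRight P Q).pull2 M φ := hη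
    let x : cocycles1 P M := ⟨(transLeft P Q).pull1 M η, by
      rw [LinearMap.mem_ker, ← PresHom.pull2_d2Star, hη']
      exact (exact_pull2 P Q M).apply_apply_eq_zero _⟩
    exact ⟨Submodule.Quotient.mk x, hδ₁ ⟨x.1, x.2⟩ η ⟨φ, trivial⟩ rfl hη'.symm⟩
  · rintro ⟨q, rfl⟩
    obtain ⟨x, rfl⟩ := Submodule.Quotient.mk_surjective _ q
    obtain ⟨η, hη⟩ := pull1_left_surjective P Q M x.1
    obtain ⟨φ, hφ⟩ := (exact_pull2 P Q M (d2Star (Q.comp P) M η)).1 (by
      rw [PresHom.pull2_d2Star, hη]
      exact x.2)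
    change (transRight P Q).T2pull M (δ₁ ⟨x.1, x.2⟩) = 0
    rw [hδ₁ ⟨x.1, x.2⟩ η ⟨φ, trivial⟩ hη hφ]
    exact (Submodule.Quotient.mk_eq_zero _).2 ⟨η, hφ.symm⟩

end Coeff

end Trans

lemma exact_transfer {X Y Y' Z : Type*} [Zero Z] {f : X → Y} {g : Y → Z} {e : Y → Y'} (he : Function.Bijective e)
    {f' : X → Y'} {g' : Y' → Z} (hf : ∀ x, e (f x) = f' x) (hg : ∀ y, g' (e y) = g y) (h : Function.Exact f g) :
    Function.Exact f' g' := fun y' => by
  obtain ⟨y, rfl⟩ := he.2 y'
  rw [hg, h y]
  exact ⟨fun ⟨x, hx⟩ => ⟨x, by rw [← hf, hx]⟩, fun ⟨x, hx⟩ => ⟨x, he.1 (by rw [hf, hx])⟩⟩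

section Canonical

/-- The nine-term transitivity sequence for the canonical presentations. -/
theorem canon_nineTerm (A B C : Type u) [CommRing A] [CommRing B] [CommRing C] [Algebra A B] [Algebra B C]
    [Algebra A C] [IsScalarTower A B C] (M : Type u) [AddCommGroup M] [Module C M] [Module B M]
    [IsScalarTower B C M] :
    Function.Injective ((canonHom A C B C).T0pull M) ∧
    Function.Exact ((canonHom A C B C).T0pull M) ((canonHom A B A C).T0pull M) ∧
    Function.Exact ((canonHom A C B C).T1pull M) ((canonHom A B A C).T1pull M) ∧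
    Function.Exact ((canonHom A C B C).T2pull M) ((canonHom A B A C).T2pull M) ∧
    ∃ (δ₀ : T0 (canon A B) M →+ T1 (canon B C) M) (δ₁ : T1 (canon A B) M →+ T2 (canon B C) M),
      Function.Exact ((canonHom A B A C).T0pull M) δ₀ ∧ Function.Exact δ₀ ((canonHom A C B C).T1pull M) ∧
      Function.Exact ((canonHom A B A C).T1pull M) δ₁ ∧ Function.Exact δ₁ ((canonHom A C B C).T2pull M) := by
  let P := canon A B
  let Q := canon B C
  obtain ⟨m⟩ := exists_presHom (canon A C) (Q.comp P)
  obtain ⟨n⟩ := exists_presHom (Q.comp P) (canon A C)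
  have hR0 : ∀ x, m.T0pull M ((transRight P Q).T0pull M x) = (canonHom A C B C).T0pull M x := fun x => by
    rw [T0pull_comp2, T0pull_eq M _ (canonHom A C B C)]
  have hR1 : ∀ x, m.T1pull M ((transRight P Q).T1pull M x) = (canonHom A C B C).T1pull M x := fun x => by
    rw [T1pull_comp2, T1pull_eq M _ (canonHom A C B C)]
  have hR2 : ∀ x, m.T2pull M ((transRight P Q).T2pull M x) = (canonHom A C B C).T2pull M x := fun x => by
    rw [T2pull_comp2, T2pull_eq M _ (canonHom A C B C)]
  have hL0 : ∀ y, (canonHom A B A C).T0pull M (m.T0pull M y) = (transLeft P Q).T0pull M y := fun y => by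
    rw [T0pull_eq M (canonHom A B A C) (presComp2 n (transLeft P Q)), ← T0pull_comp2, T0pull_comp_eq]
  have hL1 : ∀ y, (canonHom A B A C).T1pull M (m.T1pull M y) = (transLeft P Q).T1pull M y := fun y => by
    rw [T1pull_eq M (canonHom A B A C) (presComp2 n (transLeft P Q)), ← T1pull_comp2, T1pull_comp_eq]
  have hL2 : ∀ y, (canonHom A B A C).T2pull M (m.T2pull M y) = (transLeft P Q).T2pull M y := fun y => by
    rw [T2pull_eq M (canonHom A B A C) (presComp2 n (transLeft P Q)), ← T2pull_comp2, T2pull_comp_eq]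
  have b0 := T0pull_bijective M m
  have b1 := T1pull_bijective M m
  have b2 := T2pull_bijective M m
  obtain ⟨δ₀, δ₁, e1, e2, e3, e4⟩ := trans_connecting P Q M
  refine ⟨fun x y h => trans_injective_T0 P Q M (b0.1 (by rw [hR0, hR0, h])),
    exact_transfer b0 hR0 hL0 (trans_exact_T0 P Q M), exact_transfer b1 hR1 hL1 (trans_exact_T1 P Q M),
    exact_transfer b2 hR2 hL2 (trans_exact_T2 P Q M), δ₀, δ₁, fun x => ?_, fun y => ?_, fun x => ?_, fun y => ?_⟩
  · rw [e1 x]
    exact ⟨fun ⟨y, hy⟩ => ⟨m.T0pull M y, (hL0 y).trans hy⟩, fun ⟨y, hy⟩ => by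
      obtain ⟨y, rfl⟩ := b0.2 y
      exact ⟨y, (hL0 y).symm.trans hy⟩⟩
  · rw [← hR1, map_eq_zero_iff _ b1.1]
    exact e2 y
  · rw [e3 x]
    exact ⟨fun ⟨y, hy⟩ => ⟨m.T1pull M y, (hL1 y).trans hy⟩, fun ⟨y, hy⟩ => by
      obtain ⟨y, rfl⟩ := b1.2 y
      exact ⟨y, (hL1 y).symm.trans hy⟩⟩
  · rw [← hR2, map_eq_zero_iff _ b2.1]
    exact e4 y

end Canonical

end Groth.ArtfunDeform
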