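import Groth.Agent.ArtfunDeform.CotT.Syzygy
import Groth.Agent.ArtfunDeform.CotT.Transitivity

/-!
The presentation `S[y_s]/(s y_s - 1)` of a localisation and the vanishing of its `T²`.
-/

set_option linter.style.haveILetI false
set_option linter.style.longLine false
set_option linter.unusedSectionVars false

noncomputable section

universe u

namespace Groth.ArtfunDeform

open CotT

/-- Elementwise regular families have only trivial syzygies. -/
theorem hasOnlyTrivialSyz_of_forall {R : Type*} [CommRing R] {σ : Type*} (f : σ → R)
    (h : ∀ (T : Finset σ) (i : σ), i ∉ T → ∀ x, x * f i ∈ Ideal.span (f '' T) → x ∈ Ideal.span (f '' T)) :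
    HasOnlyTrivialSyz f := by
  classical
  suffices ∀ (T : Finset σ) (q : σ →₀ R), q.support ⊆ T → Finsupp.linearCombination R f q = 0 → q ∈ trivSub f from
    fun q hq => this q.support q subset_rfl hq
  intro T
  induction T using Finset.induction_on with
  | empty =>
    intro q hq _
    rw [Finsupp.support_eq_empty.1 (Finset.subset_empty.1 hq)]
    exact zero_mem _
  | insert i T hi ih =>
    intro q hq hzero
    have hrest : (q.erase i).support ⊆ T := fun s hs => by
      rw [Finsupp.support_erase, Finset.mem_erase] at hs
      exact (Finset.mem_insert.1 (hq hs.2)).resolve_left hs.1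
    have hsplit : q = Finsupp.single i (q i) + q.erase i := (Finsupp.single_add_erase i q).symm
    have hx : q i * f i ∈ Ideal.span (f '' T) := by
      have h0 := hzero
      rw [hsplit, map_add, Finsupp.linearCombination_single, smul_eq_mul] at h0
      rw [eq_neg_of_add_eq_zero_left h0]
      exact neg_mem ((Finsupp.mem_span_image_iff_linearCombination R).2 ⟨q.erase i, hrest, rfl⟩)
    obtain ⟨y, hy, hyq⟩ := (Finsupp.mem_span_image_iff_linearCombination R).1 (h T i hi _ hx)
    have htriv : q i • Finsupp.single i (1 : R) - f i • y ∈ trivSub f :=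
      Submodule.subset_span ⟨y, Finsupp.single i 1, by rw [hyq, Finsupp.linearCombination_single, one_smul]⟩
    have heq : q = (q i • Finsupp.single i (1 : R) - f i • y) + (q.erase i + f i • y) := by
      rw [Finsupp.smul_single_one]
      refine hsplit.trans ?_
      abel
    rw [heq]
    refine add_mem htriv (ih _ ?_ ?_)
    · exact (Finsupp.support_add).trans (Finset.union_subset hrest (Finsupp.support_smul.trans hy))
    · rw [map_add, map_smul, hyq, smul_eq_mul]
      have h0 := hzero
      rw [hsplit, map_add, Finsupp.linearCombination_single, smul_eq_mul] at h0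
      rw [mul_comm, add_comm]
      exact h0

lemma polynomial_mul_linear_eq_zero {R : Type*} [CommRing R] (a : R) (p : Polynomial R)
    (h : p * (Polynomial.C a * Polynomial.X - 1) = 0) : p = 0 := by
  refine Polynomial.ext fun n => ?_
  induction n with
  | zero =>
    have := congrArg (fun q => Polynomial.coeff q 0) h
    simpa [mul_sub, Polynomial.mul_coeff_zero] using this
  | succ n ih =>
    have := congrArg (fun q => Polynomial.coeff q (n + 1)) h
    rw [mul_sub, mul_one, mul_comm (Polynomial.C a), ← mul_assoc] at this
    simp only [Polynomial.coeff_sub, Polynomial.coeff_mul_C, Polynomial.coeff_mul_X, Polynomial.coeff_zero] at this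
    rw [ih, Polynomial.coeff_zero, zero_mul, zero_sub, neg_eq_zero] at this
    rw [this, Polynomial.coeff_zero]

section Loc

variable {S T : Type u} [CommRing S] [CommRing T] [Algebra S T] (M : Submonoid S) [IsLocalization M T]

open MvPolynomial

/-- `s y_s - 1`. -/
def locRel (s : M) : MvPolynomial M S := C (s : S) * X s - 1

lemma hasOnlyTrivialSyz_locRel : HasOnlyTrivialSyz (locRel M) := by
  classical
  refine hasOnlyTrivialSyz_of_forall _ fun F i hi x hx => ?_
  let J := Ideal.span (locRel M '' F)
  let φ : MvPolynomial M S →+* Polynomial (MvPolynomial M S ⧸ J) :=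
    eval₂Hom (Polynomial.C.comp ((Ideal.Quotient.mk J).comp C))
      fun j => if j = i then Polynomial.X else Polynomial.C (Ideal.Quotient.mk J (X j))
  have hφ : ∀ j, φ (locRel M j) = Polynomial.C (Ideal.Quotient.mk J (C (j : S))) * φ (X j) - 1 := fun j => by
    rw [locRel, map_sub, map_mul, map_one, eval₂Hom_C]
    rfl
  have hJ : ∀ z ∈ J, φ z = 0 := by
    intro z hz
    induction hz using Submodule.span_induction with
    | mem z hz =>
      obtain ⟨j, hj, rfl⟩ := hz
      have hji : j ≠ i := fun e => hi (e ▸ hj)
      rw [hφ, eval₂Hom_X', if_neg hji, ← map_mul, ← map_mul, ← map_one Polynomial.C, ← map_sub,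
        ← map_one (Ideal.Quotient.mk J), ← map_sub, Ideal.Quotient.eq_zero_iff_mem.2 (show C (j : S) * X j - 1 ∈ J from Ideal.subset_span ⟨j, hj, rfl⟩),
        map_zero]
    | zero => exact map_zero _
    | add a b _ _ ha hb => rw [map_add, ha, hb, add_zero]
    | smul r a _ ha => rw [smul_eq_mul, map_mul, ha, mul_zero]
  have hev : (Polynomial.evalRingHom (Ideal.Quotient.mk J (X i))).comp φ = Ideal.Quotient.mk J := by
    refine MvPolynomial.ringHom_ext (fun a => ?_) fun j => ?_
    · rw [RingHom.comp_apply, eval₂Hom_C]
      simp
    · rw [RingHom.comp_apply, eval₂Hom_X']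
      split
      · rename_i h
        subst h
        simp
      · simp
  have h0 : φ x * (Polynomial.C (Ideal.Quotient.mk J (C (i : S))) * Polynomial.X - 1) = 0 := by
    have := hJ _ hx
    rwa [map_mul, hφ, eval₂Hom_X', if_pos rfl] at this
  have hx0 := polynomial_mul_linear_eq_zero _ _ h0
  rw [← Ideal.Quotient.eq_zero_iff_mem]
  refine (DFunLike.congr_fun hev x).symm.trans ?_
  rw [RingHom.comp_apply, hx0, map_zero]

variable (T) in
/-- Generators of a localisation. -/
def locGenerators : Algebra.Generators S T M :=
  Algebra.Generators.ofSurjective (fun s : M => IsLocalization.mk' T (1 : S) s) fun t => by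
    obtain ⟨a, s, rfl⟩ := IsLocalization.exists_mk'_eq M t
    refine ⟨C a * X s, ?_⟩
    rw [map_mul, aeval_C, aeval_X, IsLocalization.mul_mk'_eq_mk'_of_mul, mul_one]

variable (T) in
/-- The presentation `S[y_s]/(s y_s - 1)` of a localisation. -/
def locPresentation : Algebra.Presentation S T M M where
  toGenerators := locGenerators T M
  relation := locRel M
  span_range_relation_eq_ker := by
    let J := Ideal.span (Set.range (locRel M))
    have hunit : ∀ s : M, IsUnit ((algebraMap S (MvPolynomial M S ⧸ J)) s) := fun s => by
      refine IsUnit.of_mul_eq_one (Ideal.Quotient.mk J (X s)) ?_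
      change Ideal.Quotient.mk J (C (s : S)) * _ = 1
      rw [← map_mul, ← map_one (Ideal.Quotient.mk J), Ideal.Quotient.eq]
      exact Ideal.subset_span ⟨s, rfl⟩
    let ψ : T →+* MvPolynomial M S ⧸ J := IsLocalization.lift (M := M) hunit
    have hval : ∀ s : M, (locGenerators T M).val s = IsLocalization.mk' T (1 : S) s := fun s => rfl
    refine le_antisymm (Ideal.span_le.2 ?_) fun p hp => ?_
    · rintro _ ⟨s, rfl⟩
      change algebraMap (locGenerators T M).toExtension.Ring T (locRel M s) = 0
      refine ((locGenerators T M).algebraMap_apply _).trans ?_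
      rw [locRel, map_sub, map_mul, map_one, aeval_C, aeval_X, hval, IsLocalization.mk'_spec'_mk, map_one, sub_self]
    · have hp' : aeval (locGenerators T M).val p = 0 := ((locGenerators T M).algebraMap_apply _).symm.trans hp
      have : ψ.comp (aeval (locGenerators T M).val).toRingHom = Ideal.Quotient.mk J := by
        refine MvPolynomial.ringHom_ext (fun a => ?_) fun s => ?_
        · rw [RingHom.comp_apply, AlgHom.toRingHom_eq_coe, RingHom.coe_coe, aeval_C]
          exact IsLocalization.lift_eq hunit a
        · rw [RingHom.comp_apply, AlgHom.toRingHom_eq_coe, RingHom.coe_coe, aeval_X, hval]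
          refine (IsLocalization.lift_mk'_spec _ _ _ _).2 ?_
          rw [map_one]
          refine Eq.symm ?_
          change Ideal.Quotient.mk J (C (s : S)) * _ = 1
          rw [← map_mul, ← map_one (Ideal.Quotient.mk J), Ideal.Quotient.eq]
          exact Ideal.subset_span ⟨s, rfl⟩
      have h := DFunLike.congr_fun this p
      rw [RingHom.comp_apply, AlgHom.toRingHom_eq_coe, RingHom.coe_coe, hp', map_zero] at h
      exact Ideal.Quotient.eq_zero_iff_mem.1 h.symm

variable (T) in
include M in
/-- `T²` of a localisation vanishes. -/
theorem subsingleton_T2_localization (N : Type u) [AddCommGroup N] [Module T N] :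
    Subsingleton (T2 (canon S T) N) := by
  obtain ⟨-, -, ⟨e⟩⟩ := exists_equiv (canon S T) (locPresentation T M) N
  haveI : Subsingleton (T2 (locPresentation T M) N) :=
    subsingleton_T2_of _ N fun q => hasOnlyTrivialSyz_locRel M _ q.2
  exact e.toEquiv.subsingleton

end Loc

/-- `T²` vanishes along a transitivity step. -/
theorem subsingleton_T2_trans (A B C : Type u) [CommRing A] [CommRing B] [CommRing C] [Algebra A B] [Algebra B C]
    [Algebra A C] [IsScalarTower A B C] (M : Type u) [AddCommGroup M] [Module C M] [Module B M]
    [IsScalarTower B C M] [h₁ : Subsingleton (T2 (canon A B) M)] [h₂ : Subsingleton (T2 (canon B C) M)] :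
    Subsingleton (T2 (canon A C) M) := by
  obtain ⟨-, -, -, h, -⟩ := canon_nineTerm A B C M
  refine subsingleton_of_forall_eq 0 fun x => ?_
  obtain ⟨y, rfl⟩ := (h x).1 (Subsingleton.elim _ _)
  rw [Subsingleton.elim y 0, map_zero]

end Groth.ArtfunDeform
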