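import Groth.Agent.ArtfunDeform.CotT.Basic

/-!
The long exact sequence of the `Tⁱ` in the module variable.
-/

set_option linter.style.haveILetI false
set_option linter.style.longLine false
set_option linter.unusedSectionVars false

noncomputable section

universe u v w t m m' m''

namespace Groth.ArtfunDeform

open CotT

variable {B : Type v} [CommRing B]

section Snake

variable {X₀ : Type u} {X₁ : Type w} [AddCommGroup X₀] [Module B X₀] [AddCommGroup X₁] [Module B X₁]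
variable {M' M M'' : Type m} [AddCommGroup M'] [Module B M'] [AddCommGroup M] [Module B M] [AddCommGroup M''] [Module B M'']
variable {f : M' →ₗ[B] M} {g : M →ₗ[B] M''}

lemma comp_inj (hf : Function.Injective f) {u v : X₀ →ₗ[B] M'} (h : f ∘ₗ u = f ∘ₗ v) : u = v :=
  LinearMap.ext fun x => hf (LinearMap.congr_fun h x)

lemma exists_comp_eq (hf : Function.Injective f) (hfg : Function.Exact f g) {φ : X₀ →ₗ[B] M}
    (h : g ∘ₗ φ = 0) : ∃ φ' : X₀ →ₗ[B] M', f ∘ₗ φ' = φ := by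
  choose c hc using fun x => (hfg (φ x)).1 (LinearMap.congr_fun h x)
  refine ⟨{ toFun := c
            map_add' := fun x y => hf (by rw [map_add, hc, hc, hc, map_add])
            map_smul' := fun r x => hf (by rw [RingHom.id_apply, map_smul, hc, hc, map_smul]) },
    LinearMap.ext hc⟩

lemma comp_eq_zero' (hfg : Function.Exact f g) (u : X₀ →ₗ[B] M') : g ∘ₗ (f ∘ₗ u) = 0 := by
  rw [← LinearMap.comp_assoc, hfg.linearMap_comp_eq_zero, LinearMap.zero_comp]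

/-- The connecting homomorphism: for `x` killed by `d`, lift and restrict along `d`. -/
theorem exists_connecting (hf : Function.Injective f) (hfg : Function.Exact f g) (d : X₁ →ₗ[B] X₀)
    (lift : ∀ x : X₀ →ₗ[B] M'', ∃ y : X₀ →ₗ[B] M, g ∘ₗ y = x)
    {Q : Type*} [AddCommGroup Q] [Module B Q] (π : (X₁ →ₗ[B] M') →ₗ[B] Q)
    (hπ : ∀ z : X₁ →ₗ[B] M', π z = 0 ↔ ∃ u : X₀ →ₗ[B] M', u ∘ₗ d = z)
    (K : Submodule B (X₀ →ₗ[B] M'')) (hK : ∀ x ∈ K, x ∘ₗ d = 0) :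
    ∃ δ : K →ₗ[B] Q,
      (∀ (x : K) (y : X₀ →ₗ[B] M) (z : X₁ →ₗ[B] M'), g ∘ₗ y = x → f ∘ₗ z = y ∘ₗ d → δ x = π z) ∧
      (∀ x : K, δ x = 0 ↔ ∃ y : X₀ →ₗ[B] M, g ∘ₗ y = x ∧ y ∘ₗ d = 0) := by
  have ex : ∀ x : K, ∃ q : Q, ∀ (y : X₀ →ₗ[B] M) (z : X₁ →ₗ[B] M'), g ∘ₗ y = x → f ∘ₗ z = y ∘ₗ d → q = π z := by
    intro x
    obtain ⟨y₀, hy₀⟩ := lift x
    obtain ⟨z₀, hz₀⟩ := exists_comp_eq hf hfg (φ := y₀ ∘ₗ d)
      (by rw [← LinearMap.comp_assoc, hy₀]; exact hK _ x.2)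
    refine ⟨π z₀, fun y z hy hz => ?_⟩
    obtain ⟨u, hu⟩ := exists_comp_eq hf hfg (φ := y₀ - y) (by rw [LinearMap.comp_sub, hy₀, hy, sub_self])
    rw [← sub_eq_zero, ← map_sub, hπ]
    refine ⟨u, comp_inj hf ?_⟩
    rw [← LinearMap.comp_assoc, hu, LinearMap.sub_comp, LinearMap.comp_sub, hz, hz₀]
  choose δ hδ using ex
  have wit : ∀ x : K, ∃ (y : X₀ →ₗ[B] M) (z : X₁ →ₗ[B] M'), g ∘ₗ y = x ∧ f ∘ₗ z = y ∘ₗ d := fun x => by
    obtain ⟨y, hy⟩ := lift x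
    obtain ⟨z, hz⟩ := exists_comp_eq hf hfg (φ := y ∘ₗ d) (by rw [← LinearMap.comp_assoc, hy]; exact hK _ x.2)
    exact ⟨y, z, hy, hz⟩
  refine ⟨{ toFun := δ, map_add' := fun x x' => ?_, map_smul' := fun r x => ?_ }, hδ, fun x => ?_⟩
  · obtain ⟨y, z, hy, hz⟩ := wit x
    obtain ⟨y', z', hy', hz'⟩ := wit x'
    rw [hδ x y z hy hz, hδ x' y' z' hy' hz', ← map_add]
    exact hδ _ (y + y') _ (by rw [LinearMap.comp_add, hy, hy']; rfl)
      (by rw [LinearMap.comp_add, hz, hz', LinearMap.add_comp])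
  · obtain ⟨y, z, hy, hz⟩ := wit x
    rw [hδ x y z hy hz, RingHom.id_apply, ← map_smul]
    exact hδ _ (r • y) _ (by rw [LinearMap.comp_smul, hy]; rfl)
      (by rw [LinearMap.comp_smul, hz, LinearMap.smul_comp])
  · obtain ⟨y, z, hy, hz⟩ := wit x
    change δ x = 0 ↔ _
    rw [hδ x y z hy hz, hπ]
    constructor
    · rintro ⟨u, hu⟩
      refine ⟨y - f ∘ₗ u, by rw [LinearMap.comp_sub, comp_eq_zero' hfg, sub_zero, hy], ?_⟩
      rw [LinearMap.sub_comp, LinearMap.comp_assoc, hu, hz, sub_self]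
    · rintro ⟨y', hy', hy'd⟩
      obtain ⟨u, hu⟩ := exists_comp_eq hf hfg (φ := y - y') (by rw [LinearMap.comp_sub, hy, hy', sub_self])
      refine ⟨u, comp_inj hf ?_⟩
      rw [← LinearMap.comp_assoc, hu, LinearMap.sub_comp, hy'd, sub_zero, hz]

end Snake

variable {A : Type u} {ι : Type w} {σ : Type t} [CommRing A] [Algebra A B]
variable (P : Algebra.Presentation A B ι σ)
variable {M' M M'' : Type m} [AddCommGroup M'] [Module B M'] [AddCommGroup M] [Module B M] [AddCommGroup M''] [Module B M'']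
variable (f : M' →ₗ[B] M) (g : M →ₗ[B] M'')

theorem nineTerm (hf : Function.Injective f) (hfg : Function.Exact f g)
    (lift0 : ∀ x : L0 P →ₗ[B] M'', ∃ y : L0 P →ₗ[B] M, g ∘ₗ y = x)
    (lift1 : ∀ x : L1 P →ₗ[B] M'', ∃ y : L1 P →ₗ[B] M, g ∘ₗ y = x) :
    Function.Injective (T0map P f) ∧ Function.Exact (T0map P f) (T0map P g) ∧
      Function.Exact (T1map P f) (T1map P g) ∧ Function.Exact (T2map P f) (T2map P g) ∧
      ∃ (δ₀ : T0 P M'' →ₗ[B] T1 P M') (δ₁ : T1 P M'' →ₗ[B] T2 P M'),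
        Function.Exact (T0map P g) δ₀ ∧ Function.Exact δ₀ (T1map P f) ∧
        Function.Exact (T1map P g) δ₁ ∧ Function.Exact δ₁ (T2map P f) := by
  refine ⟨fun x y h => Subtype.ext (comp_inj hf (congrArg Subtype.val h)), fun x => ⟨fun h => ?_, ?_⟩,
    fun z => ⟨fun h => ?_, ?_⟩, fun z => ⟨fun h => ?_, ?_⟩, ?_⟩
  · obtain ⟨φ', hφ'⟩ := exists_comp_eq hf hfg (φ := (x : L0 P →ₗ[B] M)) (congrArg Subtype.val h)
    refine ⟨⟨φ', LinearMap.mem_ker.2 (comp_inj hf ?_)⟩, Subtype.ext hφ'⟩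
    rw [d1Star_apply, ← LinearMap.comp_assoc, hφ', LinearMap.comp_zero]
    exact x.2
  · rintro ⟨y, rfl⟩
    exact Subtype.ext (comp_eq_zero' hfg _)
  · obtain ⟨φ, rfl⟩ := Submodule.Quotient.mk_surjective _ z
    obtain ⟨χ, hχ⟩ := (Submodule.Quotient.mk_eq_zero _).1 h
    obtain ⟨χ₁, rfl⟩ := lift0 χ
    obtain ⟨φ', hφ'⟩ := exists_comp_eq hf hfg (φ := (φ : L1 P →ₗ[B] M) - χ₁ ∘ₗ d1 P) (by
      rw [LinearMap.comp_sub, ← LinearMap.comp_assoc, sub_eq_zero]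
      exact hχ.symm)
    have hc : φ' ∈ cocycles1 P M' := by
      rw [LinearMap.mem_ker, d2Star_apply]
      refine comp_inj hf ?_
      rw [← LinearMap.comp_assoc, hφ', LinearMap.sub_comp, LinearMap.comp_assoc, d1_comp_d2, LinearMap.comp_zero,
        show (φ : L1 P →ₗ[B] M) ∘ₗ d2 P = 0 from φ.2, LinearMap.comp_zero, sub_zero]
    refine ⟨Submodule.Quotient.mk ⟨φ', hc⟩, (Submodule.Quotient.eq _).2 ⟨-χ₁, ?_⟩⟩
    change (-χ₁) ∘ₗ d1 P = f ∘ₗ φ' - (φ : L1 P →ₗ[B] M)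
    rw [hφ', LinearMap.neg_comp]
    abel
  · rintro ⟨y, rfl⟩
    obtain ⟨φ, rfl⟩ := Submodule.Quotient.mk_surjective _ y
    exact (Submodule.Quotient.mk_eq_zero _).2 ⟨0, (comp_eq_zero' hfg (φ : L1 P →ₗ[B] M')).symm⟩
  · obtain ⟨φ, rfl⟩ := Submodule.Quotient.mk_surjective _ z
    obtain ⟨χ, hχ⟩ := (Submodule.Quotient.mk_eq_zero _).1 h
    obtain ⟨χ₁, rfl⟩ := lift1 χ
    obtain ⟨φ', hφ'⟩ := exists_comp_eq hf hfg (φ := φ - χ₁ ∘ₗ d2 P) (by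
      rw [LinearMap.comp_sub, ← LinearMap.comp_assoc, sub_eq_zero]
      exact hχ.symm)
    refine ⟨Submodule.Quotient.mk φ', (Submodule.Quotient.eq _).2 ⟨-χ₁, ?_⟩⟩
    change (-χ₁) ∘ₗ d2 P = f ∘ₗ φ' - φ
    rw [hφ', LinearMap.neg_comp]
    abel
  · rintro ⟨y, rfl⟩
    obtain ⟨φ, rfl⟩ := Submodule.Quotient.mk_surjective _ y
    exact (Submodule.Quotient.mk_eq_zero _).2 ⟨0, by rw [map_zero]; exact (comp_eq_zero' hfg φ).symm⟩
  -- the connecting maps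
  have hc : ∀ (u : L0 P →ₗ[B] M'), u ∘ₗ d1 P ∈ cocycles1 P M' := fun u => by
    rw [LinearMap.mem_ker, d2Star_apply, LinearMap.comp_assoc, d1_comp_d2, LinearMap.comp_zero]
  obtain ⟨δ₀, hδ₀, hδ₀z⟩ := exists_connecting (M' := M') hf hfg (d1 P) lift0
    (Submodule.mkQ (LinearMap.range (d1Star P M')))
    (fun z => (Submodule.Quotient.mk_eq_zero _).trans Iff.rfl) (LinearMap.ker (d1Star P M'')) (fun x hx => hx)
  obtain ⟨δ₁, hδ₁, hδ₁z⟩ := exists_connecting (M' := M') hf hfg (d2 P) lift1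
    (Submodule.mkQ (LinearMap.range (d2Star P M')))
    (fun z => (Submodule.Quotient.mk_eq_zero _).trans Iff.rfl) (LinearMap.ker (d2Star P M'')) (fun x hx => hx)
  let inc : T1 P M' →ₗ[B] (L1 P →ₗ[B] M') ⧸ LinearMap.range (d1Star P M') :=
    Submodule.mapQ _ _ (cocycles1 P M').subtype le_rfl
  have hinc : Function.Injective inc := by
    rw [injective_iff_map_eq_zero]
    intro y hy
    obtain ⟨φ, rfl⟩ := Submodule.Quotient.mk_surjective _ y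
    exact (Submodule.Quotient.mk_eq_zero _).2 ((Submodule.Quotient.mk_eq_zero _).1 hy :)
  have hδ₀ex : ∀ x : T0 P M'', ∃ q : T1 P M', inc q = δ₀ x := by
    intro x
    obtain ⟨y, hy⟩ := lift0 (x : L0 P →ₗ[B] M'')
    obtain ⟨z, hz⟩ := exists_comp_eq hf hfg (φ := y ∘ₗ d1 P) (by rw [← LinearMap.comp_assoc, hy]; exact x.2)
    have hzc : z ∈ cocycles1 P M' := by
      rw [LinearMap.mem_ker, d2Star_apply]
      refine comp_inj hf ?_
      rw [← LinearMap.comp_assoc, hz, LinearMap.comp_assoc, d1_comp_d2, LinearMap.comp_zero, LinearMap.comp_zero]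
    exact ⟨Submodule.Quotient.mk ⟨z, hzc⟩, (hδ₀ x y z hy hz).symm⟩
  choose e₀ he₀ using hδ₀ex
  let D₀ : T0 P M'' →ₗ[B] T1 P M' :=
    { toFun := e₀
      map_add' := fun x y => hinc (by rw [map_add, he₀, he₀, he₀, map_add])
      map_smul' := fun r x => hinc (by rw [map_smul, he₀, he₀, map_smul]; rfl) }
  have hD₁ : coboundaries1 P M'' ≤ LinearMap.ker δ₁ := by
    rintro ⟨x, hx⟩ ⟨χ, hχ⟩
    obtain ⟨χ₁, rfl⟩ := lift0 χ
    refine (hδ₁z _).2 ⟨χ₁ ∘ₗ d1 P, ?_, by rw [LinearMap.comp_assoc, d1_comp_d2, LinearMap.comp_zero]⟩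
    rw [← LinearMap.comp_assoc]
    exact hχ
  let D₁ : T1 P M'' →ₗ[B] T2 P M' := Submodule.liftQ (coboundaries1 P M'') δ₁ hD₁
  refine ⟨D₀, D₁, fun x => ?_, fun z => ⟨fun h => ?_, ?_⟩, fun z => ?_, fun z => ⟨fun h => ?_, ?_⟩⟩
  · change e₀ x = 0 ↔ _
    rw [← map_eq_zero_iff inc hinc, he₀, hδ₀z]
    exact ⟨fun ⟨y, hy, hyd⟩ => ⟨⟨y, hyd⟩, Subtype.ext hy⟩,
      fun ⟨y, hy⟩ => ⟨y.1, congrArg Subtype.val hy, y.2⟩⟩
  · obtain ⟨φ, rfl⟩ := Submodule.Quotient.mk_surjective _ z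
    obtain ⟨χ, hχ⟩ := (Submodule.Quotient.mk_eq_zero _).1 h
    have hχ' : χ ∘ₗ d1 P = f ∘ₗ (φ : L1 P →ₗ[B] M') := hχ
    let x : T0 P M'' := ⟨g ∘ₗ χ, LinearMap.mem_ker.2 (by
      rw [d1Star_apply, LinearMap.comp_assoc, hχ']
      exact comp_eq_zero' hfg _)⟩
    refine ⟨x, hinc ((he₀ x).trans ?_)⟩
    exact hδ₀ x χ φ rfl hχ'.symm
  · rintro ⟨x, rfl⟩
    obtain ⟨y, hy⟩ := lift0 (x : L0 P →ₗ[B] M'')
    obtain ⟨z, hz⟩ := exists_comp_eq hf hfg (φ := y ∘ₗ d1 P) (by rw [← LinearMap.comp_assoc, hy]; exact x.2)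
    have h1 := (he₀ x).trans (hδ₀ x y z hy hz)
    obtain ⟨φ, hφ⟩ := Submodule.Quotient.mk_surjective _ (e₀ x)
    change T1map P f (e₀ x) = 0
    rw [← hφ] at h1 ⊢
    obtain ⟨u, hu⟩ := (Submodule.Quotient.eq _).1 (h1 :)
    refine (Submodule.Quotient.mk_eq_zero _).2 ⟨y + f ∘ₗ u, ?_⟩
    change (y + f ∘ₗ u) ∘ₗ d1 P = f ∘ₗ (φ : L1 P →ₗ[B] M')
    rw [LinearMap.add_comp, LinearMap.comp_assoc, show u ∘ₗ d1 P = (φ : L1 P →ₗ[B] M') - z from hu,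
      LinearMap.comp_sub, hz]
    abel
  · obtain ⟨φ, rfl⟩ := Submodule.Quotient.mk_surjective _ z
    change δ₁ φ = 0 ↔ _
    rw [hδ₁z]
    constructor
    · rintro ⟨y, hy, hyd⟩
      exact ⟨Submodule.Quotient.mk ⟨y, hyd⟩, congrArg Submodule.Quotient.mk (Subtype.ext hy)⟩
    · rintro ⟨q, hq⟩
      obtain ⟨ψ, rfl⟩ := Submodule.Quotient.mk_surjective _ q
      obtain ⟨χ, hχ⟩ := (Submodule.Quotient.eq _).1 (hq :)
      obtain ⟨χ₁, rfl⟩ := lift0 χ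
      have hχ' : (g ∘ₗ χ₁) ∘ₗ d1 P = g ∘ₗ (ψ : L1 P →ₗ[B] M) - (φ : L1 P →ₗ[B] M'') := hχ
      refine ⟨ψ - χ₁ ∘ₗ d1 P, ?_, ?_⟩
      · rw [LinearMap.comp_sub, ← LinearMap.comp_assoc, hχ', sub_sub_cancel]
      · rw [LinearMap.sub_comp, LinearMap.comp_assoc, d1_comp_d2, LinearMap.comp_zero, sub_zero]
        exact ψ.2
  · obtain ⟨φ, rfl⟩ := Submodule.Quotient.mk_surjective _ z
    obtain ⟨χ, hχ⟩ := (Submodule.Quotient.mk_eq_zero _).1 h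
    have hχ' : χ ∘ₗ d2 P = f ∘ₗ φ := hχ
    let x : cocycles1 P M'' := ⟨g ∘ₗ χ, LinearMap.mem_ker.2 (by
      rw [d2Star_apply, LinearMap.comp_assoc, hχ']
      exact comp_eq_zero' hfg _)⟩
    exact ⟨Submodule.Quotient.mk x, hδ₁ x χ φ rfl hχ'.symm⟩
  · rintro ⟨q, rfl⟩
    obtain ⟨x, rfl⟩ := Submodule.Quotient.mk_surjective _ q
    obtain ⟨y, hy⟩ := lift1 (x : L1 P →ₗ[B] M'')
    obtain ⟨z, hz⟩ := exists_comp_eq hf hfg (φ := y ∘ₗ d2 P) (by rw [← LinearMap.comp_assoc, hy]; exact x.2)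
    change T2map P f (δ₁ x) = 0
    rw [hδ₁ x y z hy hz]
    exact (Submodule.Quotient.mk_eq_zero _).2 ⟨y, hz.symm⟩

end Groth.ArtfunDeform
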