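import Groth.Agent.ArtfunDeform.CotT.LocPres
import Groth.Agent.Calg4.SmoothRegularField
import Groth.Agent.Ega4Algebra2.RegularQuotient

/-!
`T¹` and `T²` of smooth algebras over algebraically closed fields.
-/

set_option linter.style.haveILetI false
set_option linter.style.longLine false
set_option linter.unusedSectionVars false

noncomputable section

universe u w t m

namespace Groth.ArtfunDeform

open CotT

/-- `T¹` vanishes identically iff the algebra is formally smooth. -/
theorem forall_subsingleton_T1_iff {A B : Type u} [CommRing A] [CommRing B] [Algebra A B] {ι σ : Type u}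
    (P : Algebra.Presentation A B ι σ) :
    (∀ (M : Type u) [AddCommGroup M] [Module B M], Subsingleton (T1 P M)) ↔ Algebra.FormallySmooth A B := by
  haveI : Algebra.FormallySmooth A P.toExtension.Ring :=
    inferInstanceAs (Algebra.FormallySmooth A (MvPolynomial ι A))
  rw [P.toExtension.formallySmooth_iff_split_injection]
  constructor
  · intro h
    haveI := h P.toExtension.Cotangent
    obtain ⟨χ, hχ⟩ := (homToT1_eq_zero_iff P P.toExtension.Cotangent LinearMap.id).1 (Subsingleton.elim _ _)
    exact ⟨χ, hχ⟩
  · rintro ⟨l, hl⟩ M _ _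
    refine subsingleton_of_forall_eq 0 fun x => ?_
    obtain ⟨ψ, rfl⟩ := homToT1_surjective P M x
    exact (homToT1_eq_zero_iff P M ψ).2 ⟨ψ ∘ₗ l, by rw [LinearMap.comp_assoc, hl, LinearMap.comp_id]⟩

section Field

variable {k B : Type u} [Field k] [IsAlgClosed k] [CommRing B] [Algebra k B] [Algebra.FiniteType k B]

theorem isSmoothAt_iff_isRegular (q : Ideal B) [q.IsPrime] :
    Algebra.IsSmoothAt k q ↔ IsRegularLocalRing (Localization.AtPrime q) := by
  haveI : Algebra.EssFiniteType k q.ResidueField := Algebra.EssFiniteType.comp k B q.ResidueField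
  haveI : Algebra.FormallySmooth k q.ResidueField := Algebra.FormallySmooth.of_perfectField
  exact ⟨fun (_ : Algebra.IsSmoothAt k q) => Groth.Calg4.isRegularLocalRing_of_isSmoothAt (k := k) q,
    fun _ => Groth.Calg4.isSmoothAt_of_isRegularLocalRing q⟩

theorem formallySmooth_iff_regular :
    Algebra.FormallySmooth k B ↔ ∀ (p : Ideal B) [p.IsPrime], IsRegularLocalRing (Localization.AtPrime p) := by
  have : Algebra.FinitePresentation k B := Algebra.FinitePresentation.of_finiteType.mp ‹_›
  rw [← Algebra.smoothLocus_eq_univ_iff, Set.eq_univ_iff_forall]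
  exact ⟨fun h p _ => (isSmoothAt_iff_isRegular p).1 (h ⟨p, ‹_›⟩),
    fun h x => (isSmoothAt_iff_isRegular x.asIdeal).2 (h x.asIdeal)⟩

/-- The relations of a finite presentation of a smooth algebra form a good family. -/
theorem isGoodFamily_of_formallySmooth {ι : Type w} {σ : Type t} [Finite ι] (P : Algebra.Presentation k B ι σ)
    (hB : Algebra.FormallySmooth k B) : IsGoodFamily (rel P) := by
  refine isGoodFamily_of_localization fun p _ hp => ?_
  letI : IsRegularRing P.toExtension.Ring := inferInstanceAs (IsRegularRing (MvPolynomial ι k))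
  have hker : RingHom.ker (algebraMap P.toExtension.Ring B) = Ideal.span (Set.range (rel P)) :=
    P.span_range_relation_eq_ker.symm
  let g : P.toExtension.Ring →+* B := algebraMap P.toExtension.Ring B
  have hg : Function.Surjective g := ring_surjective P
  have hgp : RingHom.ker g ≤ p := hker.le.trans hp
  let q : Ideal B := p.map g
  haveI : q.IsPrime := Ideal.map_isPrime_of_surjective hg hgp
  have hmem : ∀ r, g r ∈ q ↔ r ∈ p := fun r => by
    refine ⟨fun h => ?_, fun h => Ideal.mem_map_of_mem g h⟩
    obtain ⟨r', hr', e⟩ := (Ideal.mem_map_iff_of_surjective g hg).1 h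
    have : r - r' ∈ p := hgp (by rw [RingHom.mem_ker, map_sub, e, sub_self])
    simpa using add_mem this hr'
  let φ : Localization.AtPrime p →+* Localization.AtPrime q :=
    IsLocalization.map (M := p.primeCompl) (T := q.primeCompl) (Localization.AtPrime q) g fun r hr h => hr ((hmem r).1 h)
  have hφs : Function.Surjective φ := by
    intro y
    obtain ⟨b, s, rfl⟩ := IsLocalization.exists_mk'_eq q.primeCompl y
    obtain ⟨a, rfl⟩ := hg b
    obtain ⟨t, ht⟩ := hg (s : B)
    have htp : t ∈ p.primeCompl := fun h => s.2 (ht ▸ (hmem t).2 h)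
    refine ⟨IsLocalization.mk' _ a (⟨t, htp⟩ : p.primeCompl), ?_⟩
    rw [IsLocalization.map_mk']
    congr 1
    exact Subtype.ext ht
  let J : Ideal (Localization.AtPrime p) :=
    Ideal.span (Set.range fun s => algebraMap P.toExtension.Ring (Localization.AtPrime p) (rel P s))
  have hJ : J = (RingHom.ker g).map (algebraMap P.toExtension.Ring (Localization.AtPrime p)) := by
    rw [hker, Ideal.map_span, ← Set.range_comp]
    rfl
  have hφk : RingHom.ker φ = J := by
    rw [hJ]
    ext x
    obtain ⟨a, s, rfl⟩ := IsLocalization.exists_mk'_eq p.primeCompl x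
    rw [RingHom.mem_ker, IsLocalization.map_mk', IsLocalization.mk'_eq_zero_iff,
      IsLocalization.mk'_mem_map_algebraMap_iff]
    constructor
    · rintro ⟨t, ht⟩
      obtain ⟨t₀, ht₀⟩ := hg (t : B)
      exact ⟨t₀, fun h => t.2 (ht₀ ▸ (hmem t₀).2 h), by rw [RingHom.mem_ker, map_mul, ht₀, ht]⟩
    · rintro ⟨t₀, ht₀, h⟩
      exact ⟨⟨g t₀, fun h' => ht₀ ((hmem t₀).1 h')⟩, by rw [← map_mul]; exact h⟩
  haveI : IsRegularLocalRing (Localization.AtPrime q) := formallySmooth_iff_regular.1 hB q
  haveI : IsRegularLocalRing (Localization.AtPrime p ⧸ J) :=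
    IsRegularLocalRing.of_ringEquiv
      ((RingHom.quotientKerEquivOfSurjective hφs).symm.trans (Ideal.quotEquivOfEq hφk))
  obtain ⟨rs, hrs, -, hrsJ⟩ := Groth.Ega4b.exists_regularSeq_of_regular_quotient (Localization.AtPrime p) J
  refine isGoodFamily_of_span_eq (hasOnlyTrivialSyz_of_isWeaklyRegular rs hrs) ?_
  change J = _
  rw [← hrsJ, Ideal.ofList]
  congr 1
  ext x
  simp only [Set.mem_range, Set.mem_ofPred_eq, List.mem_iff_getElem]
  exact ⟨fun ⟨i, hi, h⟩ => ⟨⟨i, hi⟩, h⟩, fun ⟨i, h⟩ => ⟨i.1, i.2, h⟩⟩

/-- `T²` of a smooth algebra vanishes. -/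
theorem subsingleton_T2_of_formallySmooth (hB : Algebra.FormallySmooth k B) (M : Type m) [AddCommGroup M]
    [Module B M] : Subsingleton (T2 (canon k B) M) := by
  haveI : Algebra.FinitePresentation k B := Algebra.FinitePresentation.of_finiteType.mp ‹_›
  let P := Algebra.Presentation.ofFinitePresentation k B
  haveI : Algebra.FormallySmooth k P.toExtension.Ring :=
    inferInstanceAs (Algebra.FormallySmooth k (MvPolynomial _ k))
  obtain ⟨l, hl⟩ := P.toExtension.formallySmooth_iff_split_injection.1 hB
  haveI : Module.Free B (L0 P) := Module.Free.of_basis P.cotangentSpaceBasis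
  haveI : Module.Projective B P.toExtension.Cotangent :=
    Module.Projective.of_split P.toExtension.cotangentComplex l hl
  obtain ⟨s, hs⟩ := Module.projective_lifting_property (toCot P) LinearMap.id (toCot_surjective P)
  haveI := subsingleton_T2_of_splitting P
    (d2_injective_of_isGoodFamily P (isGoodFamily_of_formallySmooth P hB)) s hs M
  obtain ⟨-, -, ⟨e⟩⟩ := exists_equiv (canon k B) P M
  exact e.toEquiv.subsingleton

theorem regular_iff_T1_and_T2 :
    ((∀ (p : Ideal B) [p.IsPrime], IsRegularLocalRing (Localization.AtPrime p)) ↔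
      ∀ (M : Type u) [AddCommGroup M] [Module B M], Subsingleton (T1 (canon k B) M)) ∧
    ((∀ (p : Ideal B) [p.IsPrime], IsRegularLocalRing (Localization.AtPrime p)) →
      ∀ (M : Type u) [AddCommGroup M] [Module B M], Subsingleton (T2 (canon k B) M)) :=
  ⟨(formallySmooth_iff_regular (k := k)).symm.trans (forall_subsingleton_T1_iff (canon k B)).symm,
    fun h M _ _ => subsingleton_T2_of_formallySmooth (formallySmooth_iff_regular.2 h) M⟩

/-- `T²` of a regular local ring of a finite type algebra vanishes. -/
theorem subsingleton_T2_atPrime (q : Ideal B) [q.IsPrime] (hq : IsRegularLocalRing (Localization.AtPrime q))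
    (M : Type u) [AddCommGroup M] [Module (Localization.AtPrime q) M] :
    Subsingleton (T2 (canon k (Localization.AtPrime q)) M) := by
  haveI : Algebra.FinitePresentation k B := Algebra.FinitePresentation.of_finiteType.mp ‹_›
  haveI : Algebra.IsSmoothAt k q := (isSmoothAt_iff_isRegular q).2 hq
  obtain ⟨g, hg, hgs⟩ := Algebra.IsSmoothAt.exists_notMem_isStandardSmooth (R := k) q
  let Bg := Localization.Away g
  have hle : Submonoid.powers g ≤ q.primeCompl := Submonoid.powers_le.2 hg
  letI : Algebra Bg (Localization.AtPrime q) :=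
    IsLocalization.localizationAlgebraOfSubmonoidLe Bg (Localization.AtPrime q) (Submonoid.powers g) q.primeCompl hle
  haveI : IsScalarTower B Bg (Localization.AtPrime q) :=
    IsLocalization.localization_isScalarTower_of_submonoid_le Bg (Localization.AtPrime q) (Submonoid.powers g) q.primeCompl hle
  haveI : IsScalarTower k Bg (Localization.AtPrime q) := IsScalarTower.of_algebraMap_eq fun x => by
    rw [IsScalarTower.algebraMap_apply k B (Localization.AtPrime q) x,
      IsScalarTower.algebraMap_apply k B Bg x, ← IsScalarTower.algebraMap_apply B Bg (Localization.AtPrime q)]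
  haveI := IsLocalization.isLocalization_of_submonoid_le Bg (Localization.AtPrime q) (Submonoid.powers g) q.primeCompl hle
  haveI : Algebra.FiniteType k Bg := inferInstance
  letI : Module Bg M := Module.compHom M (algebraMap Bg (Localization.AtPrime q))
  haveI : IsScalarTower Bg (Localization.AtPrime q) M :=
    IsScalarTower.of_compHom Bg (Localization.AtPrime q) M
  haveI : Subsingleton (T2 (canon k Bg) M) :=
    subsingleton_T2_of_formallySmooth (inferInstance : Algebra.FormallySmooth k Bg) M
  haveI : Subsingleton (T2 (canon Bg (Localization.AtPrime q)) M) :=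
    subsingleton_T2_localization (Localization.AtPrime q) (q.primeCompl.map (algebraMap B Bg)) M
  exact subsingleton_T2_trans k Bg (Localization.AtPrime q) M

theorem regular_atPrime_iff_T1_and_T2 (q : Ideal B) [q.IsPrime] :
    (IsRegularLocalRing (Localization.AtPrime q) ↔
      ∀ (M : Type u) [AddCommGroup M] [Module (Localization.AtPrime q) M],
        Subsingleton (T1 (canon k (Localization.AtPrime q)) M)) ∧
    (IsRegularLocalRing (Localization.AtPrime q) →
      ∀ (M : Type u) [AddCommGroup M] [Module (Localization.AtPrime q) M],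
        Subsingleton (T2 (canon k (Localization.AtPrime q)) M)) :=
  ⟨(isSmoothAt_iff_isRegular q).symm.trans (forall_subsingleton_T1_iff (canon k (Localization.AtPrime q))).symm,
    fun h M _ _ => subsingleton_T2_atPrime q h M⟩

end Field

end Groth.ArtfunDeform
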