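import Groth.Agent.ArtfunDeform.CotT.Vanishing
import Mathlib.RingTheory.Localization.AtPrime.Basic

/-!
Trivial syzygies: independence of the generators, localisation, consequences for `T²`.
-/

set_option linter.style.haveILetI false
set_option linter.style.longLine false
set_option linter.unusedSectionVars false

noncomputable section

universe u v w t m

open TensorProduct

namespace Groth.ArtfunDeform

section Syz

variable {R : Type u} [CommRing R] {σ : Type t} (f : σ → R)

local notation "lc" => Finsupp.linearCombination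

/-- The trivial syzygies of a family. -/
def trivSub : Submodule R (σ →₀ R) :=
  Submodule.span R {y | ∃ a b : σ →₀ R, y = lc R f a • b - lc R f b • a}

/-- Syzygies with coefficients in the ideal of the family are trivial. -/
def IsGoodFamily : Prop :=
  ∀ q : σ →₀ R, lc R f q = 0 → (∀ s, q s ∈ Ideal.span (Set.range f)) → q ∈ trivSub f

/-- All syzygies of the family are trivial. -/
def HasOnlyTrivialSyz : Prop := ∀ q : σ →₀ R, lc R f q = 0 → q ∈ trivSub f

variable {f}

lemma HasOnlyTrivialSyz.isGoodFamily (h : HasOnlyTrivialSyz f) : IsGoodFamily f := fun q hq _ => h q hq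

lemma smul_mem_trivSub (y q : σ →₀ R) (hq : lc R f q = 0) : lc R f y • q ∈ trivSub f :=
  Submodule.subset_span ⟨y, q, by rw [hq, zero_smul, sub_zero]⟩

lemma map_trivSub_le {τ : Type w} {g : τ → R} (ψ : (σ →₀ R) →ₗ[R] (τ →₀ R))
    (hψ : ∀ a, lc R g (ψ a) = lc R f a) : (trivSub f).map ψ ≤ trivSub g := by
  rw [trivSub, Submodule.map_span, Submodule.span_le]
  rintro _ ⟨_, ⟨a, b, rfl⟩, rfl⟩
  exact Submodule.subset_span ⟨ψ a, ψ b, by rw [map_sub, map_smul, map_smul, hψ, hψ]⟩

lemma exists_linear_lift {τ : Type w} {g : τ → R} (h : Ideal.span (Set.range f) ≤ Ideal.span (Set.range g)) :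
    ∃ φ : (σ →₀ R) →ₗ[R] (τ →₀ R), ∀ a, lc R g (φ a) = lc R f a := by
  choose c hc using fun s => Finsupp.mem_ideal_span_range_iff_exists_finsupp.1 (h (Ideal.subset_span ⟨s, rfl⟩))
  refine ⟨lc R c, fun a => ?_⟩
  induction a using Finsupp.induction_linear with
  | zero => simp
  | add a b ha hb => rw [map_add, map_add, map_add, ha, hb]
  | single s r =>
    rw [Finsupp.linearCombination_single, Finsupp.linearCombination_single, map_smul]
    refine congrArg (r • ·) ?_
    rw [← hc, Finsupp.linearCombination_apply]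
    exact Finsupp.sum_congr fun _ _ => rfl

/-- Goodness only depends on the ideal, as soon as one family has only trivial syzygies. -/
theorem isGoodFamily_of_span_eq {τ : Type w} {g : τ → R} (hg : HasOnlyTrivialSyz g)
    (h : Ideal.span (Set.range f) = Ideal.span (Set.range g)) : IsGoodFamily f := by
  intro q hq hqI
  obtain ⟨φ, hφ⟩ := exists_linear_lift h.le
  obtain ⟨ψ, hψ⟩ := exists_linear_lift h.ge
  let D : (σ →₀ R) →ₗ[R] (σ →₀ R) := LinearMap.id - ψ ∘ₗ φ
  have hD : ∀ a, lc R f (D a) = 0 := fun a => by
    change lc R f (a - ψ (φ a)) = 0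
    rw [map_sub, hψ, hφ, sub_self]
  have h1 : D q ∈ trivSub f := by
    rw [← Finsupp.sum_single q, map_finsuppSum]
    refine Submodule.sum_mem _ fun s _ => ?_
    beta_reduce
    obtain ⟨y, hy⟩ := Finsupp.mem_ideal_span_range_iff_exists_finsupp.1 (hqI s)
    have hy' : lc R f y = q s := (Finsupp.linearCombination_apply R y).trans hy
    rw [← Finsupp.smul_single_one, map_smul, ← hy']
    exact smul_mem_trivSub y _ (hD _)
  have h2 : ψ (φ q) ∈ trivSub f :=
    map_trivSub_le ψ hψ ⟨φ q, hg _ ((hφ q).trans hq), rfl⟩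
  have : q = D q + ψ (φ q) := by
    change q = q - ψ (φ q) + ψ (φ q)
    rw [sub_add_cancel]
  rw [this]
  exact add_mem h1 h2

lemma trivSub_le_span_basis :
    trivSub f ≤ Submodule.span R {y | ∃ i j : σ, y = f i • Finsupp.single j 1 - f j • Finsupp.single i 1} := by
  rw [trivSub, Submodule.span_le]
  rintro _ ⟨a, b, rfl⟩
  induction a using Finsupp.induction_linear with
  | zero => simp
  | add a a' ha ha' =>
    rw [map_add, add_smul, smul_add, add_sub_add_comm]
    exact add_mem ha ha'
  | single i r =>
    induction b using Finsupp.induction_linear with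
    | zero => simp
    | add b b' hb hb' =>
      rw [map_add, smul_add, add_smul, add_sub_add_comm]
      exact add_mem hb hb'
    | single j r' =>
      have : lc R f (Finsupp.single i r) • Finsupp.single j r' - lc R f (Finsupp.single j r') • Finsupp.single i r =
          (r * r') • (f i • Finsupp.single j (1 : R) - f j • Finsupp.single i 1) := by
        rw [Finsupp.linearCombination_single, Finsupp.linearCombination_single]
        simp only [smul_sub, Finsupp.smul_single, smul_eq_mul, mul_one]
        congr 2 <;> ring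
      rw [this]
      exact Submodule.smul_mem _ _ (Submodule.subset_span ⟨i, j, rfl⟩)

/-- Goodness is local. -/
theorem isGoodFamily_of_localization
    (h : ∀ (p : Ideal R) [p.IsPrime], Ideal.span (Set.range f) ≤ p →
      IsGoodFamily (fun s => algebraMap R (Localization.AtPrime p) (f s))) : IsGoodFamily f := by
  classical
  intro q hq hqI
  by_contra hne
  let J : Ideal R := (trivSub f).comap (LinearMap.toSpanSingleton R (σ →₀ R) q)
  have hJ : J ≠ ⊤ := fun e => hne (by
    have : (1 : R) ∈ J := e ▸ Submodule.mem_top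
    simpa [J] using this)
  obtain ⟨p, hp, hJp⟩ := Ideal.exists_le_maximal J hJ
  by_cases hI : Ideal.span (Set.range f) ≤ p
  swap
  · obtain ⟨x, hx, hxp⟩ := SetLike.not_le_iff_exists.1 hI
    obtain ⟨y, hy⟩ := Finsupp.mem_ideal_span_range_iff_exists_finsupp.1 hx
    have hy' : lc R f y = x := (Finsupp.linearCombination_apply R y).trans hy
    exact hxp (hJp (show x • q ∈ trivSub f from hy' ▸ smul_mem_trivSub y q hq))
  let S := Localization.AtPrime p
  let i : R →+* S := algebraMap R S
  let μ : (σ →₀ R) →+ (σ →₀ S) := Finsupp.mapRange.addMonoidHom i.toAddMonoidHom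
  have hμ : ∀ a s, μ a s = i (a s) := fun a s => rfl
  have hμs : ∀ r a, μ (r • a) = i r • μ a := fun r a => Finsupp.ext fun s => map_mul i r (a s)
  have hlc : ∀ a, lc S (fun s => i (f s)) (μ a) = i (lc R f a) := by
    intro a
    induction a using Finsupp.induction_linear with
    | zero => simp
    | add a b ha hb => rw [map_add, map_add, map_add, map_add, ha, hb]
    | single s r =>
      rw [show μ (Finsupp.single s r) = Finsupp.single s (i r) from Finsupp.mapRange_single (hf := map_zero i),
        Finsupp.linearCombination_single, Finsupp.linearCombination_single, smul_eq_mul, smul_eq_mul, map_mul]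
  have hq' : μ q ∈ trivSub (fun s => i (f s)) := by
    refine h p hI (μ q) (by rw [hlc, hq, map_zero]) fun s => ?_
    have hrange : Set.range (fun s => i (f s)) = i '' Set.range f := Set.range_comp i f
    rw [hrange, ← Ideal.map_span, hμ]
    exact Ideal.mem_map_of_mem _ (hqI s)
  have key : ∀ y ∈ trivSub (fun s => i (f s)), ∃ t : p.primeCompl, ∃ x ∈ trivSub f, i t • y = μ x := by
    intro y hy
    replace hy := trivSub_le_span_basis hy
    induction hy using Submodule.span_induction with
    | mem y hy =>
      obtain ⟨a, b, rfl⟩ := hy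
      refine ⟨1, f a • Finsupp.single b 1 - f b • Finsupp.single a 1,
        Submodule.subset_span ⟨Finsupp.single a 1, Finsupp.single b 1, ?_⟩, ?_⟩
      · simp
      · rw [OneMemClass.coe_one, map_one, one_smul, map_sub, hμs, hμs]
        simp [μ]
    | zero => exact ⟨1, 0, zero_mem _, by simp⟩
    | add y z _ _ hy hz =>
      obtain ⟨t, x, hx, e⟩ := hy
      obtain ⟨t', x', hx', e'⟩ := hz
      refine ⟨t * t', (t' : R) • x + (t : R) • x', add_mem (Submodule.smul_mem _ _ hx) (Submodule.smul_mem _ _ hx'), ?_⟩
      rw [map_add, hμs, hμs, ← e, ← e', Submonoid.coe_mul, map_mul, smul_smul, smul_smul, smul_add, mul_comm (i t') (i t)]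
    | smul r y _ hy =>
      obtain ⟨t, x, hx, e⟩ := hy
      obtain ⟨⟨a, t'⟩, ha⟩ := IsLocalization.surj p.primeCompl r
      refine ⟨t' * t, a • x, Submodule.smul_mem _ _ hx, ?_⟩
      rw [hμs, ← e, smul_smul, smul_smul, Submonoid.coe_mul, map_mul, ← ha]
      congr 1
      ring
  obtain ⟨t, x, hx, e⟩ := key _ hq'
  have hz : μ ((t : R) • q - x) = 0 := by rw [map_sub, hμs, e, sub_self]
  choose c hc using fun s => (IsLocalization.map_eq_zero_iff p.primeCompl S (((t : R) • q - x) s)).1
    (by
      have := DFunLike.congr_fun hz s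
      rwa [hμ, Finsupp.zero_apply] at this)
  let C : p.primeCompl := ∏ s ∈ ((t : R) • q - x).support, c s
  have hC : (C : R) • ((t : R) • q - x) = 0 := Finsupp.ext fun s => by
    rw [Finsupp.smul_apply, smul_eq_mul, Finsupp.zero_apply]
    by_cases hs : s ∈ ((t : R) • q - x).support
    · obtain ⟨d, hd⟩ := Finset.dvd_prod_of_mem (fun s => (c s : R)) hs
      rw [show (C : R) = ∏ s ∈ ((t : R) • q - x).support, (c s : R) from by simp [C], hd,
        mul_comm (c s : R), mul_assoc, hc, mul_zero]
    · rw [Finsupp.notMem_support_iff.1 hs, mul_zero]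
  rw [smul_sub, sub_eq_zero, smul_smul] at hC
  exact (C * t).2 (hJp (show ((C : R) * (t : R)) • q ∈ trivSub f from hC ▸ Submodule.smul_mem _ _ hx))

/-- A weakly regular family has only trivial syzygies. -/
theorem hasOnlyTrivialSyz_of_regular {n : ℕ} (a : Fin n → R)
    (ha : ∀ i : Fin n, ∀ x, x * a i ∈ Ideal.span (a '' {j | j < i}) → x ∈ Ideal.span (a '' {j | j < i})) :
    HasOnlyTrivialSyz a := by
  intro q hq
  rw [Finsupp.linearCombination_apply, Finsupp.sum_fintype _ _ (by simp)] at hq
  have h := mem_koszulRel a ha (fun i => q i) hq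
  let e : (Fin n → R) →ₗ[R] (Fin n →₀ R) := (Finsupp.linearEquivFunOnFinite R R (Fin n)).symm.toLinearMap
  have he : (koszulRel a).map e ≤ trivSub a := by
    rw [koszulRel, Submodule.map_span, Submodule.span_le]
    rintro _ ⟨_, ⟨i, j, rfl⟩, rfl⟩
    refine Submodule.subset_span ⟨Finsupp.single i 1, Finsupp.single j 1, ?_⟩
    simp [e]
  have := he ⟨_, h, rfl⟩
  convert this
  exact ((Finsupp.linearEquivFunOnFinite R R (Fin n)).symm_apply_apply q).symm

theorem hasOnlyTrivialSyz_of_isWeaklyRegular (rs : List R) (h : RingTheory.Sequence.IsWeaklyRegular R rs) :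
    HasOnlyTrivialSyz (fun i : Fin rs.length => rs[i.1]) := by
  refine hasOnlyTrivialSyz_of_regular _ fun i x hx => ?_
  have hspan : Ideal.span ((fun i : Fin rs.length => rs[i.1]) '' {j | j < i}) = Ideal.ofList (rs.take i.1) := by
    rw [Ideal.ofList]
    congr 1
    ext p
    constructor
    · rintro ⟨j, hj, rfl⟩
      exact List.mem_take_iff_getElem.2 ⟨j.1, lt_min hj j.2, rfl⟩
    · intro hp
      obtain ⟨j, hj, rfl⟩ := List.mem_take_iff_getElem.1 hp
      exact ⟨⟨j, (lt_min_iff.1 hj).2⟩, (lt_min_iff.1 hj).1, rfl⟩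
  rw [hspan] at hx ⊢
  have key : ∀ z : R, z ∈ (Ideal.ofList (rs.take i.1) • ⊤ : Submodule R R) ↔ z ∈ Ideal.ofList (rs.take i.1) := by
    intro z
    rw [smul_eq_mul, Ideal.mul_top]
  rw [← key, ← Submodule.Quotient.mk_eq_zero]
  refine (h.regular_mod_prev i.1 i.2) ?_
  change rs[i.1] • (Submodule.Quotient.mk x : R ⧸ _) = rs[i.1] • 0
  rw [smul_zero, ← Submodule.Quotient.mk_smul, Submodule.Quotient.mk_eq_zero, key, smul_eq_mul, mul_comm]
  exact hx

end Syz

section T2

open CotT

variable {A : Type u} {B : Type v} {ι : Type w} {σ : Type t}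
variable [CommRing A] [CommRing B] [Algebra A B]
variable (P : Algebra.Presentation A B ι σ)

lemma d2_injective_of_isGoodFamily (h : IsGoodFamily (rel P)) : Function.Injective (d2 P) := by
  rw [injective_iff_map_eq_zero]
  intro z hz
  obtain ⟨q, rfl⟩ := l2mk_surjective P z
  rw [d2_l2mk] at hz
  refine l2mk_eq_zero P (h _ q.2 fun s => ?_)
  change _ ∈ Ideal.span (Set.range P.relation)
  rw [P.span_range_relation_eq_ker]
  have := congrArg (fun z => (L1basis P).repr z s) hz
  simp only [map_zero, Finsupp.zero_apply, L1basis, Algebra.TensorProduct.basis_repr_tmul] at this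
  change algebraMap P.toExtension.Ring B ((q : relMod P) s) = 0
  simpa using this

lemma subsingleton_T2_of_splitting (hinj : Function.Injective (d2 P))
    (s : P.toExtension.Cotangent →ₗ[B] L1 P) (hs : toCot P ∘ₗ s = LinearMap.id)
    (M : Type m) [AddCommGroup M] [Module B M] : Subsingleton (T2 P M) := by
  refine subsingleton_of_forall_eq 0 fun x => ?_
  obtain ⟨φ, rfl⟩ := Submodule.Quotient.mk_surjective _ x
  refine (Submodule.Quotient.mk_eq_zero _).2 ?_
  let e := LinearEquiv.ofInjective (d2 P) hinj
  let π : L1 P →ₗ[B] LinearMap.range (d2 P) :=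
    LinearMap.codRestrict _ (LinearMap.id - s ∘ₗ toCot P) fun z => mem_range_d2 P (by
      change toCot P (z - s (toCot P z)) = 0
      rw [map_sub, show toCot P (s (toCot P z)) = toCot P z from LinearMap.congr_fun hs _, sub_self])
  refine ⟨φ ∘ₗ e.symm.toLinearMap ∘ₗ π, LinearMap.ext fun z => congrArg φ ?_⟩
  refine e.injective ?_
  rw [LinearMap.comp_apply, LinearEquiv.coe_coe, LinearEquiv.apply_symm_apply]
  refine Subtype.ext ?_
  change d2 P z - s (toCot P (d2 P z)) = d2 P z
  rw [show toCot P (d2 P z) = 0 from LinearMap.congr_fun (toCot_comp_d2 P) z, map_zero, sub_zero]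

end T2

end Groth.ArtfunDeform
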