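import Groth.Agent.ArtfunDeform.CotT.Compare
import Mathlib.RingTheory.Regular.RegularSequence

/-!
Vanishing of `T¹`, `T²` for polynomial rings and regular quotients; change of base to the polynomial ring.
-/

set_option linter.style.haveILetI false
set_option linter.style.longLine false
set_option linter.unusedSectionVars false

noncomputable section

universe u v w t m

open TensorProduct

namespace Groth.ArtfunDeform

open CotT

section Basic

variable {A : Type u} {B : Type v} {ι : Type w} {σ : Type t}
variable [CommRing A] [CommRing B] [Algebra A B]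
variable (P : Algebra.Presentation A B ι σ)

lemma smul_mem_trivRelKer {a : P.toExtension.Ring} (ha : a ∈ P.toExtension.ker) (q : relKer P) :
    a • q ∈ trivRelKer P := by
  obtain ⟨g, hg⟩ := jker_surjective P ⟨a, ha⟩
  have hg' : jmap P g = a := congrArg Subtype.val hg
  change a • (q : relMod P) ∈ trivRel P
  refine Submodule.subset_span ⟨g, q, ?_⟩
  rw [hg', show jmap P (q : relMod P) = 0 from q.2, zero_smul, sub_zero]

theorem l2mk_eq_zero_iff {q : relKer P} : l2mk P q = 0 ↔ (q : relMod P) ∈ trivRel P := by
  refine ⟨fun h => ?_, l2mk_eq_zero P⟩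
  let N := relQuot P
  let f : P.toExtension.Ring →ₗ[P.toExtension.Ring] (relKer P →ₗ[P.toExtension.Ring] N) :=
    LinearMap.toSpanSingleton _ _ ((trivRel P).mkQ ∘ₗ (relKer P).subtype)
  have hf : LinearMap.ker (Algebra.linearMap P.toExtension.Ring B) ≤ LinearMap.ker f := fun a ha =>
    LinearMap.ext fun q => (Submodule.Quotient.mk_eq_zero _).2 (smul_mem_trivRelKer P ha q)
  let e := (Algebra.linearMap P.toExtension.Ring B).quotKerEquivOfSurjective (ring_surjective P)
  let L : B ⊗[P.toExtension.Ring] relKer P →ₗ[P.toExtension.Ring] N :=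
    TensorProduct.lift ((Submodule.liftQ _ f hf).comp e.symm.toLinearMap)
  have hL : ∀ x : relKer P, L ((1 : B) ⊗ₜ x) = Submodule.Quotient.mk (x : relMod P) := fun x => by
    have he : e.symm (1 : B) = Submodule.Quotient.mk 1 :=
      (LinearEquiv.symm_apply_eq _).2 (map_one (algebraMap P.toExtension.Ring B)).symm
    rw [TensorProduct.lift.tmul, LinearMap.comp_apply, LinearEquiv.coe_coe, he]
    exact one_smul P.toExtension.Ring (Submodule.Quotient.mk (x : relMod P) : N)
  obtain ⟨z, hz⟩ := (Submodule.Quotient.mk_eq_zero _).1 h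
  obtain ⟨k, rfl⟩ := exists_one_tmul P z
  have h1 := congrArg L hz
  rw [LinearMap.baseChange_tmul, TensorProduct.mk_apply, hL, hL, Submodule.Quotient.eq] at h1
  exact (Submodule.sub_mem_iff_right (trivRel P) (show ((k : relKer P) : relMod P) ∈ trivRel P from k.2)).1 h1

variable (M : Type m) [AddCommGroup M] [Module B M]

lemma subsingleton_T1_of_isEmpty [IsEmpty σ] : Subsingleton (T1 P M) := by
  have : ∀ f g : L1 P →ₗ[B] M, f = g := fun f g => (L1basis P).ext isEmptyElim
  haveI : Subsingleton (L1 P →ₗ[B] M) := ⟨this⟩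
  exact (Submodule.Quotient.mk_surjective _).subsingleton

lemma subsingleton_T2_of (h : ∀ q : relKer P, (q : relMod P) ∈ trivRel P) : Subsingleton (T2 P M) := by
  haveI : Subsingleton (L2 P →ₗ[B] M) := ⟨fun f g => LinearMap.ext fun z => by
    obtain ⟨q, rfl⟩ := l2mk_surjective P z
    rw [l2mk_eq_zero P (h q), map_zero, map_zero]⟩
  exact (Submodule.Quotient.mk_surjective _).subsingleton

end Basic

/-- Polynomial rings have vanishing `T¹`, `T²`. -/
theorem subsingleton_T_of_polynomial {A B : Type u} [CommRing A] [CommRing B] [Algebra A B] {κ : Type u}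
    (e : MvPolynomial κ A ≃ₐ[A] B) (M : Type m) [AddCommGroup M] [Module B M] :
    Subsingleton (T1 (canon A B) M) ∧ Subsingleton (T2 (canon A B) M) := by
  have hae : ∀ p, MvPolynomial.aeval (fun j => e (MvPolynomial.X j)) p = e p := fun p =>
    congrArg (fun f : MvPolynomial κ A →ₐ[A] B => f p) (MvPolynomial.aeval_unique e.toAlgHom).symm
  let G : Algebra.Generators A B κ := Algebra.Generators.ofSurjective (fun j => e (MvPolynomial.X j))
    fun b => ⟨e.symm b, by rw [hae, AlgEquiv.apply_symm_apply]⟩
  let Q : Algebra.Presentation A B κ PEmpty.{u + 1} :=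
    { toGenerators := G
      relation := PEmpty.elim
      span_range_relation_eq_ker := by
        rw [Set.range_eq_empty, Ideal.span_empty, eq_comm, eq_bot_iff]
        intro p hp
        have hp' : e p = 0 := (hae p).symm.trans hp
        rw [Ideal.mem_bot]
        exact (map_eq_zero_iff e e.injective).1 hp' }
  obtain ⟨-, ⟨e1⟩, ⟨e2⟩⟩ := exists_equiv (canon A B) Q M
  haveI := subsingleton_T1_of_isEmpty Q M
  haveI : Subsingleton (T2 Q M) := subsingleton_T2_of Q M fun q => by
    rw [show (q : relMod Q) = 0 from Subsingleton.elim _ _]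
    exact zero_mem _
  exact ⟨e1.toEquiv.subsingleton, e2.toEquiv.subsingleton⟩

section Koszul

/-- The Koszul relations. -/
def koszulRel {R : Type*} [CommRing R] {n : ℕ} (a : Fin n → R) : Submodule R (Fin n → R) :=
  Submodule.span R {x | ∃ i j, x = a i • Pi.single j 1 - a j • Pi.single i 1}

/-- Relations of a weakly regular family are Koszul relations. -/
theorem mem_koszulRel {R : Type*} [CommRing R] : ∀ {n : ℕ} (a : Fin n → R),
    (∀ i : Fin n, ∀ x, x * a i ∈ Ideal.span (a '' {j | j < i}) → x ∈ Ideal.span (a '' {j | j < i})) →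
      ∀ r : Fin n → R, ∑ i, r i * a i = 0 → r ∈ koszulRel a := by
  intro n
  induction n with
  | zero =>
    intro a _ r _
    rw [show r = 0 from Subsingleton.elim _ _]
    exact zero_mem _
  | succ n ih =>
    intro a ha r hr
    classical
    have himg : a '' {j | j < Fin.last n} = Set.range (a ∘ Fin.castSucc) := by
      ext x
      constructor
      · rintro ⟨j, hj, rfl⟩
        obtain ⟨i, rfl⟩ := Fin.exists_castSucc_eq.2 (ne_of_lt hj)
        exact ⟨i, rfl⟩
      · rintro ⟨i, rfl⟩
        exact ⟨_, Fin.castSucc_lt_last i, rfl⟩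
    rw [Fin.sum_univ_castSucc] at hr
    have hlast : r (Fin.last n) ∈ Ideal.span (a '' {j | j < Fin.last n}) := by
      refine ha _ _ ?_
      rw [show r (Fin.last n) * a (Fin.last n) = -∑ i : Fin n, r i.castSucc * a i.castSucc from
        eq_neg_of_add_eq_zero_right hr]
      exact neg_mem (Ideal.sum_mem _ fun i _ => Ideal.mul_mem_left _ _ (by
        rw [himg]; exact Ideal.subset_span ⟨i, rfl⟩))
    rw [himg, Ideal.mem_span_range_iff_exists_fun] at hlast
    obtain ⟨c, hc⟩ := hlast
    let d : Fin (n + 1) → R :=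
      ∑ i : Fin n, c i • (a i.castSucc • Pi.single (Fin.last n) 1 - a (Fin.last n) • Pi.single i.castSucc 1)
    have hd : d ∈ koszulRel a :=
      Submodule.sum_mem _ fun i _ => Submodule.smul_mem _ _ (Submodule.subset_span ⟨_, _, rfl⟩)
    have hd1 : d (Fin.last n) = r (Fin.last n) := by
      simp only [d, Finset.sum_apply, Pi.smul_apply, Pi.sub_apply, smul_eq_mul]
      rw [← hc]
      refine Finset.sum_congr rfl fun i _ => ?_
      rw [Pi.single_eq_same, Pi.single_eq_of_ne (Fin.castSucc_lt_last i).ne']
      simp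
    have hd2 : ∀ j : Fin n, d j.castSucc = -(c j * a (Fin.last n)) := by
      intro j
      simp only [d, Finset.sum_apply, Pi.smul_apply, Pi.sub_apply, smul_eq_mul]
      rw [Finset.sum_eq_single j]
      · rw [Pi.single_eq_same, Pi.single_eq_of_ne (Fin.castSucc_lt_last j).ne]
        ring
      · intro i _ hij
        rw [Pi.single_eq_of_ne (Fin.castSucc_lt_last j).ne,
          Pi.single_eq_of_ne (fun h => hij (Fin.castSucc_injective n h).symm)]
        ring
      · simp
    let L : (Fin n → R) →ₗ[R] (Fin (n + 1) → R) :=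
      ∑ i : Fin n, (LinearMap.single R (fun _ => R) i.castSucc).comp (LinearMap.proj i)
    have hL : ∀ (x : Fin n → R) (j : Fin n), L x j.castSucc = x j := by
      intro x j
      simp [L, Finset.sum_apply, Pi.single_apply]
    have hL' : ∀ x : Fin n → R, L x (Fin.last n) = 0 := by
      intro x
      simp only [L, LinearMap.sum_apply, Finset.sum_apply, LinearMap.comp_apply, LinearMap.single_apply]
      exact Finset.sum_eq_zero fun i _ => Pi.single_eq_of_ne (Fin.castSucc_lt_last i).ne' _
    have hr' : r - d = L fun i => r i.castSucc - d i.castSucc := by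
      funext j
      refine Fin.lastCases ?_ (fun i => ?_) j
      · rw [hL', Pi.sub_apply, hd1, sub_self]
      · rw [hL, Pi.sub_apply]
    have hsum : ∑ i : Fin n, (r i.castSucc - d i.castSucc) * a i.castSucc = 0 := by
      calc ∑ i : Fin n, (r i.castSucc - d i.castSucc) * a i.castSucc
          = (∑ i : Fin n, r i.castSucc * a i.castSucc) + (∑ i : Fin n, c i * a i.castSucc) * a (Fin.last n) := by
            rw [Finset.sum_mul, ← Finset.sum_add_distrib]
            refine Finset.sum_congr rfl fun i _ => ?_
            rw [hd2]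
            ring
        _ = 0 := by rw [show ∑ i : Fin n, c i * a i.castSucc = r (Fin.last n) from hc]; exact hr
    have hmem := ih (a ∘ Fin.castSucc) (fun i x hx => by
      have hset : (a ∘ Fin.castSucc) '' {j | j < i} = a '' {j | j < i.castSucc} := by
        ext y
        constructor
        · rintro ⟨j, hj, rfl⟩
          exact ⟨_, Fin.castSucc_lt_castSucc_iff.2 hj, rfl⟩
        · rintro ⟨j, hj, rfl⟩
          obtain ⟨j', rfl⟩ := Fin.exists_castSucc_eq.2 (ne_of_lt (lt_of_lt_of_le hj (Fin.le_last _)))
          exact ⟨j', Fin.castSucc_lt_castSucc_iff.1 hj, rfl⟩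
      rw [hset] at hx ⊢
      exact ha _ x hx) _ hsum
    have hLk : (koszulRel (a ∘ Fin.castSucc)).map L ≤ koszulRel a := by
      rw [koszulRel, Submodule.map_span, Submodule.span_le]
      rintro _ ⟨_, ⟨i, j, rfl⟩, rfl⟩
      have hs : ∀ i : Fin n, L (Pi.single i 1) = Pi.single i.castSucc 1 := by
        intro i
        funext l
        refine Fin.lastCases ?_ (fun l => ?_) l
        · rw [hL', Pi.single_eq_of_ne (Fin.castSucc_lt_last i).ne']
        · rw [hL]
          by_cases h : l = i
          · subst h; simp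
          · rw [Pi.single_eq_of_ne h, Pi.single_eq_of_ne (fun h' => h (Fin.castSucc_injective n h'))]
      rw [map_sub, map_smul, map_smul, hs, hs]
      exact Submodule.subset_span ⟨i.castSucc, j.castSucc, rfl⟩
    have := add_mem (hLk ⟨_, hmem, hr'.symm⟩) hd
    rwa [sub_add_cancel] at this

end Koszul

/-- A quotient by a regular sequence has vanishing `T²`. -/
theorem subsingleton_T2_of_regular {A B : Type u} [CommRing A] [CommRing B] [Algebra A B]
    (hs : Function.Surjective (algebraMap A B)) (rs : List A) (hreg : RingTheory.Sequence.IsWeaklyRegular A rs)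
    (hI : RingHom.ker (algebraMap A B) = Ideal.ofList rs) (M : Type m) [AddCommGroup M] [Module B M] :
    Subsingleton (T2 (canon A B) M) := by
  classical
  let G : Algebra.Generators A B PEmpty.{u + 1} := Algebra.Generators.ofSurjectiveAlgebraMap hs
  let C' : A →+* G.toExtension.Ring := MvPolynomial.C
  have hC : Function.Surjective C' := MvPolynomial.C_surjective _
  have hCi : Function.Injective C' := MvPolynomial.C_injective _ _
  have hker : G.toExtension.ker = (Ideal.ofList rs).map C' := by
    rw [← hI]
    ext p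
    obtain ⟨a, rfl⟩ := hC p
    rw [Ideal.mem_map_iff_of_surjective _ hC]
    change algebraMap G.toExtension.Ring B (C' a) = 0 ↔ _
    have : algebraMap G.toExtension.Ring B (C' a) = algebraMap A B a :=
      (G.algebraMap_apply (C' a)).trans (MvPolynomial.aeval_C _ a)
    rw [this]
    exact ⟨fun h => ⟨a, h, rfl⟩, fun ⟨b, hb, e⟩ => by rw [← hCi e]; exact hb⟩
  let Q : Algebra.Presentation A B PEmpty.{u + 1} (ULift.{u} (Fin rs.length)) :=
    { toGenerators := G
      relation := fun i => C' rs[i.down.1]
      span_range_relation_eq_ker := by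
        refine Eq.trans ?_ hker.symm
        rw [Ideal.ofList, Ideal.map_span]
        congr 1
        ext p
        constructor
        · rintro ⟨i, rfl⟩
          exact ⟨_, List.getElem_mem i.down.2, rfl⟩
        · rintro ⟨a, ha, rfl⟩
          obtain ⟨i, hi, rfl⟩ := List.getElem_of_mem ha
          exact ⟨⟨⟨i, hi⟩⟩, rfl⟩ }
  obtain ⟨-, -, ⟨e2⟩⟩ := exists_equiv (canon A B) Q M
  haveI : Subsingleton (T2 Q M) := subsingleton_T2_of Q M fun q => by
    let a : Fin rs.length → Q.toExtension.Ring := fun i => rel Q ⟨i⟩
    have ha : ∀ i : Fin rs.length, ∀ x, x * a i ∈ Ideal.span (a '' {j | j < i}) →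
        x ∈ Ideal.span (a '' {j | j < i}) := by
      intro i x hx
      have hspan : Ideal.span (a '' {j | j < i}) = (Ideal.ofList (rs.take i.1)).map C' := by
        rw [Ideal.ofList, Ideal.map_span]
        congr 1
        ext p
        constructor
        · rintro ⟨j, hj, rfl⟩
          refine ⟨rs[j.1], ?_, rfl⟩
          exact List.mem_take_iff_getElem.2 ⟨j.1, lt_min hj j.2, rfl⟩
        · rintro ⟨b, hb, rfl⟩
          obtain ⟨j, hj, rfl⟩ := List.mem_take_iff_getElem.1 hb
          exact ⟨⟨j, (lt_min_iff.1 hj).2⟩, (lt_min_iff.1 hj).1, rfl⟩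
      obtain ⟨x₀, rfl⟩ := hC x
      rw [hspan, Ideal.mem_map_iff_of_surjective _ hC] at hx ⊢
      obtain ⟨y, hy, e⟩ := hx
      refine ⟨x₀, ?_, rfl⟩
      have e' : y = x₀ * rs[i.1] := hCi (e.trans (map_mul C' _ _).symm)
      subst e'
      have h := hreg.regular_mod_prev i.1 i.2
      have key : ∀ z : A, z ∈ (Ideal.ofList (rs.take i.1) • ⊤ : Submodule A A) ↔ z ∈ Ideal.ofList (rs.take i.1) := by
        intro z
        rw [smul_eq_mul, Ideal.mul_top]
      rw [← key, ← Submodule.Quotient.mk_eq_zero]
      refine h ?_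
      change rs[i.1] • (Submodule.Quotient.mk x₀ : A ⧸ _) = rs[i.1] • 0
      rw [smul_zero, ← Submodule.Quotient.mk_smul, Submodule.Quotient.mk_eq_zero, key, smul_eq_mul, mul_comm]
      exact hy
    let Φ : (Fin rs.length → Q.toExtension.Ring) →ₗ[Q.toExtension.Ring] relMod Q :=
      ∑ i, (LinearMap.toSpanSingleton _ _ (Finsupp.single (⟨i⟩ : ULift (Fin rs.length)) (1 : Q.toExtension.Ring))).comp
        (LinearMap.proj i)
    have hΦ : ∀ i, Φ (Pi.single i 1) = Finsupp.single (⟨i⟩ : ULift (Fin rs.length)) 1 := by
      intro i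
      simp only [Φ, LinearMap.sum_apply, LinearMap.comp_apply, LinearMap.proj_apply, LinearMap.toSpanSingleton_apply]
      rw [Finset.sum_eq_single i]
      · rw [Pi.single_eq_same, one_smul]
      · intro j _ hj
        rw [Pi.single_eq_of_ne hj, zero_smul]
      · simp
    have hq : Φ (fun i => (q : relMod Q) ⟨i⟩) = (q : relMod Q) := by
      refine Finsupp.ext fun l => ?_
      simp only [Φ, LinearMap.sum_apply, LinearMap.comp_apply, LinearMap.proj_apply, LinearMap.toSpanSingleton_apply]
      rw [Finsupp.finsetSum_apply, Finset.sum_eq_single l.down]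
      · simp
      · intro j _ hj
        rw [Finsupp.smul_apply, Finsupp.single_eq_of_ne (fun h => hj (congrArg ULift.down h).symm), smul_zero]
      · simp
    have hzero : ∑ i, (q : relMod Q) ⟨i⟩ * a i = 0 := by
      have h := congrArg (jmap Q) hq
      rw [show jmap Q (q : relMod Q) = 0 from q.2] at h
      simp only [Φ, LinearMap.sum_apply, LinearMap.comp_apply, LinearMap.proj_apply, LinearMap.toSpanSingleton_apply,
        map_sum, map_smul, jmap_single, one_mul, smul_eq_mul] at h
      exact h
    have hmem := mem_koszulRel a ha _ hzero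
    have hle : (koszulRel a).map Φ ≤ trivRel Q := by
      rw [koszulRel, Submodule.map_span, Submodule.span_le]
      rintro _ ⟨_, ⟨i, j, rfl⟩, rfl⟩
      rw [map_sub, map_smul, map_smul, hΦ, hΦ]
      refine Submodule.subset_span ⟨Finsupp.single ⟨i⟩ 1, Finsupp.single ⟨j⟩ 1, ?_⟩
      rw [jmap_single, jmap_single, one_mul, one_mul]
    rw [← hq]
    exact hle ⟨_, hmem, rfl⟩
  exact e2.toEquiv.subsingleton

end Groth.ArtfunDeform
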